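import Cfsg.Agent.SylowU5.Facts

/-!
The group `M0` of order 1024 satisfies `U5T`: the fields.
-/

set_option autoImplicit false
set_option maxRecDepth 10000

namespace Cfsg.Agent.SylowU5.Model.M0

open Cfsg.Agent.SylowU5.Basic

theorem dN_mul_n (i j : Fin 5) : (d i * d j).n = cm (dN i.1) (dN j.1) := rfl

theorem z_comm (g : M0) : g * d 0 = d 0 * g := by
  rw [← com_iff]
  exact allB_apply c_z_comm g.lt

theorem center_T (x : M0) (h : ∀ g, g * x = x * g) : x = 1 ∨ x = d 0 := by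
  have h1 := (imp_iff _ _).1 (allB_apply c_center x.lt) (by
    rw [Bool.and_eq_true, Bool.and_eq_true]
    exact ⟨com_iff.2 (h ⟨256, by norm_num⟩), com_iff.2 (h ⟨512, by norm_num⟩),
      com_iff.2 (h ⟨64, by norm_num⟩)⟩)
  have h2 : x.n ≤ 1 := Nat.le_of_ble_eq_true h1
  rcases Nat.le_one_iff_eq_zero_or_eq_one.1 h2 with h3 | h3
  · left; exact M0.ext h3
  · right; exact M0.ext (h3.trans d0_n.symm)

theorem fQ_of_lt_eight {n : ℕ} (h : n < 8) : fQ n = true := by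
  revert n; decide

theorem center_two (x : M0) (h : ∀ g, g * x = x * g ∨ g * x = x * g * d 0) : x ∈ E ∧ x ∈ Q := by
  have h1 := (imp_iff _ _).1 (allB_apply c_center2 x.lt) (by
    rw [Bool.and_eq_true]
    exact ⟨comz_iff.2 (h ⟨256, by norm_num⟩), comz_iff.2 (h ⟨64, by norm_num⟩)⟩)
  have h2 : x.n ≤ 7 := Nat.le_of_ble_eq_true h1
  exact ⟨mem_E.2 (by omega), mem_Q.2 (fQ_of_lt_eight (by omega))⟩

theorem d_mem (i : Fin 5) : d i ∈ E := mem_E.2 (dN_lt _)

theorem d_ne_one (i : Fin 5) : d i ≠ 1 := by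
  rw [Ne, eq_iff]
  revert i; decide +kernel

theorem d_inj (i j : Fin 5) (h : d i = d j) : i = j := by
  rw [eq_iff] at h
  revert i j; decide +kernel

theorem d_prod : d 0 * d 1 * d 2 * d 3 * d 4 = 1 := by
  rw [eq_iff]
  decide +kernel

theorem dd_ne_one (i j : Fin 5) (h : i ≠ j) : d i * d j ≠ 1 := by
  rw [Ne, eq_iff]
  revert i j; decide +kernel

theorem dd_ne_d (i j k : Fin 5) (h : i ≠ j) : d i * d j ≠ d k := by
  rw [Ne, eq_iff]
  revert i j k; decide +kernel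

theorem dd_inj (i j k l : Fin 5) (h : i ≠ j) (h' : k ≠ l) (e : d i * d j = d k * d l) :
    (i = k ∧ j = l) ∨ (i = l ∧ j = k) := by
  rw [eq_iff] at e
  revert i j k l; decide +kernel

theorem E_cases (x : M0) (hx : x ∈ E) : x = 1 ∨ (∃ i, x = d i) ∨ ∃ i j, i ≠ j ∧ x = d i * d j := by
  have h := allB_apply c_Ecases (mem_E.1 hx)
  rw [Bool.or_eq_true, Bool.or_eq_true, exB_iff, exB_iff] at h
  rcases h with h | ⟨i, hi, h⟩ | ⟨i, hi, h⟩
  · left; exact eq_iff.2 h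
  · right; left; exact ⟨⟨i, hi⟩, eq_iff.2 h⟩
  · right; right
    rw [exB_iff] at h
    obtain ⟨j, hj, h⟩ := h
    rw [Bool.and_eq_true] at h
    refine ⟨⟨i, hi⟩, ⟨j, hj⟩, ?_, eq_iff.2 h.2⟩
    rintro hij
    have : i = j := congrArg Fin.val hij
    rw [this] at h
    simp at h

theorem E_sq (x : M0) (hx : x ∈ E) : x * x = 1 := eq_iff.2 (allB_apply c_Esq (mem_E.1 hx))

theorem sub_le {A : Subgroup M0} {f : ℕ → Bool} (h : ∀ x ∈ A, f x.n = true) :
    Nat.card A ≤ countB f 1024 := by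
  rw [← natCard_codes]
  exact Nat.card_le_card_of_injective (fun x : A => (⟨x.1, h x.1 x.2⟩ : {x : M0 // f x.n = true}))
    (fun x y hxy => Subtype.ext (congrArg (fun z : {x : M0 // f x.n = true} => z.1) hxy))

theorem fU_iff {x : M0} : fU x.n = true ↔ x ∉ E ∧ x * x = 1 := by
  unfold fU
  rw [Bool.and_eq_true, eq_iff, mem_E]
  simp only [fE, Bool.not_eq_true', mul_n, one_n]
  refine and_congr_left fun _ => ?_
  rw [← Bool.not_eq_true, Nat.ble_eq]
  omega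

theorem invol (x : M0) (hx : x * x = 1) : x ∈ E ∨ x ∈ Q := by
  have h := (imp_iff _ _).1 (allB_apply c_invol x.lt) (eq_iff.1 hx)
  rw [Bool.or_eq_true] at h
  rcases h with h | h
  · left; exact h
  · right; exact h

theorem cent_u (u : M0) (h1 : u * u = 1) (h2 : u ∉ E) (g : M0) (h : g * u = u * g) : g ∈ Q :=
  (imp_iff _ _).1 (allB_apply ((imp_iff _ _).1 (allB_apply c_centu u.lt) (fU_iff.2 ⟨h2, h1⟩)) g.lt)
    (com_iff.2 h)

theorem E_unique (A : Subgroup M0) (hA : ∀ x ∈ A, x * x = 1) (hc : Nat.card A = 16) : A = E := by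
  by_cases hAE : A ≤ E
  · exact Subgroup.eq_of_le_of_card_ge hAE (by rw [hc, card_E])
  exfalso
  have hcomm : ∀ x ∈ A, ∀ y ∈ A, x * y = y * x := by
    intro x hx y hy
    have h1 := hA (x * y) (A.mul_mem hx hy)
    have h2 := hA x hx
    have h3 := hA y hy
    have e1 : x⁻¹ = x := inv_eq_of_mul_eq_one_left h2
    have e2 : y⁻¹ = y := inv_eq_of_mul_eq_one_left h3
    have e3 : (x * y)⁻¹ = x * y := inv_eq_of_mul_eq_one_left h1
    rw [← e3, mul_inv_rev, e1, e2]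
  obtain ⟨u, huA, huE⟩ := SetLike.not_le_iff_exists.1 hAE
  have hu2 := hA u huA
  have hAQ : ∀ x ∈ A, x ∈ Q := fun x hx => cent_u u hu2 huE x (hcomm x hx u huA)
  -- an element outside `⟨z, u⟩`
  have hex : ∃ x ∈ A, ¬ (x = 1 ∨ x = u ∨ x = d 0 ∨ x = u * d 0) := by
    by_contra hcon
    push Not at hcon
    have hle : Nat.card A ≤ 4 := by
      have hf : ∀ x ∈ A, (fun n => Nat.beq n 0 || (Nat.beq n u.n || (Nat.beq n 1 ||
          Nat.beq n (cm u.n 1)))) x.n = true := by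
        intro x hx
        simp only [Bool.or_eq_true]
        by_contra h'
        push Not at h'
        exact absurd (hcon x hx) (by
          simp only [eq_iff (x := x), one_n, d0_n, mul_n]
          simpa using h')
      refine (sub_le (f := fun n => Nat.beq n 0 || (Nat.beq n u.n || (Nat.beq n 1 ||
          Nat.beq n (cm u.n 1)))) hf).trans ?_
      rw [countB_eq]
      refine (Finset.card_le_card (t := {0, u.n, 1, cm u.n 1}) ?_).trans Finset.card_le_four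
      intro n hn
      simp only [Finset.mem_filter, Bool.or_eq_true, Nat.beq_eq] at hn
      simp only [Finset.mem_insert, Finset.mem_singleton]
      exact hn.2
    rw [hc] at hle
    omega
  obtain ⟨x, hxA, hx⟩ := hex
  have h := (imp_iff _ _).1 (allB_apply ((imp_iff _ _).1 (allB_apply c_rank u.lt)
    (fU_iff.2 ⟨huE, hu2⟩)) x.lt) (by
      simp only [Bool.and_eq_true, Bool.not_eq_true', Bool.or_eq_false_iff]
      refine ⟨hAQ x hxA, eq_iff.1 (hA x hxA), com_iff.2 (hcomm x hxA u huA), ?_⟩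
      simp only [← Bool.not_eq_true, ← not_or]
      intro h'
      apply hx
      simp only [eq_iff (x := x), one_n, d0_n, mul_n]
      exact h')
  have h3 := Nat.le_of_ble_eq_true h
  have h4 : Nat.card A ≤ countB (fun y => fQ y && (Nat.beq (cm y y) 0 && (com y u.n && com y x.n)))
      1024 := by
    refine sub_le (fun y hy => ?_)
    simp only [Bool.and_eq_true]
    exact ⟨hAQ y hy, eq_iff.1 (hA y hy), com_iff.2 (hcomm y hy u huA), com_iff.2 (hcomm y hy x hxA)⟩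
  rw [hc] at h4
  omega

theorem mem_V_iff (g : M0) : g ∈ V ↔ ∀ x ∈ E, g * x = x * g := by
  constructor
  · intro hg x hx
    exact com_iff.1 (allB_apply (allB_apply c_centVE (mem_V.1 hg)) (mem_E.1 hx))
  · intro h
    exact (imp_iff _ _).1 (allB_apply (allB_apply c_cent_d g.lt) (by norm_num : (0 : ℕ) < 4))
      (com_iff.2 (h (d 1) (d_mem 1)))

theorem cent_d (j : Fin 5) (hj : j ≠ 0) (g : M0) (h : g * d j = d j * g) : g ∈ V := by
  obtain ⟨i, rfl⟩ := Fin.exists_succ_eq.2 hj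
  exact (imp_iff _ _).1 (allB_apply (allB_apply c_cent_d g.lt) i.2) (com_iff.2 h)

theorem conj_d (g : M0) (i : Fin 5) : ∃ j, g * d i * g⁻¹ = d j := by
  have h := allB_apply (allB_apply c_conj_d g.lt) i.2
  rw [exB_iff] at h
  obtain ⟨j, hj, h⟩ := h
  refine ⟨⟨j, hj⟩, ?_⟩
  rw [mul_inv_eq_iff_eq_mul]
  exact eq_iff.2 h

theorem conj_d_trans (j : Fin 5) (hj : j ≠ 0) : ∃ g : M0, g * d 1 * g⁻¹ = d j := by
  obtain ⟨i, rfl⟩ := Fin.exists_succ_eq.2 hj
  have h := allB_apply c_conj_tr i.2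
  refine ⟨⟨256 * i.1, by have := i.2; omega⟩, ?_⟩
  rw [mul_inv_eq_iff_eq_mul]
  exact eq_iff.2 h

theorem sq_mem_V (g : M0) : g * g ∈ V := allB_apply c_sqV g.lt

theorem V_invol (x : M0) (hx : x ∈ V) (h : x * x = 1) : x ∈ E :=
  (imp_iff _ _).1 (allB_apply c_Vinv (mem_V.1 hx)) (eq_iff.1 h)

theorem not_fE {x : M0} (h : x ∉ E) : (!(fE x.n)) = true := by
  rw [Bool.not_eq_true', ← Bool.not_eq_true]
  exact h

theorem V_sq (x : M0) (hx : x ∈ V) (h : x ∉ E) : ∃ i, x * x = d i := by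
  have h1 := (imp_iff _ _).1 (allB_apply c_Vsq (mem_V.1 hx)) (not_fE h)
  rw [exB_iff] at h1
  obtain ⟨i, hi, h2⟩ := h1
  exact ⟨⟨i, hi⟩, eq_iff.2 h2⟩

theorem V_sq_ex (i : Fin 5) : ∃ x ∈ V, x * x = d i := by
  have h1 := allB_apply c_Vsqex i.2
  rw [exB_iff] at h1
  obtain ⟨x, hx, h2⟩ := h1
  exact ⟨⟨x, lt_trans hx (by norm_num)⟩, mem_V.2 hx, eq_iff.2 h2⟩

theorem cent_V (v : M0) (hv : v ∈ V) (hvE : v ∉ E) (x : M0) (hx : x ∈ V) (h : x * v = v * x) :
    x ∈ E ∨ x * v ∈ E := by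
  have h1 := (imp_iff _ _).1 (allB_apply ((imp_iff _ _).1 (allB_apply c_centV (mem_V.1 hv))
    (not_fE hvE)) (mem_V.1 hx)) (com_iff.2 h)
  rw [Bool.or_eq_true] at h1
  exact h1

theorem mem_L (i : Fin 5) (x : M0) : x ∈ L i ↔ (x ∈ V ∧ (x * x = 1 ∨ x * x = d i)) := by
  constructor
  · intro h
    have hV := fL_lt h
    refine ⟨mem_V.2 hV, ?_⟩
    have h1 := allB_apply (allB_apply c_memL i.2) hV
    have h2 : fL i.1 x.n = true := h
    rw [Bool.and_eq_true, h2] at h1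
    have h3 := h1.2
    rw [cond_true, Bool.or_eq_true] at h3
    rcases h3 with h3 | h3
    · left; exact eq_iff.2 h3
    · right; exact eq_iff.2 h3
  · rintro ⟨hV, h⟩
    have h1 := allB_apply (allB_apply c_memL i.2) (mem_V.1 hV)
    rw [Bool.and_eq_true] at h1
    have h3 := h1.2
    by_contra hx
    have h2 : fL i.1 x.n = false := by
      rw [← Bool.not_eq_true]; exact hx
    rw [h2, cond_false, Bool.not_eq_true', Bool.or_eq_false_iff] at h3
    rcases h with h | h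
    · exact absurd (eq_iff.1 h) (by rw [Bool.not_eq_true]; exact h3.1)
    · exact absurd (eq_iff.1 h) (by rw [Bool.not_eq_true]; exact h3.2)

theorem d_not_mem_Q (i : Fin 5) (hi : i ≠ 0) : d i ∉ Q := by
  obtain ⟨i, rfl⟩ := Fin.exists_succ_eq.2 hi
  have h := allB_apply c_dQ i.2
  rw [Bool.not_eq_true', ← Bool.not_eq_true] at h
  exact h

theorem dd_mem_Q (i j : Fin 5) (hi : i ≠ 0) (hj : j ≠ 0) : d i * d j ∈ Q := by
  obtain ⟨i, rfl⟩ := Fin.exists_succ_eq.2 hi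
  obtain ⟨j, rfl⟩ := Fin.exists_succ_eq.2 hj
  exact allB_apply (allB_apply c_ddQ i.2) j.2

theorem z_mem_Q : d 0 ∈ Q := by
  change fQ (dN 0) = true
  decide

theorem Q_sq (x : M0) (hx : x ∈ Q) : x * x = 1 ∨ x * x = d 0 := by
  have h := Nat.le_of_ble_eq_true ((imp_iff _ _).1 (allB_apply c_Qsq x.lt) hx)
  rcases Nat.le_one_iff_eq_zero_or_eq_one.1 h with h3 | h3
  · left; exact M0.ext h3
  · right; exact M0.ext (h3.trans d0_n.symm)

theorem Q_comm (x : M0) (hx : x ∈ Q) (y : M0) (hy : y ∈ Q) : x * y = y * x ∨ x * y = y * x * d 0 :=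
  comz_iff.1 ((imp_iff _ _).1 (allB_apply ((imp_iff _ _).1 (allB_apply c_Qcomm x.lt) hx) y.lt) hy)

theorem Q_cent (g : M0) (h : ∀ x ∈ Q, g * x = x * g) : g = 1 ∨ g = d 0 := by
  have h1 := (imp_iff _ _).1 (allB_apply c_Qcent g.lt) (by
    simp only [Bool.and_eq_true]
    exact ⟨com_iff.2 (h ⟨2, by norm_num⟩ (by change fQ 2 = true; decide)),
      com_iff.2 (h ⟨4, by norm_num⟩ (by change fQ 4 = true; decide)),
      com_iff.2 (h ⟨16, by norm_num⟩ (by change fQ 16 = true; decide)),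
      com_iff.2 (h ⟨32, by norm_num⟩ (by change fQ 32 = true; decide)),
      com_iff.2 (h ⟨256, by norm_num⟩ (by change fQ 256 = true; decide)),
      com_iff.2 (h ⟨512, by norm_num⟩ (by change fQ 512 = true; decide))⟩)
  rcases Nat.le_one_iff_eq_zero_or_eq_one.1 (Nat.le_of_ble_eq_true h1) with h3 | h3
  · left; exact M0.ext h3
  · right; exact M0.ext (h3.trans d0_n.symm)

theorem Q_two (x : M0) (hx : x ∈ Q) : ∃ a b : M0, (a ∈ Q ∧ a * a = 1 ∧ a ∉ E) ∧
    (b ∈ Q ∧ b * b = 1 ∧ b ∉ E) ∧ x = a * b := by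
  have h := (imp_iff _ _).1 (allB_apply c_Qgen x.lt) hx
  rw [exB_iff] at h
  obtain ⟨a, ha, h⟩ := h
  simp only [Bool.and_eq_true] at h
  obtain ⟨⟨h1, h2⟩, h3, h4⟩ := h
  set A : M0 := ⟨a, ha⟩
  have hA := (fU_iff (x := A)).1 h1
  have hB := (fU_iff (x := A * x)).1 h3
  refine ⟨A, A * x, ⟨h2, hA.2, hA.1⟩, ⟨h4, hB.2, hB.1⟩, ?_⟩
  rw [← mul_assoc, hA.2, one_mul]

theorem Q_gen : Q ≤ Subgroup.closure {u : M0 | u ∈ Q ∧ u * u = 1 ∧ u ∉ E} := by
  intro x hx
  obtain ⟨a, b, ha, hb, rfl⟩ := Q_two x hx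
  exact Subgroup.mul_mem _ (Subgroup.subset_closure ha) (Subgroup.subset_closure hb)

theorem E_conj (g x : M0) (hx : x ∈ E) : g * x * g⁻¹ ∈ E := by
  have h := allB_apply (allB_apply c_Enorm g.lt) (mem_E.1 hx)
  rw [Bool.and_eq_true] at h
  obtain ⟨h1, h2⟩ := h
  have h3 : Nat.xor (cm g.n x.n) g.n < 1024 := xor_lt (cm_lt g.lt x.lt) g.lt
  have h4 : g * x = (⟨_, h3⟩ : M0) * g := eq_iff.2 h1
  rw [h4, mul_inv_cancel_right]
  exact h2

theorem Q_normal_aux (g u : M0) (h : u ∈ Q ∧ u * u = 1 ∧ u ∉ E) : g * u * g⁻¹ ∈ Q := by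
  have h1 : (g * u * g⁻¹) * (g * u * g⁻¹) = 1 := by
    calc (g * u * g⁻¹) * (g * u * g⁻¹) = g * (u * u) * g⁻¹ := by group
      _ = 1 := by rw [h.2.1]; group
  rcases invol _ h1 with h2 | h2
  · exfalso
    apply h.2.2
    have h3 := E_conj g⁻¹ _ h2
    have h4 : g⁻¹ * (g * u * g⁻¹) * g⁻¹⁻¹ = u := by group
    rw [h4] at h3
    exact h3
  · exact h2

theorem Q_normal (g x : M0) (hx : x ∈ Q) : g * x * g⁻¹ ∈ Q := by
  obtain ⟨a, b, ha, hb, rfl⟩ := Q_two x hx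
  have : g * (a * b) * g⁻¹ = (g * a * g⁻¹) * (g * b * g⁻¹) := by group
  rw [this]
  exact Q.mul_mem (Q_normal_aux g a ha) (Q_normal_aux g b hb)

theorem Q_card_invol : Nat.card {x : M0 // x ∈ Q ∧ x * x = 1} = 56 := by
  rw [← c_cardI, ← natCard_codes]
  refine Nat.card_congr (Equiv.subtypeEquivRight fun x => ?_)
  rw [Bool.and_eq_true]
  exact and_congr Iff.rfl eq_iff

theorem T_mod_Q (g : M0) (hg : g ∉ Q) : g * d 1 ∈ Q ∨ g * g * d 1 ∈ Q := by
  have h := (imp_iff _ _).1 (allB_apply c_TmodQ g.lt) (by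
    rw [Bool.not_eq_true', ← Bool.not_eq_true]; exact hg)
  rw [Bool.or_eq_true] at h
  exact h

theorem cent_mod_z (x : M0) (hx : x ∈ Q) (hxE : x ∉ E) (s : M0)
    (h : s * x = x * s ∨ s * x = x * s * d 0) : s ∈ Q ∨ s * d 1 ∈ Q := by
  have h1 := (imp_iff _ _).1 (allB_apply ((imp_iff _ _).1 (allB_apply c_centmodz x.lt) (by
    rw [Bool.and_eq_true]; exact ⟨hx, not_fE hxE⟩)) s.lt) (comz_iff.2 h)
  rw [Bool.or_eq_true] at h1
  exact h1

theorem z_sq_u (u : M0) (h1 : u * u = 1) (h2 : u ∉ E) : ∃ v ∈ Q, v * u = u * v ∧ v * v = d 0 := by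
  have h := (imp_iff _ _).1 (allB_apply c_zsq u.lt) (fU_iff.2 ⟨h2, h1⟩)
  rw [exB_iff] at h
  obtain ⟨v, hv, h⟩ := h
  simp only [Bool.and_eq_true] at h
  refine ⟨⟨v, hv⟩, h.1, com_iff.1 h.2.1, ?_⟩
  rw [eq_iff]
  have := h.2.2
  rw [← d0_n] at this
  exact this

theorem xor_V (a b : ℕ) (h : a >>> 8 = b >>> 8) : fV (Nat.xor a b) = true := by
  have h1 : (a ^^^ b) >>> 8 = 0 := by
    rw [Nat.shiftRight_xor_distrib, h, Nat.xor_self]
  rw [Nat.shiftRight_eq_div_pow] at h1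
  change Nat.ble (a ^^^ b) 255 = true
  rw [Nat.ble_eq]
  have : (a ^^^ b) / 256 = 0 := h1
  omega

theorem mul_shift8 (x y : M0) : (x * y).n >>> 8 = (x.n >>> 8) ^^^ (y.n >>> 8) := by
  rw [mul_n]
  change ((x.n ^^^ y.n) ^^^ kap x.n y.n) >>> 8 = _
  rw [Nat.shiftRight_xor_distrib, Nat.shiftRight_xor_distrib]
  have h1 : kap x.n y.n >>> 8 = 0 := by
    rw [Nat.shiftRight_eq_div_pow]
    have := kap_lt x.n y.n
    omega
  rw [h1, Nat.xor_zero]

theorem mem_V_shift (x : M0) : x ∈ V ↔ x.n >>> 8 = 0 := by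
  rw [mem_V, Nat.shiftRight_eq_div_pow]
  omega

theorem coset_V (x y : M0) : x * y⁻¹ ∈ V ↔ x.n >>> 8 = y.n >>> 8 := by
  have h := mul_shift8 (x * y⁻¹) y
  rw [inv_mul_cancel_right] at h
  rw [mem_V_shift, h]
  constructor
  · intro h1
    rw [h1, Nat.zero_xor]
  · intro h1
    have h2 := congrArg (fun t => t ^^^ (y.n >>> 8)) h1
    simpa [Nat.xor_assoc] using h2

theorem conj_u (u : M0) (h1 : u * u = 1) (h2 : u ∉ E) (u' : M0) (h3 : u' * u' = 1) (h4 : u' ∉ E)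
    (h : u * u'⁻¹ ∈ V) : ∃ g : M0, g * u * g⁻¹ = u' := by
  have h5 := (imp_iff _ _).1 (allB_apply ((imp_iff _ _).1 (allB_apply c_conju u.lt)
    (fU_iff.2 ⟨h2, h1⟩)) u'.lt) (by
      rw [Bool.and_eq_true]
      exact ⟨fU_iff.2 ⟨h4, h3⟩, xor_V _ _ ((coset_V u u').1 h)⟩)
  rw [exB_iff] at h5
  obtain ⟨g, hg, h6⟩ := h5
  refine ⟨⟨g, lt_trans hg (by norm_num)⟩, ?_⟩
  rw [mul_inv_eq_iff_eq_mul]
  exact eq_iff.2 h6

theorem exists_u (g : M0) (hg : g ∉ V) : ∃ u ∈ Q, u * u = 1 ∧ u * g⁻¹ ∈ V := by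
  have h := (imp_iff _ _).1 (allB_apply c_exu g.lt) (by
    rw [Bool.not_eq_true', ← Bool.not_eq_true]; exact hg)
  rw [exB_iff] at h
  obtain ⟨u, hu, h⟩ := h
  simp only [Bool.and_eq_true] at h
  exact ⟨⟨u, hu⟩, h.1, eq_iff.2 h.2.1, h.2.2⟩

/-- The group `M0` of order 1024 satisfies all the facts `U5T`. -/
def u5T : U5T (⊤ : Subgroup M0) where
  d := d
  E := E
  V := V
  Q := Q
  card_T := by rw [Subgroup.card_top]; exact card
  card_E := card_E
  card_V := card_V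
  card_Q := card_Q
  V_le := le_top
  E_le := fun x hx => mem_V.2 (lt_trans (mem_E.1 hx) (by norm_num))
  Q_le := le_top
  z_comm := fun g _ => z_comm g
  center_T := fun x _ h => center_T x (fun g => h g trivial)
  center_two := fun x _ h => center_two x (fun g => h g trivial)
  d_mem := d_mem
  d_ne_one := d_ne_one
  d_inj := d_inj
  d_prod := d_prod
  dd_ne_one := dd_ne_one
  dd_ne_d := dd_ne_d
  dd_inj := dd_inj
  E_cases := E_cases
  E_sq := E_sq
  E_unique := fun A _ h hc => E_unique A h hc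
  mem_V_iff := fun g _ => mem_V_iff g
  conj_d := fun g _ i => conj_d g i
  conj_d_trans := fun j hj => let ⟨g, hg⟩ := conj_d_trans j hj; ⟨g, trivial, hg⟩
  cent_d := fun j hj g _ h => cent_d j hj g h
  sq_mem_V := fun g _ => sq_mem_V g
  V_invol := V_invol
  V_sq := V_sq
  V_sq_ex := V_sq_ex
  cent_V := cent_V
  L := L
  card_L := card_L
  mem_L := mem_L
  z_mem_Q := z_mem_Q
  d_not_mem_Q := d_not_mem_Q
  dd_mem_Q := dd_mem_Q
  Q_normal := fun g _ => Q_normal g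
  Q_sq := Q_sq
  Q_comm := Q_comm
  Q_cent := fun g _ => Q_cent g
  Q_gen := Q_gen
  Q_card_invol := Q_card_invol
  T_mod_Q := fun g _ => T_mod_Q g
  cent_mod_z := fun x hx hxE s _ => cent_mod_z x hx hxE s
  invol := fun x _ => invol x
  cent_u := fun u _ h1 h2 g _ => cent_u u h1 h2 g
  z_sq_u := fun u _ => z_sq_u u
  conj_u := fun u _ h1 h2 u' _ h3 h4 h => let ⟨g, hg⟩ := conj_u u h1 h2 u' h3 h4 h; ⟨g, trivial, hg⟩
  exists_u := fun g _ => exists_u g

end Cfsg.Agent.SylowU5.Model.M0
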