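import Cfsg.Agent.SylowU5.Basic

/-!
Transport of `U5T` along an injective homomorphism.
-/

set_option autoImplicit false

namespace Cfsg.Agent.SylowU5.Basic

variable {G H : Type*} [Group G] [Group H] {T : Subgroup G}

theorem natCard_map_inj (K : Subgroup G) (f : G →* H) (hf : Function.Injective f) :
    Nat.card (K.map f) = Nat.card K :=
  Nat.card_congr (K.equivMapOfInjective f hf).symm.toEquiv

/-- Transport of `U5T` along an injective homomorphism. -/
def U5T.map (h : U5T T) (f : G →* H) (hf : Function.Injective f) : U5T (T.map f) where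
  d := fun i => f (h.d i)
  E := h.E.map f
  V := h.V.map f
  Q := h.Q.map f
  card_T := by rw [natCard_map_inj _ f hf, h.card_T]
  card_E := by rw [natCard_map_inj _ f hf, h.card_E]
  card_V := by rw [natCard_map_inj _ f hf, h.card_V]
  card_Q := by rw [natCard_map_inj _ f hf, h.card_Q]
  V_le := Subgroup.map_mono h.V_le
  E_le := Subgroup.map_mono h.E_le
  Q_le := Subgroup.map_mono h.Q_le
  z_comm := by
    rintro _ ⟨g, hg, rfl⟩
    rw [← map_mul, ← map_mul, h.z_comm g hg]
  center_T := by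
    rintro _ ⟨x, hx, rfl⟩ hc
    rcases h.center_T x hx (fun g hg => hf (by
      rw [map_mul, map_mul]; exact hc (f g) (Subgroup.mem_map_of_mem f hg))) with e | e
    · left; rw [e, map_one]
    · right; rw [e]
  center_two := by
    rintro _ ⟨x, hx, rfl⟩ hc
    have := h.center_two x hx (fun g hg => by
      rcases hc (f g) (Subgroup.mem_map_of_mem f hg) with e | e
      · left; exact hf (by rw [map_mul, map_mul]; exact e)
      · right; exact hf (by rw [map_mul, map_mul, map_mul]; exact e))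
    exact ⟨Subgroup.mem_map_of_mem f this.1, Subgroup.mem_map_of_mem f this.2⟩
  d_mem := fun i => Subgroup.mem_map_of_mem f (h.d_mem i)
  d_ne_one := fun i e => h.d_ne_one i (hf (by rw [e, map_one]))
  d_inj := fun i j e => h.d_inj i j (hf e)
  d_prod := by
    have := congrArg f h.d_prod
    simpa only [map_mul, map_one] using this
  dd_ne_one := fun i j hij e => h.dd_ne_one i j hij (hf (by rw [map_mul, map_one]; exact e))
  dd_ne_d := fun i j k hij e => h.dd_ne_d i j k hij (hf (by rw [map_mul]; exact e))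
  dd_inj := fun i j k l hij hkl e => h.dd_inj i j k l hij hkl (hf (by
    rw [map_mul, map_mul]; exact e))
  E_cases := by
    rintro _ ⟨x, hx, rfl⟩
    rcases h.E_cases x hx with e | ⟨i, e⟩ | ⟨i, j, hij, e⟩
    · left; rw [e, map_one]
    · right; left; exact ⟨i, by rw [e]⟩
    · right; right; exact ⟨i, j, hij, by rw [e, map_mul]⟩
  E_sq := by
    rintro _ ⟨x, hx, rfl⟩
    rw [← map_mul, h.E_sq x hx, map_one]
  E_unique := by
    intro A hA hsq hcard
    have hAr : A ≤ f.range := hA.trans (by rintro _ ⟨x, -, rfl⟩; exact ⟨x, rfl⟩)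
    have hA' : (A.comap f).map f = A := Subgroup.map_comap_eq_self hAr
    have h1 : A.comap f = h.E := by
      apply h.E_unique
      · intro x hx
        obtain ⟨y, hy, e⟩ := hA (Subgroup.mem_comap.1 hx)
        rw [← hf e]; exact hy
      · intro x hx
        exact hf (by rw [map_mul, map_one]; exact hsq _ (Subgroup.mem_comap.1 hx))
      · rw [← hcard, ← hA', natCard_map_inj _ f hf, hA']
    rw [← hA', h1]
  mem_V_iff := by
    rintro _ ⟨g, hg, rfl⟩
    rw [Subgroup.mem_map_iff_mem hf, h.mem_V_iff g hg]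
    constructor
    · rintro h1 _ ⟨x, hx, rfl⟩
      rw [← map_mul, ← map_mul, h1 x hx]
    · intro h1 x hx
      exact hf (by rw [map_mul, map_mul]; exact h1 _ (Subgroup.mem_map_of_mem f hx))
  conj_d := by
    rintro _ ⟨g, hg, rfl⟩ i
    obtain ⟨j, hj⟩ := h.conj_d g hg i
    exact ⟨j, by rw [← hj, map_mul, map_mul, map_inv]⟩
  conj_d_trans := by
    intro j hj
    obtain ⟨g, hg, e⟩ := h.conj_d_trans j hj
    exact ⟨f g, Subgroup.mem_map_of_mem f hg, by rw [← e, map_mul, map_mul, map_inv]⟩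
  cent_d := by
    rintro j hj _ ⟨g, hg, rfl⟩ e
    exact Subgroup.mem_map_of_mem f (h.cent_d j hj g hg (hf (by rw [map_mul, map_mul]; exact e)))
  sq_mem_V := by
    rintro _ ⟨g, hg, rfl⟩
    rw [← map_mul]
    exact Subgroup.mem_map_of_mem f (h.sq_mem_V g hg)
  V_invol := by
    rintro _ ⟨x, hx, rfl⟩ e
    exact Subgroup.mem_map_of_mem f (h.V_invol x hx (hf (by rw [map_mul, map_one]; exact e)))
  V_sq := by
    rintro _ ⟨x, hx, rfl⟩ hE
    rw [Subgroup.mem_map_iff_mem hf] at hE
    obtain ⟨i, e⟩ := h.V_sq x hx hE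
    exact ⟨i, by rw [← e, map_mul]⟩
  V_sq_ex := by
    intro i
    obtain ⟨x, hx, e⟩ := h.V_sq_ex i
    exact ⟨f x, Subgroup.mem_map_of_mem f hx, by rw [← e, map_mul]⟩
  cent_V := by
    rintro _ ⟨v, hv, rfl⟩ hvE _ ⟨x, hx, rfl⟩ e
    rw [Subgroup.mem_map_iff_mem hf] at hvE
    rw [← map_mul, Subgroup.mem_map_iff_mem hf, Subgroup.mem_map_iff_mem hf]
    exact h.cent_V v hv hvE x hx (hf (by rw [map_mul, map_mul]; exact e))
  L := fun i => (h.L i).map f
  card_L := fun i => by rw [natCard_map_inj _ f hf, h.card_L]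
  mem_L := by
    intro i y
    constructor
    · rintro ⟨x, hx, rfl⟩
      have h1 := (h.mem_L i x).1 hx
      refine ⟨Subgroup.mem_map_of_mem f h1.1, ?_⟩
      rcases h1.2 with e | e
      · left; rw [← map_mul, e, map_one]
      · right; rw [← map_mul, e]
    · rintro ⟨⟨x, hx, rfl⟩, h2⟩
      apply Subgroup.mem_map_of_mem f
      rw [h.mem_L]
      refine ⟨hx, ?_⟩
      rcases h2 with e | e
      · left; exact hf (by rw [map_mul, map_one]; exact e)
      · right; exact hf (by rw [map_mul]; exact e)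
  z_mem_Q := Subgroup.mem_map_of_mem f h.z_mem_Q
  d_not_mem_Q := fun i hi e => h.d_not_mem_Q i hi ((Subgroup.mem_map_iff_mem hf).1 e)
  dd_mem_Q := fun i j hi hj => by
    rw [← map_mul]; exact Subgroup.mem_map_of_mem f (h.dd_mem_Q i j hi hj)
  Q_normal := by
    rintro _ ⟨g, hg, rfl⟩ _ ⟨x, hx, rfl⟩
    rw [← map_inv, ← map_mul, ← map_mul]
    exact Subgroup.mem_map_of_mem f (h.Q_normal g hg x hx)
  Q_sq := by
    rintro _ ⟨x, hx, rfl⟩
    rcases h.Q_sq x hx with e | e
    · left; rw [← map_mul, e, map_one]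
    · right; rw [← map_mul, e]
  Q_comm := by
    rintro _ ⟨x, hx, rfl⟩ _ ⟨y, hy, rfl⟩
    rcases h.Q_comm x hx y hy with e | e
    · left; rw [← map_mul, e, map_mul]
    · right; rw [← map_mul, e, map_mul, map_mul]
  Q_cent := by
    rintro _ ⟨g, hg, rfl⟩ hc
    rcases h.Q_cent g hg (fun x hx => hf (by
      rw [map_mul, map_mul]; exact hc _ (Subgroup.mem_map_of_mem f hx))) with e | e
    · left; rw [e, map_one]
    · right; rw [e]
  Q_gen := by
    have h1 := Subgroup.map_mono (f := f) h.Q_gen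
    rw [MonoidHom.map_closure] at h1
    refine h1.trans (Subgroup.closure_mono ?_)
    rintro _ ⟨u, ⟨hu, hu2, huE⟩, rfl⟩
    refine ⟨Subgroup.mem_map_of_mem f hu, by rw [← map_mul, hu2, map_one], ?_⟩
    rw [Subgroup.mem_map_iff_mem hf]
    exact huE
  Q_card_invol := by
    rw [← h.Q_card_invol]
    refine Nat.card_congr (Equiv.ofBijective
      (fun x : {x : G // x ∈ h.Q ∧ x * x = 1} => (⟨f x.1, Subgroup.mem_map_of_mem f x.2.1, by
        rw [← map_mul, x.2.2, map_one]⟩ : {y : H // y ∈ h.Q.map f ∧ y * y = 1})) ⟨?_, ?_⟩).symm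
    · intro x y e
      exact Subtype.ext (hf (congrArg Subtype.val e))
    · rintro ⟨_, ⟨x, hx, rfl⟩, e⟩
      exact ⟨⟨x, hx, hf (by rw [map_mul, map_one]; exact e)⟩, rfl⟩
  T_mod_Q := by
    rintro _ ⟨g, hg, rfl⟩ hgQ
    rw [Subgroup.mem_map_iff_mem hf] at hgQ
    rw [← map_mul, ← map_mul, ← map_mul, Subgroup.mem_map_iff_mem hf, Subgroup.mem_map_iff_mem hf]
    exact h.T_mod_Q g hg hgQ
  cent_mod_z := by
    rintro _ ⟨x, hx, rfl⟩ hxE _ ⟨s, hs, rfl⟩ hc
    rw [Subgroup.mem_map_iff_mem hf] at hxE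
    rw [← map_mul, Subgroup.mem_map_iff_mem hf, Subgroup.mem_map_iff_mem hf]
    refine h.cent_mod_z x hx hxE s hs ?_
    rcases hc with e | e
    · left; exact hf (by rw [map_mul, map_mul]; exact e)
    · right; exact hf (by rw [map_mul, map_mul, map_mul]; exact e)
  invol := by
    rintro _ ⟨x, hx, rfl⟩ e
    rw [Subgroup.mem_map_iff_mem hf, Subgroup.mem_map_iff_mem hf]
    exact h.invol x hx (hf (by rw [map_mul, map_one]; exact e))
  cent_u := by
    rintro _ ⟨u, hu, rfl⟩ e huE _ ⟨g, hg, rfl⟩ hc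
    rw [Subgroup.mem_map_iff_mem hf] at huE ⊢
    exact h.cent_u u hu (hf (by rw [map_mul, map_one]; exact e)) huE g hg
      (hf (by rw [map_mul, map_mul]; exact hc))
  z_sq_u := by
    rintro _ ⟨u, hu, rfl⟩ e huE
    rw [Subgroup.mem_map_iff_mem hf] at huE
    obtain ⟨v, hv, h1, h2⟩ := h.z_sq_u u hu (hf (by rw [map_mul, map_one]; exact e)) huE
    exact ⟨f v, Subgroup.mem_map_of_mem f hv, by rw [← map_mul, h1, map_mul], by
      rw [← map_mul, h2]⟩
  conj_u := by
    rintro _ ⟨u, hu, rfl⟩ e huE _ ⟨u', hu', rfl⟩ e' huE' hc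
    rw [Subgroup.mem_map_iff_mem hf] at huE huE'
    rw [← map_inv, ← map_mul, Subgroup.mem_map_iff_mem hf] at hc
    obtain ⟨g, hg, h1⟩ := h.conj_u u hu (hf (by rw [map_mul, map_one]; exact e)) huE u' hu'
      (hf (by rw [map_mul, map_one]; exact e')) huE' hc
    exact ⟨f g, Subgroup.mem_map_of_mem f hg, by rw [← h1, map_mul, map_mul, map_inv]⟩
  exists_u := by
    rintro _ ⟨g, hg, rfl⟩ hgV
    rw [Subgroup.mem_map_iff_mem hf] at hgV
    obtain ⟨u, hu, h1, h2⟩ := h.exists_u g hg hgV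
    exact ⟨f u, Subgroup.mem_map_of_mem f hu, by rw [← map_mul, h1, map_one], by
      rw [← map_inv, ← map_mul]; exact Subgroup.mem_map_of_mem f h2⟩

end Cfsg.Agent.SylowU5.Basic
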