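import Cfsg.Agent.SylowU5.Unitary
import Cfsg.Agent.SylowU5.Model
import Cfsg.Agent.SylowU5.Transport

/-!
Every Sylow 2-subgroup of `PSU 5 F 2`, `|F| = 4`, is isomorphic to `M0`; consequently a Sylow
2-subgroup of type `PSU(5,2)` satisfies `U5T`.
-/

set_option autoImplicit false

open Cfsg

namespace Cfsg.Agent.SylowU5.Iso

open Cfsg.Agent.Lib.FieldFour Cfsg.Agent.SylowU5.Basic Cfsg.Agent.SylowU5.Model

theorem card_PSU {F : Type*} [Field F] [Fintype F] (hF : Fintype.card F = 4) :
    Nat.card (Cfsg.PSU 5 F 2) = 13685760 := by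
  have h := Cfsg.Agent.S0280.result (F := F) (q := 2) (by rw [hF]; norm_num) 5 (by norm_num)
  simp only [Finset.prod_range_succ, Finset.prod_range_zero] at h
  have e0 : Even 0 := by decide
  have e1 : ¬ Even 1 := by decide
  have e2 : Even 2 := by decide
  have e3 : ¬ Even 3 := by decide
  have e4 : Even 4 := by decide
  rw [if_pos e0, if_neg e1, if_pos e2, if_neg e3, if_pos e4] at h
  norm_num at h
  omega

/-- Sylow 2-subgroups of `PSU_5(2)` are isomorphic to `M0`. -/
theorem nonempty_mulEquiv {F : Type*} [Field F] [Fintype F] (hF : Fintype.card F = 4)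
    (P : Sylow 2 (Cfsg.PSU 5 F 2)) : Nonempty (M0 ≃* (P : Subgroup (Cfsg.PSU 5 F 2))) := by
  let e : Cfsg.PSU 5 F4 2 ≃* Cfsg.PSU 5 F 2 :=
    Cfsg.Agent.LieClassical.FieldTransfer.psuCongr 5 2 (equivOfCard hF).symm
  let f : M0 →* Cfsg.PSU 5 F 2 := (e : Cfsg.PSU 5 F4 2 →* Cfsg.PSU 5 F 2).comp toPSU
  have hf : Function.Injective f := e.injective.comp toPSU_injective
  have hcard : Nat.card f.range = 1024 := by
    rw [← M0.card]
    exact Nat.card_congr (MonoidHom.ofInjective hf).symm.toEquiv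
  have hfin : Finite (Cfsg.PSU 5 F 2) := Nat.finite_of_card_ne_zero (by rw [card_PSU hF]; norm_num)
  have hfac : (Nat.card (Cfsg.PSU 5 F 2)).factorization 2 = 10 := by
    rw [card_PSU hF]
    rw [show (13685760 : ℕ) = 2 ^ 10 * 13365 by norm_num, Nat.factorization_mul (by norm_num)
      (by norm_num), Finsupp.add_apply, Nat.Prime.factorization_pow Nat.prime_two,
      Finsupp.single_eq_same, Nat.factorization_eq_zero_of_not_dvd (by norm_num)]
  let Q : Sylow 2 (Cfsg.PSU 5 F 2) := Sylow.ofCard f.range (by rw [hcard, hfac]; norm_num)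
  have e2 : (Q : Subgroup (Cfsg.PSU 5 F 2)) = f.range := rfl
  exact ⟨(MonoidHom.ofInjective hf).trans ((MulEquiv.subgroupCongr e2.symm).trans (Q.equiv P))⟩

/-- A Sylow 2-subgroup of type `PSU(5,2)` satisfies `U5T`. -/
theorem nonempty_U5T {G : Type*} [Group G] (S : Subgroup G)
    {F : Type*} [Field F] [Fintype F] (hF : Fintype.card F = 4) (P : Sylow 2 (Cfsg.PSU 5 F 2))
    (hS : Nonempty (S ≃* (P : Subgroup (Cfsg.PSU 5 F 2)))) :
    Nonempty (U5T S) := by
  obtain ⟨e1⟩ := hS
  obtain ⟨e2⟩ := nonempty_mulEquiv hF P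
  let e := e2.trans e1.symm
  let f : M0 →* G := S.subtype.comp (e : M0 →* S)
  have hf : Function.Injective f := S.subtype_injective.comp e.injective
  have hr : (⊤ : Subgroup M0).map f = S := by
    rw [← MonoidHom.range_eq_map]
    ext x
    constructor
    · rintro ⟨y, rfl⟩
      exact (e y).2
    · intro hx
      obtain ⟨y, hy⟩ := e.surjective ⟨x, hx⟩
      exact ⟨y, congrArg Subtype.val hy⟩
  have h := M0.u5T.map f hf
  rw [hr] at h
  exact ⟨h⟩

end Cfsg.Agent.SylowU5.Iso
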