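import Mathlib

/-!
# Sylow 2-subgroups of type PSU(5,2): the list of facts (S0513)

`U5T T` lists the facts on a subgroup `T` of order 1024 which is isomorphic to a Sylow 2-subgroup of `PSU(5,2)`.
All of them were checked by computer on the explicit group.  `z = d 0`, `t = d 1 * d 2`.
`E` = the unique elementary abelian subgroup of order 16, `V = C_T(E)`, `Q` extraspecial of order 128.
-/

set_option autoImplicit false

namespace Cfsg.Agent.SylowU5.Basic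

/-- `T` is of type `PSU(5,2)`: all the facts on the 2-group used in the proof of S0513. -/
structure U5T {G : Type*} [Group G] (T : Subgroup G) where
  /-- the five "transvections" of `E`; `d 0 = z` generates the centre of `T` -/
  d : Fin 5 → G
  /-- the elementary abelian subgroup of order 16 -/
  E : Subgroup G
  /-- the centralizer of `E` in `T` -/
  V : Subgroup G
  /-- the extraspecial subgroup of order 128 -/
  Q : Subgroup G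
  card_T : Nat.card T = 1024
  card_E : Nat.card E = 16
  card_V : Nat.card V = 256
  card_Q : Nat.card Q = 128
  V_le : V ≤ T
  E_le : E ≤ V
  Q_le : Q ≤ T
  -- centre, second centre
  z_comm : ∀ g ∈ T, g * d 0 = d 0 * g
  center_T : ∀ x ∈ T, (∀ g ∈ T, g * x = x * g) → x = 1 ∨ x = d 0
  center_two : ∀ x ∈ T, (∀ g ∈ T, g * x = x * g ∨ g * x = x * g * d 0) → x ∈ E ∧ x ∈ Q
  -- the group `E`
  d_mem : ∀ i, d i ∈ E
  d_ne_one : ∀ i, d i ≠ 1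
  d_inj : ∀ i j, d i = d j → i = j
  d_prod : d 0 * d 1 * d 2 * d 3 * d 4 = 1
  dd_ne_one : ∀ i j, i ≠ j → d i * d j ≠ 1
  dd_ne_d : ∀ i j k, i ≠ j → d i * d j ≠ d k
  dd_inj : ∀ i j k l, i ≠ j → k ≠ l → d i * d j = d k * d l → (i = k ∧ j = l) ∨ (i = l ∧ j = k)
  E_cases : ∀ x ∈ E, x = 1 ∨ (∃ i, x = d i) ∨ ∃ i j, i ≠ j ∧ x = d i * d j
  E_sq : ∀ x ∈ E, x * x = 1
  E_unique : ∀ A : Subgroup G, A ≤ T → (∀ x ∈ A, x * x = 1) → Nat.card A = 16 → A = E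
  -- action of `T` on `E`
  mem_V_iff : ∀ g ∈ T, (g ∈ V ↔ ∀ x ∈ E, g * x = x * g)
  conj_d : ∀ g ∈ T, ∀ i, ∃ j, g * d i * g⁻¹ = d j
  conj_d_trans : ∀ j, j ≠ 0 → ∃ g ∈ T, g * d 1 * g⁻¹ = d j
  cent_d : ∀ j, j ≠ 0 → ∀ g ∈ T, g * d j = d j * g → g ∈ V
  sq_mem_V : ∀ g ∈ T, g * g ∈ V
  -- the group `V`
  V_invol : ∀ x ∈ V, x * x = 1 → x ∈ E
  V_sq : ∀ x ∈ V, x ∉ E → ∃ i, x * x = d i
  V_sq_ex : ∀ i, ∃ x ∈ V, x * x = d i
  cent_V : ∀ v ∈ V, v ∉ E → ∀ x ∈ V, x * v = v * x → x ∈ E ∨ x * v ∈ E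
  /-- the preimages of the five lines of `V/E` -/
  L : Fin 5 → Subgroup G
  card_L : ∀ i, Nat.card (L i) = 64
  mem_L : ∀ i x, x ∈ L i ↔ (x ∈ V ∧ (x * x = 1 ∨ x * x = d i))
  -- the group `Q`
  z_mem_Q : d 0 ∈ Q
  d_not_mem_Q : ∀ i, i ≠ 0 → d i ∉ Q
  dd_mem_Q : ∀ i j, i ≠ 0 → j ≠ 0 → d i * d j ∈ Q
  Q_normal : ∀ g ∈ T, ∀ x ∈ Q, g * x * g⁻¹ ∈ Q
  Q_sq : ∀ x ∈ Q, x * x = 1 ∨ x * x = d 0
  Q_comm : ∀ x ∈ Q, ∀ y ∈ Q, x * y = y * x ∨ x * y = y * x * d 0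
  Q_cent : ∀ g ∈ T, (∀ x ∈ Q, g * x = x * g) → g = 1 ∨ g = d 0
  Q_gen : Q ≤ Subgroup.closure {u : G | u ∈ Q ∧ u * u = 1 ∧ u ∉ E}
  /-- `Q` has 55 involutions -/
  Q_card_invol : Nat.card {x : G // x ∈ Q ∧ x * x = 1} = 56
  /-- `T/Q` is quaternion of order 8 with central involution the image of `E` -/
  T_mod_Q : ∀ g ∈ T, g ∉ Q → g * d 1 ∈ Q ∨ g * g * d 1 ∈ Q
  cent_mod_z : ∀ x ∈ Q, x ∉ E → ∀ s ∈ T, (s * x = x * s ∨ s * x = x * s * d 0) → s ∈ Q ∨ s * d 1 ∈ Q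
  -- involutions of `T`
  invol : ∀ x ∈ T, x * x = 1 → x ∈ E ∨ x ∈ Q
  cent_u : ∀ u ∈ T, u * u = 1 → u ∉ E → ∀ g ∈ T, g * u = u * g → g ∈ Q
  z_sq_u : ∀ u ∈ T, u * u = 1 → u ∉ E → ∃ v ∈ Q, v * u = u * v ∧ v * v = d 0
  conj_u : ∀ u ∈ T, u * u = 1 → u ∉ E → ∀ u' ∈ T, u' * u' = 1 → u' ∉ E → u * u'⁻¹ ∈ V →
    ∃ g ∈ T, g * u * g⁻¹ = u'
  exists_u : ∀ g ∈ T, g ∉ V → ∃ u ∈ Q, u * u = 1 ∧ u * g⁻¹ ∈ V

/-- The results on fusion (steps (0)-(2), (5') of the proof) on which the end of the proof depends. -/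
structure U5Fus {G : Type*} [Group G] (T : Sylow 2 G) (h : U5T (T : Subgroup G)) : Prop where
  /-- `z^G ∩ T = {d 0, ..., d 4}` -/
  z_fus : ∀ g : G, g * h.d 0 * g⁻¹ ∈ (T : Subgroup G) → ∃ i, g * h.d 0 * g⁻¹ = h.d i
  /-- `N_G(E)` permutes the five `d i` -/
  E_perm : ∀ g ∈ Subgroup.normalizer (h.E : Set G), ∀ i, ∃ j, g * h.d i * g⁻¹ = h.d j
  /-- `N_G(E)` induces all even permutations of the five `d i` -/
  E_alt : ∀ π : Equiv.Perm (Fin 5), π ∈ alternatingGroup (Fin 5) →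
    ∃ n ∈ Subgroup.normalizer (h.E : Set G), ∀ i, n * h.d i * n⁻¹ = h.d (π i)
  /-- all noncentral involutions of `Q` are conjugate to `t = d 1 * d 2` in `C_G(z)` -/
  u_fus : ∀ u ∈ h.Q, u * u = 1 → u ≠ 1 → u ≠ h.d 0 →
    ∃ c : G, c * h.d 0 = h.d 0 * c ∧ c * u * c⁻¹ = h.d 1 * h.d 2
  /-- `C_G(z)` is solvable -/
  solvable_z : Group.IsSolvable ↥(Subgroup.centralizer ({h.d 0} : Set G))

end Cfsg.Agent.SylowU5.Basic
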