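import Mathlib
import Cfsg.Agent.SylowU5.Basic

/-! Elementary consequences of the structure `U5T`. -/

set_option autoImplicit false

namespace Cfsg.Agent.SylowU5.Elem

open Cfsg.Agent.SylowU5.Basic

variable {G : Type*} [Group G] {T : Subgroup G} (h : U5T T)

include h

theorem E_le_T : h.E ≤ T := h.E_le.trans h.V_le

theorem d_mem_T (i : Fin 5) : h.d i ∈ T := E_le_T h (h.d_mem i)

theorem E_comm {x y : G} (hx : x ∈ h.E) (hy : y ∈ h.E) : x * y = y * x :=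
  (h.mem_V_iff x (E_le_T h hx)).mp (h.E_le hx) y hy

theorem V_comm {v x : G} (hv : v ∈ h.V) (hx : x ∈ h.E) : v * x = x * v :=
  (h.mem_V_iff v (h.V_le hv)).mp hv x hx

theorem d_sq (i : Fin 5) : h.d i * h.d i = 1 := h.E_sq _ (h.d_mem i)

theorem d_inv (i : Fin 5) : (h.d i)⁻¹ = h.d i := inv_eq_of_mul_eq_one_left (d_sq h i)

theorem d_comm (i j : Fin 5) : h.d i * h.d j = h.d j * h.d i := E_comm h (h.d_mem i) (h.d_mem j)

theorem d_order (i : Fin 5) : orderOf (h.d i) = 2 :=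
  orderOf_eq_prime (by rw [sq, d_sq h i]) (h.d_ne_one i)

theorem dd_mem (i j : Fin 5) : h.d i * h.d j ∈ h.E := h.E.mul_mem (h.d_mem i) (h.d_mem j)

theorem dd_order {i j : Fin 5} (hij : i ≠ j) : orderOf (h.d i * h.d j) = 2 :=
  orderOf_eq_prime (by rw [sq, h.E_sq _ (dd_mem h i j)]) (h.dd_ne_one i j hij)

/-- `z * d 1 = d 2 * d 3 * d 4` etc. -/
theorem prod_rest : h.d 1 * h.d 2 * h.d 3 * h.d 4 = h.d 0 := by
  have h1 := h.d_prod
  have h2 : h.d 0 * (h.d 1 * h.d 2 * h.d 3 * h.d 4) = 1 := by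
    rw [← h1]; group
  calc h.d 1 * h.d 2 * h.d 3 * h.d 4 = h.d 0 * (h.d 0 * (h.d 1 * h.d 2 * h.d 3 * h.d 4)) := by
        rw [← mul_assoc (h.d 0) (h.d 0), d_sq h 0, one_mul]
    _ = h.d 0 := by rw [h2, mul_one]

/-- `d 1 * d 2 * z = d 3 * d 4` -/
theorem t_mul_z : h.d 1 * h.d 2 * h.d 0 = h.d 3 * h.d 4 := by
  have h1 := prod_rest h
  rw [← h1]
  have h2 : h.d 1 * h.d 2 * (h.d 1 * h.d 2) = 1 := h.E_sq _ (dd_mem h 1 2)
  calc h.d 1 * h.d 2 * (h.d 1 * h.d 2 * h.d 3 * h.d 4)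
      = (h.d 1 * h.d 2 * (h.d 1 * h.d 2)) * (h.d 3 * h.d 4) := by group
    _ = h.d 3 * h.d 4 := by rw [h2, one_mul]

theorem mem_E_inter_Q {x : G} (hx : x ∈ h.E) (hxQ : x ∈ h.Q) :
    x = 1 ∨ x = h.d 0 ∨ ∃ i j, i ≠ 0 ∧ j ≠ 0 ∧ i ≠ j ∧ x = h.d i * h.d j := by
  rcases h.E_cases x hx with h1 | ⟨i, hi⟩ | ⟨i, j, hij, hx1⟩
  · exact Or.inl h1
  · right; left
    by_cases hi0 : i = 0
    · rw [hi, hi0]
    · exact absurd (hi ▸ hxQ) (h.d_not_mem_Q i hi0)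
  · right; right
    have hi0 : i ≠ 0 := by
      rintro rfl
      have hj0 : j ≠ 0 := fun hj => hij hj.symm
      apply h.d_not_mem_Q j hj0
      have : h.d j = (h.d 0)⁻¹ * x := by rw [hx1]; group
      rw [this]
      exact h.Q.mul_mem (h.Q.inv_mem h.z_mem_Q) hxQ
    have hj0 : j ≠ 0 := by
      rintro rfl
      apply h.d_not_mem_Q i hi0
      have : h.d i = x * (h.d 0)⁻¹ := by rw [hx1]; group
      rw [this]
      exact h.Q.mul_mem hxQ (h.Q.inv_mem h.z_mem_Q)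
    exact ⟨i, j, hi0, hj0, hij, hx1⟩

/-- `E` is normal in `T` -/
theorem conj_mem_E {g x : G} (hg : g ∈ T) (hx : x ∈ h.E) : g * x * g⁻¹ ∈ h.E := by
  rcases h.E_cases x hx with h1 | ⟨i, hi⟩ | ⟨i, j, hij, hx1⟩
  · rw [h1, mul_one, mul_inv_cancel]; exact h.E.one_mem
  · obtain ⟨j, hj⟩ := h.conj_d g hg i
    rw [hi, hj]; exact h.d_mem j
  · obtain ⟨k, hk⟩ := h.conj_d g hg i
    obtain ⟨l, hl⟩ := h.conj_d g hg j
    have : g * x * g⁻¹ = (g * h.d i * g⁻¹) * (g * h.d j * g⁻¹) := by rw [hx1]; group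
    rw [this, hk, hl]
    exact dd_mem h k l

theorem E_eq_closure : h.E = Subgroup.closure (Set.range h.d) := by
  apply le_antisymm
  · intro x hx
    rcases h.E_cases x hx with h1 | ⟨i, hi⟩ | ⟨i, j, hij, hx1⟩
    · rw [h1]; exact Subgroup.one_mem _
    · rw [hi]; exact Subgroup.subset_closure ⟨i, rfl⟩
    · rw [hx1]
      exact Subgroup.mul_mem _ (Subgroup.subset_closure ⟨i, rfl⟩) (Subgroup.subset_closure ⟨j, rfl⟩)
  · rw [Subgroup.closure_le]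
    rintro _ ⟨i, rfl⟩
    exact h.d_mem i

/-- an involution of `T` outside `E` lies in `Q` -/
theorem u_mem_Q {u : G} (hu : u ∈ T) (hu2 : u * u = 1) (huE : u ∉ h.E) : u ∈ h.Q :=
  (h.invol u hu hu2).resolve_left huE

theorem isPGroup_T : IsPGroup 2 T := IsPGroup.of_card (n := 10) (by rw [h.card_T]; norm_num)

theorem isPGroup_Q : IsPGroup 2 h.Q := IsPGroup.of_card (n := 7) (by rw [h.card_Q]; norm_num)

theorem isPGroup_E : IsPGroup 2 h.E := IsPGroup.of_card (n := 4) (by rw [h.card_E]; norm_num)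

/-- elements of `E` outside `Q` are congruent modulo `Q` -/
theorem E_mul_mem_Q {x y : G} (hx : x ∈ h.E) (hxQ : x ∉ h.Q) (hy : y ∈ h.E) (hyQ : y ∉ h.Q) :
    x * y ∈ h.Q := by
  -- every element of `E` outside `Q` is `d i` or `d 0 * d i` with `i ≠ 0`
  have key : ∀ w ∈ h.E, w ∉ h.Q → ∃ i, i ≠ 0 ∧ (w = h.d i ∨ w = h.d 0 * h.d i) := by
    intro w hw hwQ
    rcases h.E_cases w hw with h1 | ⟨i, hi⟩ | ⟨i, j, hij, hx1⟩
    · exact absurd (h1 ▸ h.Q.one_mem) hwQ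
    · refine ⟨i, ?_, Or.inl hi⟩
      rintro rfl
      exact hwQ (hi ▸ h.z_mem_Q)
    · by_cases hi0 : i = 0
      · subst hi0
        exact ⟨j, fun hj => hij hj.symm, Or.inr hx1⟩
      · by_cases hj0 : j = 0
        · subst hj0
          exact ⟨i, hi0, Or.inr (by rw [hx1, d_comm h])⟩
        · exact absurd (hx1 ▸ h.dd_mem_Q i j hi0 hj0) hwQ
  obtain ⟨i, hi, hi'⟩ := key x hx hxQ
  obtain ⟨j, hj, hj'⟩ := key y hy hyQ
  have hz := h.z_mem_Q
  have hd := h.dd_mem_Q i j hi hj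
  rcases hi' with rfl | rfl <;> rcases hj' with rfl | rfl
  · exact hd
  · have : h.d i * (h.d 0 * h.d j) = h.d 0 * (h.d i * h.d j) := by
      rw [← mul_assoc, d_comm h i 0, mul_assoc]
    rw [this]; exact h.Q.mul_mem hz hd
  · rw [mul_assoc]; exact h.Q.mul_mem hz hd
  · have : h.d 0 * h.d i * (h.d 0 * h.d j) = h.d i * h.d j := by
      calc h.d 0 * h.d i * (h.d 0 * h.d j) = h.d 0 * (h.d i * h.d 0) * h.d j := by group
        _ = h.d 0 * (h.d 0 * h.d i) * h.d j := by rw [d_comm h i 0]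
        _ = (h.d 0 * h.d 0) * (h.d i * h.d j) := by group
        _ = h.d i * h.d j := by rw [d_sq h 0, one_mul]
    rw [this]; exact hd

end Cfsg.Agent.SylowU5.Elem
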