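import Mathlib

/-!
# Subgroups of the alternating group of degree 5 containing the four-group
-/

set_option autoImplicit false

namespace Cfsg.Agent.SylowU5.PermFive

open Equiv Equiv.Perm

set_option maxRecDepth 1000000
set_option maxHeartbeats 4000000

def a0 : Perm (Fin 5) := swap 1 2 * swap 3 4
def b0 : Perm (Fin 5) := swap 1 3 * swap 2 4

theorem dt_even : ∀ π : Perm (Fin 5), π 0 = 0 → (∀ i, π (π i) = i) →
    (π ≠ 1 → ∀ i, i ≠ 0 → π i ≠ i) → Equiv.Perm.sign π = 1 := by decide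

theorem dt2 : ∀ π : Perm (Fin 5), π 0 = 0 → (∀ i, π (π i) = i) →
    (π ≠ 1 → ∀ i, i ≠ 0 → π i ≠ i) → π 1 = 2 → π = a0 := by decide

theorem dt3 : ∀ π : Perm (Fin 5), π 0 = 0 → (∀ i, π (π i) = i) →
    (π ≠ 1 → ∀ i, i ≠ 0 → π i ≠ i) → π 1 = 3 → π = b0 := by decide

theorem mv : ∀ r : Perm (Fin 5), sign r = 1 → r 0 ≠ 0 →
   ∃ i j k l : Fin 2, (a0 ^ (i:ℕ) * b0 ^ (j:ℕ) * r * a0 ^ (k:ℕ) * b0 ^ (l:ℕ)) = swap 0 1 * swap 2 3 ∨
     (a0 ^ (i:ℕ) * b0 ^ (j:ℕ) * r * a0 ^ (k:ℕ) * b0 ^ (l:ℕ)) = swap 0 1 * swap 2 4 ∨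
     (a0 ^ (i:ℕ) * b0 ^ (j:ℕ) * r * a0 ^ (k:ℕ) * b0 ^ (l:ℕ)) = swap 0 1 * swap 3 4 := by decide

/-- the four-group -/
def V4 : Subgroup (Perm (Fin 5)) where
  carrier := {π | π ∈ ({1, a0, b0, a0 * b0} : Finset (Perm (Fin 5)))}
  one_mem' := by decide
  mul_mem' := by
    have h : ∀ π ∈ ({1, a0, b0, a0 * b0} : Finset (Perm (Fin 5))),
        ∀ σ ∈ ({1, a0, b0, a0 * b0} : Finset (Perm (Fin 5))),
        π * σ ∈ ({1, a0, b0, a0 * b0} : Finset (Perm (Fin 5))) := by decide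
    intro π σ hπ hσ
    exact h π hπ σ hσ
  inv_mem' := by
    have h : ∀ π ∈ ({1, a0, b0, a0 * b0} : Finset (Perm (Fin 5))),
        π⁻¹ ∈ ({1, a0, b0, a0 * b0} : Finset (Perm (Fin 5))) := by decide
    intro π hπ
    exact h π hπ

theorem card_V4 : Nat.card V4 = 4 := by
  show Nat.card {π // π ∈ ({1, a0, b0, a0 * b0} : Finset (Perm (Fin 5)))} = 4
  rw [Nat.card_eq_fintype_card, Fintype.card_coe]
  decide

theorem dvd_of_pow {R : Subgroup (Perm (Fin 5))} {p : ℕ} (hp : p.Prime) {x : Perm (Fin 5)}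
    (hx : x ∈ R) (h1 : x ^ p = 1) (h2 : x ≠ 1) : p ∣ Nat.card R := by
  have hp' : Fact p.Prime := ⟨hp⟩
  have h3 : orderOf (⟨x, hx⟩ : R) = p := by
    apply orderOf_eq_prime
    · exact Subtype.ext h1
    · intro h; exact h2 (congrArg Subtype.val h)
  rw [← h3]
  exact orderOf_dvd_natCard _

/-- A subgroup of `A5` containing the four-group fixing 0 and an element moving 0 is `A5`. -/
theorem eq_alternating {R : Subgroup (Perm (Fin 5))} (hR : R ≤ alternatingGroup (Fin 5))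
    (ha : a0 ∈ R) (hb : b0 ∈ R) {r : Perm (Fin 5)} (hr : r ∈ R) (hr0 : r 0 ≠ 0) :
    R = alternatingGroup (Fin 5) := by
  have hA : Nat.card (alternatingGroup (Fin 5)) = 60 := by
    have h1 := nat_card_alternatingGroup (α := Fin 5)
    rw [h1, Nat.card_eq_fintype_card, Fintype.card_fin]
    rfl
  obtain ⟨i, j, k, l, hijkl⟩ := mv r (mem_alternatingGroup.1 (hR hr)) hr0
  have hmem : a0 ^ (i:ℕ) * b0 ^ (j:ℕ) * r * a0 ^ (k:ℕ) * b0 ^ (l:ℕ) ∈ R :=
    R.mul_mem (R.mul_mem (R.mul_mem (R.mul_mem (R.pow_mem ha _) (R.pow_mem hb _)) hr)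
      (R.pow_mem ha _)) (R.pow_mem hb _)
  have h3 : 3 ∣ Nat.card R ∧ 5 ∣ Nat.card R := by
    rcases hijkl with h1 | h1 | h1
    · rw [h1] at hmem
      exact ⟨dvd_of_pow (by norm_num) (R.mul_mem hmem (R.mul_mem ha hb)) (by decide) (by decide),
        dvd_of_pow (by norm_num) (R.mul_mem hmem ha) (by decide) (by decide)⟩
    · rw [h1] at hmem
      exact ⟨dvd_of_pow (by norm_num) (R.mul_mem hmem hb) (by decide) (by decide),
        dvd_of_pow (by norm_num) (R.mul_mem hmem ha) (by decide) (by decide)⟩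
    · rw [h1] at hmem
      exact ⟨dvd_of_pow (by norm_num) (R.mul_mem hmem ha) (by decide) (by decide),
        dvd_of_pow (by norm_num) (R.mul_mem hmem hb) (by decide) (by decide)⟩
  have h4 : 4 ∣ Nat.card R := by
    rw [← card_V4]
    apply Subgroup.card_dvd_of_le
    intro π hπ
    have h5 : π ∈ ({1, a0, b0, a0 * b0} : Finset (Perm (Fin 5))) := hπ
    simp only [Finset.mem_insert, Finset.mem_singleton] at h5
    rcases h5 with rfl | rfl | rfl | rfl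
    · exact R.one_mem
    · exact ha
    · exact hb
    · exact R.mul_mem ha hb
  have h60 : 60 ∣ Nat.card R := by omega
  apply Subgroup.eq_of_le_of_card_ge hR
  rw [hA]
  exact Nat.le_of_dvd Nat.card_pos h60

end Cfsg.Agent.SylowU5.PermFive
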