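import Mathlib
import Cfsg.Agent.SylowU5.Basic
import Cfsg.Agent.R15.NormalElem
import Cfsg.Agent.SignalizersComponents.RelSylow
import Cfsg.Agent.S0215
import Cfsg.Agent.SylowU5.PermFive

/-!
# Fusion of involutions in a simple group with Sylow 2-subgroup of type PSU(5,2)

Steps (0), (1): `E` is weakly closed, `N(E)` induces the alternating group on the five `d i`, `z^G ∩ T = {d i}`.
-/

set_option autoImplicit false
set_option linter.unusedVariables false
set_option linter.unusedSectionVars false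
open Cfsg

namespace Cfsg.Agent.SylowU5.Fusion

open Subgroup Cfsg.Agent.SylowU5.Basic Cfsg.Agent.SignalizersComponents.RelSylow

section Two

variable {G : Type*} [Group G] {T : Subgroup G} (h : U5T T)
include h

theorem E_le_T : h.E ≤ T := h.E_le.trans h.V_le

theorem d_mem_T (i : Fin 5) : h.d i ∈ T := E_le_T h (h.d_mem i)

theorem V_comm_E {v x : G} (hv : v ∈ h.V) (hx : x ∈ h.E) : v * x = x * v :=
  (h.mem_V_iff v (h.V_le hv)).1 hv x hx

theorem E_comm {a b : G} (ha : a ∈ h.E) (hb : b ∈ h.E) : a * b = b * a :=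
  V_comm_E h (h.E_le ha) hb

theorem d_sq (i : Fin 5) : h.d i * h.d i = 1 := h.E_sq _ (h.d_mem i)

theorem d_inv (i : Fin 5) : (h.d i)⁻¹ = h.d i := inv_eq_of_mul_eq_one_left (d_sq h i)

theorem E_inv {x : G} (hx : x ∈ h.E) : x⁻¹ = x := inv_eq_of_mul_eq_one_left (h.E_sq x hx)

/-- `E` is normalized by `T`. -/
theorem conj_mem_E {g : G} (hg : ∀ x ∈ h.E, g * x * g⁻¹ ∈ T) : g ∈ normalizer (h.E : Set G) := by
  have h1 : h.E.map (MulAut.conj g).toMonoidHom = h.E := by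
    apply h.E_unique
    · rintro _ ⟨x, hx, rfl⟩
      exact hg x hx
    · rintro _ ⟨x, hx, rfl⟩
      show g * x * g⁻¹ * (g * x * g⁻¹) = 1
      calc g * x * g⁻¹ * (g * x * g⁻¹) = g * (x * x) * g⁻¹ := by group
        _ = 1 := by rw [h.E_sq x hx]; group
    · rw [card_map_conj, h.card_E]
  exact mem_normalizer_iff_map_conj_eq.mpr h1

theorem T_le_normalizer : T ≤ normalizer (h.E : Set G) := fun g hg =>
  conj_mem_E h fun x hx => T.mul_mem (T.mul_mem hg (E_le_T h hx)) (T.inv_mem hg)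

theorem norm_conj {g x : G} (hg : g ∈ normalizer (h.E : Set G)) (hx : x ∈ h.E) :
    g * x * g⁻¹ ∈ h.E := (mem_normalizer_iff.1 hg x).1 hx

theorem isWeaklyClosed : IsWeaklyClosed h.E T := by
  refine ⟨E_le_T h, fun g hg => ?_⟩
  apply mem_normalizer_iff_map_conj_eq.mp
  apply conj_mem_E h
  intro x hx
  exact hg ⟨x, hx, rfl⟩

theorem le_cent_E : h.V ≤ centralizer (h.E : Set G) := fun v hv =>
  mem_centralizer_iff.2 fun x hx => (V_comm_E h hv hx).symm

end Two

section Sylow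

variable {G : Type*} [Group G] [Finite G] {T : Sylow 2 G} (h : U5T (T : Subgroup G))
include h

/-- A 2-group containing `E` has a conjugate by an element of `N(E)` in `T`. -/
theorem exists_conj_T {W : Subgroup G} (hW : IsPGroup 2 W) (hE : h.E ≤ W) :
    ∃ k ∈ normalizer (h.E : Set G), ∀ w ∈ W, k⁻¹ * w * k ∈ (T : Subgroup G) := by
  obtain ⟨P, hP⟩ := hW.exists_le_sylow
  obtain ⟨k, hk⟩ := MulAction.exists_smul_eq G T P
  have h1 : ∀ w ∈ W, k⁻¹ * w * k ∈ (T : Subgroup G) := by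
    intro w hw
    have h2 := hP hw
    rw [← hk, Sylow.coe_subgroup_smul] at h2
    obtain ⟨y, hy, hyw⟩ := h2
    have h3 : k * y * k⁻¹ = w := hyw
    have h4 : k⁻¹ * w * k = y := by rw [← h3]; group
    rw [h4]; exact hy
  refine ⟨k, ?_, h1⟩
  rw [← inv_mem_iff]
  apply conj_mem_E h
  intro x hx
  rw [inv_inv]
  exact h1 x (hE hx)

/-- two conjugates of `E` in the same 2-group are equal -/
theorem mem_normalizer_of_le {W : Subgroup G} (hW : IsPGroup 2 W) (hE : h.E ≤ W) {g : G}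
    (hg : ∀ x ∈ h.E, g * x * g⁻¹ ∈ W) : g ∈ normalizer (h.E : Set G) := by
  obtain ⟨k, hk, hkW⟩ := exists_conj_T h hW hE
  have h1 : k⁻¹ * g ∈ normalizer (h.E : Set G) := by
    apply conj_mem_E h
    intro x hx
    have := hkW _ (hg x hx)
    have e : k⁻¹ * (g * x * g⁻¹) * k = k⁻¹ * g * x * (k⁻¹ * g)⁻¹ := by group
    rwa [e] at this
  have h2 := mul_mem hk h1
  rwa [mul_inv_cancel_left] at h2

/-- Fusion in `E` is controlled by `N_M(E)`. -/
theorem exists_norm {M : Subgroup G} (hM : h.E ≤ M) {m x : G} (hm : m ∈ M) (hx : x ∈ h.E)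
    (hmx : m * x * m⁻¹ ∈ h.E) :
    ∃ n ∈ M, n ∈ normalizer (h.E : Set G) ∧ n * x * n⁻¹ = m * x * m⁻¹ := by
  have h2 : Fact (Nat.Prime 2) := ⟨Nat.prime_two⟩
  set C : Subgroup G := M ⊓ centralizer {m * x * m⁻¹} with hC
  have hEC : h.E ≤ C := le_inf hM fun a ha =>
    mem_centralizer_singleton_iff.2 (E_comm h ha hmx)
  have hEC' : h.E.map (MulAut.conj m).toMonoidHom ≤ C := by
    rintro _ ⟨a, ha, rfl⟩
    refine ⟨M.mul_mem (M.mul_mem hm (hM ha)) (M.inv_mem hm), ?_⟩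
    apply mem_centralizer_singleton_iff.2
    show m * a * m⁻¹ * (m * x * m⁻¹) = m * x * m⁻¹ * (m * a * m⁻¹)
    calc m * a * m⁻¹ * (m * x * m⁻¹) = m * (a * x) * m⁻¹ := by group
      _ = m * (x * a) * m⁻¹ := by rw [E_comm h ha hx]
      _ = _ := by group
  have hE2 : IsPGroup 2 h.E := T.2.to_le (E_le_T h)
  obtain ⟨R, hR, hER⟩ := exists_isMaxP hE2 hEC
  obtain ⟨c, hc, hcR⟩ := hR.exists_conj_le (hE2.map _) hEC'
  refine ⟨c * m, M.mul_mem hc.1 hm, ?_, ?_⟩
  · apply mem_normalizer_of_le h hR.1 hER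
    intro a ha
    have := hcR ⟨_, ⟨a, ha, rfl⟩, rfl⟩
    have e : (MulAut.conj c).toMonoidHom ((MulAut.conj m).toMonoidHom a) = c * m * a * (c * m)⁻¹ := by
      show c * (m * a * m⁻¹) * c⁻¹ = _
      group
    rwa [e] at this
  · have h3 := mem_centralizer_singleton_iff.1 hc.2
    calc c * m * x * (c * m)⁻¹ = c * (m * x * m⁻¹) * c⁻¹ := by group
      _ = (m * x * m⁻¹) * c * c⁻¹ := by rw [h3]
      _ = _ := by group

/-- `V` is a Sylow 2-subgroup of `C(E)`. -/
theorem isMaxP_V : IsMaxP 2 (centralizer (h.E : Set G)) h.V := by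
  refine ⟨T.2.to_le h.V_le, le_cent_E h, ?_⟩
  intro W hW hWC hVW
  obtain ⟨k, hk, hkW⟩ := exists_conj_T h hW (h.E_le.trans hVW)
  have h1 : W.map (MulAut.conj k⁻¹).toMonoidHom ≤ h.V := by
    rintro _ ⟨w, hw, rfl⟩
    have h2 : k⁻¹ * w * k ∈ (T : Subgroup G) := hkW w hw
    have h3 : (MulAut.conj k⁻¹).toMonoidHom w = k⁻¹ * w * k := by
      show k⁻¹ * w * k⁻¹⁻¹ = _
      rw [inv_inv]
    rw [h3, h.mem_V_iff _ h2]
    intro x hx
    have h4 := mem_centralizer_iff.1 (hWC hw) (k * x * k⁻¹) (norm_conj h hk hx)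
    calc k⁻¹ * w * k * x = k⁻¹ * (w * (k * x * k⁻¹)) * k := by group
      _ = k⁻¹ * ((k * x * k⁻¹) * w) * k := by rw [h4]
      _ = _ := by group
  have h2 : Nat.card W ≤ Nat.card h.V := by
    rw [← card_map_conj W k⁻¹]
    exact Nat.card_le_card_of_injective _ (inclusion_injective h1)
  exact (eq_of_le_of_card_ge hVW h2).ge

/-- `N(E)` permutes the `d i`. -/
theorem perm {g : G} (hg : g ∈ normalizer (h.E : Set G)) (i : Fin 5) :
    ∃ j, g * h.d i * g⁻¹ = h.d j := by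
  have h2 : Fact (Nat.Prime 2) := ⟨Nat.prime_two⟩
  have hgC : g ∈ normalizer (centralizer (h.E : Set G) : Set G) := by
    have key : ∀ k ∈ normalizer (h.E : Set G), ∀ x ∈ centralizer (h.E : Set G),
        k * x * k⁻¹ ∈ centralizer (h.E : Set G) := by
      intro k hk x hx
      rw [mem_centralizer_iff] at hx ⊢
      intro e he
      have h3 := hx (k⁻¹ * e * k) (by
        have := norm_conj h ((normalizer (h.E : Set G)).inv_mem hk) he
        rwa [inv_inv] at this)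
      calc e * (k * x * k⁻¹) = k * ((k⁻¹ * e * k) * x) * k⁻¹ := by group
        _ = k * (x * (k⁻¹ * e * k)) * k⁻¹ := by rw [h3]
        _ = _ := by group
    rw [mem_normalizer_iff]
    intro x
    refine ⟨key g hg x, fun hx => ?_⟩
    have := key _ ((normalizer (h.E : Set G)).inv_mem hg) _ hx
    have e : g⁻¹ * (g * x * g⁻¹) * g⁻¹⁻¹ = x := by group
    rwa [e] at this
  have h1 := (isMaxP_V h).map_conj_mem hgC
  obtain ⟨c, hc, hcV⟩ := h1.exists_conj (isMaxP_V h)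
  obtain ⟨x, hx, hxx⟩ := h.V_sq_ex i
  have hy : c * (g * x * g⁻¹) * c⁻¹ ∈ h.V := by
    rw [← hcV]
    exact ⟨_, ⟨x, hx, rfl⟩, rfl⟩
  have hyy : c * (g * x * g⁻¹) * c⁻¹ * (c * (g * x * g⁻¹) * c⁻¹) =
      g * h.d i * g⁻¹ := by
    have hc' := mem_centralizer_iff.1 hc (g * h.d i * g⁻¹) (norm_conj h hg (h.d_mem i))
    calc c * (g * x * g⁻¹) * c⁻¹ * (c * (g * x * g⁻¹) * c⁻¹) = c * (g * (x * x) * g⁻¹) * c⁻¹ := by
          group
      _ = (c * (g * h.d i * g⁻¹)) * c⁻¹ := by rw [hxx]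
      _ = (g * h.d i * g⁻¹) * c * c⁻¹ := by rw [← hc']
      _ = _ := by group
  have hyE : c * (g * x * g⁻¹) * c⁻¹ ∉ h.E := by
    intro hE
    have h3 := h.E_sq _ hE
    rw [hyy] at h3
    apply h.d_ne_one i
    have := congrArg (fun t => g⁻¹ * t * g) h3
    simpa [mul_assoc] using this
  obtain ⟨j, hj⟩ := h.V_sq _ hy hyE
  exact ⟨j, by rw [← hyy, hj]⟩

/-- `C_Q(y)` has order at least 64 for `y ∈ Q`. -/
theorem card_cent_Q {y : G} (hy : y ∈ h.Q) :
    64 ≤ Nat.card (h.Q ⊓ centralizer ({y} : Set G) : Subgroup G) := by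
  classical
  let K : Subgroup h.Q := (centralizer ({y} : Set G)).subgroupOf h.Q
  have hz : ∀ g ∈ h.Q, g * h.d 0 = h.d 0 * g := fun g hg => h.z_comm g (h.Q_le hg)
  have hmem : ∀ b : h.Q, b ∈ K ↔ (b : G) * y = y * b := fun b => by
    rw [mem_subgroupOf, mem_centralizer_singleton_iff]
  have hcard : Nat.card (h.Q ⊓ centralizer ({y} : Set G) : Subgroup G) = Nat.card K := by
    have e : K.map h.Q.subtype = h.Q ⊓ centralizer ({y} : Set G) := by
      rw [subgroupOf_map_subtype, inf_comm]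
    rw [← e]
    exact card_map_of_injective h.Q.subtype_injective
  have hidx : K.index ≤ 2 := by
    by_cases hK : K = ⊤
    · rw [hK, index_top]; norm_num
    · obtain ⟨a, ha⟩ : ∃ a, a ∉ K := by
        by_contra hcon
        push Not at hcon
        exact hK (eq_top_iff.2 fun x _ => hcon x)
      have h1 : K.index = 2 := by
        rw [index_eq_two_iff]
        refine ⟨a, fun b => ?_⟩
        have ha' : (a : G) * y = y * a * h.d 0 :=
          (h.Q_comm a a.2 y hy).resolve_left (fun h' => ha ((hmem a).2 h'))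
        have e1 : ((b * a : h.Q) : G) * y = (b : G) * y * a * h.d 0 := by
          show (b : G) * a * y = _
          calc (b : G) * a * y = b * (a * y) := by group
            _ = b * (y * a * h.d 0) := by rw [ha']
            _ = _ := by group
        by_cases hb : b ∈ K
        · right
          refine ⟨hb, fun hba => ?_⟩
          rw [hmem, e1, (hmem b).1 hb] at hba
          apply h.d_ne_one 0
          have e2 : y * (b : G) * a * h.d 0 = y * (b * a) * h.d 0 := by group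
          rw [e2] at hba
          have e3 : y * ((b : G) * a) * h.d 0 = y * (b * a) * 1 := by rw [hba, mul_one]; rfl
          exact mul_left_cancel e3
        · left
          refine ⟨?_, hb⟩
          have hb' : (b : G) * y = y * b * h.d 0 :=
            (h.Q_comm b b.2 y hy).resolve_left (fun h' => hb ((hmem b).2 h'))
          rw [hmem, e1, hb']
          show y * (b : G) * h.d 0 * a * h.d 0 = y * (b * a)
          calc y * (b : G) * h.d 0 * a * h.d 0 = y * b * (h.d 0 * a) * h.d 0 := by group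
            _ = y * b * (a * h.d 0) * h.d 0 := by rw [hz a a.2]
            _ = y * (b * a) * (h.d 0 * h.d 0) := by group
            _ = _ := by rw [d_sq h, mul_one]
      rw [h1]
  have h1 := K.card_mul_index
  rw [h.card_Q] at h1
  rw [hcard]
  nlinarith

omit h in
/-- A 2-subgroup of `M ≥ T` is conjugate in `M` into `T`. -/
theorem exists_conj_into {M : Subgroup G} (hM : (T : Subgroup G) ≤ M) {W : Subgroup G}
    (hW : IsPGroup 2 W) (hWM : W ≤ M) : ∃ c ∈ M, ∀ w ∈ W, c * w * c⁻¹ ∈ (T : Subgroup G) := by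
  have h2 : Fact (Nat.Prime 2) := ⟨Nat.prime_two⟩
  have h1 : IsMaxP 2 M (T : Subgroup G) :=
    ⟨T.2, hM, fun R' hR' _ hTR => (T.3 hR' hTR).le⟩
  obtain ⟨c, hc, hcW⟩ := h1.exists_conj_le hW hWM
  exact ⟨c, hc, fun w hw => hcW ⟨w, hw, rfl⟩⟩

theorem T_le_cent : (T : Subgroup G) ≤ centralizer ({h.d 0} : Set G) := fun g hg =>
  mem_centralizer_singleton_iff.2 (h.z_comm g hg)

/-- KEY LEMMA: if `y` is an involution of `T` outside `E` and `k` conjugates `C_Q(y)` into `T`, then `k`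
centralizes `z`. -/
theorem key_comm {y k : G} (hT : y ∈ (T : Subgroup G)) (hyy : y * y = 1) (hyE : y ∉ h.E)
    (hkX : ∀ x ∈ h.Q, x * y = y * x → k * x * k⁻¹ ∈ (T : Subgroup G)) :
    k * h.d 0 * k⁻¹ = h.d 0 := by
  have hyQ : y ∈ h.Q := (h.invol y hT hyy).resolve_left hyE
  obtain ⟨v, hvQ, hvy, hvv⟩ := h.z_sq_u y hT hyy hyE
  set X : Subgroup G := h.Q ⊓ centralizer ({y} : Set G) with hX
  have hkX' : ∀ x ∈ X, k * x * k⁻¹ ∈ (T : Subgroup G) := fun x hx =>
    hkX x hx.1 (mem_centralizer_singleton_iff.1 hx.2)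
  have hvX : v ∈ X := ⟨hvQ, mem_centralizer_singleton_iff.2 hvy⟩
  have hsq : k * v * k⁻¹ * (k * v * k⁻¹) = k * h.d 0 * k⁻¹ := by
    rw [← hvv]; group
  have hkzV : k * h.d 0 * k⁻¹ ∈ h.V := by
    rw [← hsq]
    exact h.sq_mem_V _ (hkX' v hvX)
  have hkzE : k * h.d 0 * k⁻¹ ∈ h.E := by
    apply h.V_invol _ hkzV
    calc k * h.d 0 * k⁻¹ * (k * h.d 0 * k⁻¹) = k * (h.d 0 * h.d 0) * k⁻¹ := by group
      _ = 1 := by rw [d_sq h]; group
  obtain ⟨n, -, hn, hnk⟩ := exists_norm h (M := ⊤) le_top (mem_top k) (h.d_mem 0) hkzE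
  obtain ⟨j, hj⟩ := perm h hn 0
  rw [hnk] at hj
  by_cases hj0 : j = 0
  · rw [hj, hj0]
  · exfalso
    have hXV : ∀ x ∈ X, k * x * k⁻¹ ∈ h.V := by
      intro x hx
      apply h.cent_d j hj0 _ (hkX' x hx)
      rw [← hj]
      have h1 := h.z_comm x (h.Q_le hx.1)
      calc k * x * k⁻¹ * (k * h.d 0 * k⁻¹) = k * (x * h.d 0) * k⁻¹ := by group
        _ = k * (h.d 0 * x) * k⁻¹ := by rw [h1]
        _ = _ := by group
    have hXL : X.map (MulAut.conj k).toMonoidHom ≤ h.L j := by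
      rintro _ ⟨x, hx, rfl⟩
      rw [h.mem_L]
      refine ⟨hXV x hx, ?_⟩
      show k * x * k⁻¹ * (k * x * k⁻¹) = 1 ∨ k * x * k⁻¹ * (k * x * k⁻¹) = h.d j
      have e : k * x * k⁻¹ * (k * x * k⁻¹) = k * (x * x) * k⁻¹ := by group
      rw [e]
      rcases h.Q_sq x hx.1 with h1 | h1
      · left; rw [h1]; group
      · right; rw [h1, hj]
    have hcard : Nat.card (h.L j) ≤ Nat.card (X.map (MulAut.conj k).toMonoidHom) := by
      rw [h.card_L, card_map_conj]
      exact card_cent_Q h hyQ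
    have hEq := eq_of_le_of_card_ge hXL hcard
    have hEX : ∀ x ∈ h.E, k⁻¹ * x * k ∈ X := by
      intro x hx
      have h1 : x ∈ h.L j := (h.mem_L j x).2 ⟨h.E_le hx, Or.inl (h.E_sq x hx)⟩
      rw [← hEq] at h1
      exact mem_map_conj.1 h1
    have hkN : k⁻¹ ∈ normalizer (h.E : Set G) := by
      apply conj_mem_E h
      intro x hx
      rw [inv_inv]
      exact h.Q_le (hEX x hx).1
    have h3 := norm_conj h ((normalizer (h.E : Set G)).inv_mem hkN) (h.d_mem 1)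
    have h4 := hEX _ h3
    have e : k⁻¹ * (k⁻¹⁻¹ * h.d 1 * k⁻¹⁻¹⁻¹) * k = h.d 1 := by group
    rw [e] at h4
    exact h.d_not_mem_Q 1 (by decide) h4.1

/-- KEY LEMMA: `z` is not conjugate to an involution of `T` outside `E`. -/
theorem key {g : G} (hT : g * h.d 0 * g⁻¹ ∈ (T : Subgroup G)) : g * h.d 0 * g⁻¹ ∈ h.E := by
  by_contra hyE
  set y := g * h.d 0 * g⁻¹ with hy
  have hyy : y * y = 1 := by
    rw [hy]
    calc g * h.d 0 * g⁻¹ * (g * h.d 0 * g⁻¹) = g * (h.d 0 * h.d 0) * g⁻¹ := by group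
      _ = 1 := by rw [d_sq h]; group
  set X : Subgroup G := h.Q ⊓ centralizer ({y} : Set G) with hX
  have hX2 : IsPGroup 2 X := T.2.to_le (inf_le_left.trans h.Q_le)
  have hW : X.map (MulAut.conj g⁻¹).toMonoidHom ≤ centralizer ({h.d 0} : Set G) := by
    rintro _ ⟨x, hx, rfl⟩
    have h1 := mem_centralizer_singleton_iff.1 hx.2
    rw [mem_centralizer_singleton_iff]
    show g⁻¹ * x * g⁻¹⁻¹ * h.d 0 = h.d 0 * (g⁻¹ * x * g⁻¹⁻¹)
    calc g⁻¹ * x * g⁻¹⁻¹ * h.d 0 = g⁻¹ * (x * y) * g := by rw [hy]; group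
      _ = g⁻¹ * (y * x) * g := by rw [h1]
      _ = _ := by rw [hy]; group
  obtain ⟨c, hc, hcW⟩ := exists_conj_into (T_le_cent h) (hX2.map _) hW
  set k := c * g⁻¹ with hk
  have hky : k * y * k⁻¹ = h.d 0 := by
    have h1 := mem_centralizer_singleton_iff.1 hc
    calc k * y * k⁻¹ = c * h.d 0 * c⁻¹ := by rw [hk, hy]; group
      _ = h.d 0 * c * c⁻¹ := by rw [h1]
      _ = _ := by group
  have hkX : ∀ x ∈ h.Q, x * y = y * x → k * x * k⁻¹ ∈ (T : Subgroup G) := by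
    intro x hx hxy
    have h1 := hcW _ ⟨x, ⟨hx, mem_centralizer_singleton_iff.2 hxy⟩, rfl⟩
    have e : c * (MulAut.conj g⁻¹).toMonoidHom x * c⁻¹ = k * x * k⁻¹ := by
      show c * (g⁻¹ * x * g⁻¹⁻¹) * c⁻¹ = _
      rw [hk]; group
    rwa [e] at h1
  have hj := key_comm h hT hyy hyE hkX
  apply hyE
  have h1 : h.d 0 = y := mul_left_cancel (mul_right_cancel (hj.trans hky.symm))
  rw [← h1]; exact h.d_mem 0

/-- `z^G ∩ T = {d 0, ..., d 4}` -/
theorem z_fus {g : G} (hT : g * h.d 0 * g⁻¹ ∈ (T : Subgroup G)) :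
    ∃ i, g * h.d 0 * g⁻¹ = h.d i := by
  have hE := key h hT
  obtain ⟨n, -, hn, hnk⟩ := exists_norm h (M := ⊤) le_top (mem_top g) (h.d_mem 0) hE
  rw [← hnk]
  exact perm h hn 0

/-! ### Permutations -/

theorem exists_perm {g : G} (hg : g ∈ normalizer (h.E : Set G)) :
    ∃ π : Equiv.Perm (Fin 5), ∀ i, g * h.d i * g⁻¹ = h.d (π i) := by
  choose f hf using fun i => perm h hg i
  have hinj : Function.Injective f := by
    intro i j hij
    apply h.d_inj
    have h1 : g * h.d i * g⁻¹ = g * h.d j * g⁻¹ := by rw [hf, hf, hij]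
    exact mul_left_cancel (mul_right_cancel h1)
  exact ⟨Equiv.ofBijective f (Finite.injective_iff_bijective.1 hinj), hf⟩

/-- the group of permutations induced by `N(E)` -/
def R : Subgroup (Equiv.Perm (Fin 5)) where
  carrier := {π | ∃ g ∈ normalizer (h.E : Set G), ∀ i, g * h.d i * g⁻¹ = h.d (π i)}
  one_mem' := ⟨1, one_mem _, fun i => by simp⟩
  mul_mem' := by
    rintro π σ ⟨g, hg, hgi⟩ ⟨k, hk, hki⟩
    refine ⟨g * k, mul_mem hg hk, fun i => ?_⟩
    calc g * k * h.d i * (g * k)⁻¹ = g * (k * h.d i * k⁻¹) * g⁻¹ := by group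
      _ = _ := by rw [hki, hgi]; rfl
  inv_mem' := by
    rintro π ⟨g, hg, hgi⟩
    refine ⟨g⁻¹, inv_mem hg, fun i => ?_⟩
    have h1 := hgi (π⁻¹ i)
    have h2 : π (π⁻¹ i) = i := π.apply_symm_apply i
    rw [h2] at h1
    rw [← h1]; group

theorem mem_R {π : Equiv.Perm (Fin 5)} : π ∈ R h ↔
    ∃ g ∈ normalizer (h.E : Set G), ∀ i, g * h.d i * g⁻¹ = h.d (π i) := Iff.rfl

/-- elements of `T` induce double transpositions fixing 0 -/
theorem perm_T {g : G} (hg : g ∈ (T : Subgroup G)) {π : Equiv.Perm (Fin 5)}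
    (hπ : ∀ i, g * h.d i * g⁻¹ = h.d (π i)) :
    π 0 = 0 ∧ (∀ i, π (π i) = i) ∧ (π ≠ 1 → ∀ i, i ≠ 0 → π i ≠ i) := by
  refine ⟨?_, ?_, ?_⟩
  · apply h.d_inj
    rw [← hπ, h.z_comm g hg]; group
  · intro i
    apply h.d_inj
    rw [← hπ, ← hπ]
    have h1 := V_comm_E h (h.sq_mem_V g hg) (h.d_mem i)
    calc g * (g * h.d i * g⁻¹) * g⁻¹ = (g * g * h.d i) * (g * g)⁻¹ := by group
      _ = h.d i := by rw [h1]; group
  · intro hne i hi hfix
    apply hne
    have h1 : g ∈ h.V := by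
      apply h.cent_d i hi g hg
      have := hπ i
      rw [hfix] at this
      calc g * h.d i = g * h.d i * g⁻¹ * g := by group
        _ = h.d i * g := by rw [this]
    ext j
    have h3 : π j = j := by
      apply h.d_inj
      rw [← hπ, V_comm_E h h1 (h.d_mem j)]; group
    rw [h3]; rfl

/-- all permutations induced by `N(E)` are even -/
theorem R_le : R h ≤ alternatingGroup (Fin 5) := by
  have h2 : Fact (Nat.Prime 2) := ⟨Nat.prime_two⟩
  rintro π ⟨g, hg, hgi⟩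
  rw [Equiv.Perm.mem_alternatingGroup]
  obtain ⟨k, m, hm, hkm⟩ := Nat.exists_eq_two_pow_mul_odd (orderOf_pos g).ne'
  -- the power `g ^ m`
  have hpow : ∀ n : ℕ, ∀ i, g ^ n * h.d i * (g ^ n)⁻¹ = h.d ((π ^ n) i) := by
    intro n
    induction n with
    | zero => intro i; simp
    | succ n ih =>
      intro i
      calc g ^ (n + 1) * h.d i * (g ^ (n + 1))⁻¹ = g * (g ^ n * h.d i * (g ^ n)⁻¹) * g⁻¹ := by
            rw [pow_succ']; group
        _ = h.d (π ((π ^ n) i)) := by rw [ih, hgi]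
        _ = _ := by rw [pow_succ']; rfl
  have hx : (g ^ m) ^ 2 ^ k = 1 := by
    rw [← pow_mul, mul_comm, ← hkm]; exact pow_orderOf_eq_one g
  obtain ⟨c, hc, hcT⟩ := Cfsg.Agent.R15.NormalElem.exists_conj_mem T (normalizer (h.E : Set G))
    (T_le_normalizer h) (pow_mem hg m) hx
  obtain ⟨σ, hσ⟩ := exists_perm h hc
  have hconj : ∀ i, c * g ^ m * c⁻¹ * h.d i * (c * g ^ m * c⁻¹)⁻¹ = h.d ((σ * π ^ m * σ⁻¹) i) := by
    intro i
    have h3 : h.d i = c * h.d (σ⁻¹ i) * c⁻¹ := by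
      rw [hσ]
      congr 1
      exact (σ.apply_symm_apply i).symm
    calc c * g ^ m * c⁻¹ * h.d i * (c * g ^ m * c⁻¹)⁻¹
        = c * g ^ m * c⁻¹ * (c * h.d (σ⁻¹ i) * c⁻¹) * (c * g ^ m * c⁻¹)⁻¹ := by rw [← h3]
      _ = c * (g ^ m * h.d (σ⁻¹ i) * (g ^ m)⁻¹) * c⁻¹ := by group
      _ = _ := by rw [hpow, hσ]; rfl
  obtain ⟨h4, h5, h6⟩ := perm_T h hcT hconj
  have h7 := PermFive.dt_even _ h4 h5 h6
  have h8 : Equiv.Perm.sign π ^ m = 1 := by
    rw [← map_pow]
    rw [map_mul, map_mul, mul_comm (Equiv.Perm.sign σ), mul_assoc, ← map_mul, mul_inv_cancel,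
      map_one, mul_one] at h7
    exact h7
  obtain ⟨n, hn⟩ := hm
  rw [hn, pow_add, pow_mul, pow_one] at h8
  rcases Int.units_eq_one_or (Equiv.Perm.sign π) with h9 | h9
  · exact h9
  · rw [h9] at h8
    simp at h8

theorem a0_mem_R : PermFive.a0 ∈ R h := by
  obtain ⟨g, hg, hgd⟩ := h.conj_d_trans 2 (by decide)
  obtain ⟨π, hπ⟩ := exists_perm h (T_le_normalizer h hg)
  obtain ⟨h4, h5, h6⟩ := perm_T h hg hπ
  have h7 : π 1 = 2 := h.d_inj _ _ (by rw [← hπ, hgd])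
  rw [← PermFive.dt2 π h4 h5 h6 h7]
  exact ⟨g, T_le_normalizer h hg, hπ⟩

theorem b0_mem_R : PermFive.b0 ∈ R h := by
  obtain ⟨g, hg, hgd⟩ := h.conj_d_trans 3 (by decide)
  obtain ⟨π, hπ⟩ := exists_perm h (T_le_normalizer h hg)
  obtain ⟨h4, h5, h6⟩ := perm_T h hg hπ
  have h7 : π 1 = 3 := h.d_inj _ _ (by rw [← hπ, hgd])
  rw [← PermFive.dt3 π h4 h5 h6 h7]
  exact ⟨g, T_le_normalizer h hg, hπ⟩

/-- `N(E)` moves `z`. -/
theorem exists_moved [IsSimpleGroup G] : ∃ g ∈ normalizer (h.E : Set G), g * h.d 0 * g⁻¹ ≠ h.d 0 := by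
  by_contra hcon
  push Not at hcon
  have hiso : ∀ g : G, g * h.d 0 * g⁻¹ ∈ (T : Subgroup G) → g * h.d 0 * g⁻¹ = h.d 0 := by
    intro g hg
    obtain ⟨n, -, hn, hnk⟩ := exists_norm h (M := ⊤) le_top (mem_top g) (h.d_mem 0) (key h hg)
    rw [← hnk]
    exact hcon n hn
  have hord : orderOf (h.d 0) = 2 :=
    orderOf_eq_prime (by rw [pow_two]; exact d_sq h 0) (h.d_ne_one 0)
  obtain ⟨N, hN, hNo, hNc⟩ := Cfsg.Agent.S0215.result T (h.d 0) hord (d_mem_T h 0) hiso
  have hN1 : N ≠ ⊤ := by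
    rintro rfl
    rw [card_top] at hNo
    have h3 : 2 ∣ Nat.card G := by
      rw [← hord]; exact orderOf_dvd_natCard _
    exact (Nat.not_even_iff_odd.2 hNo) (even_iff_two_dvd.2 h3)
  have hN0 : N = ⊥ := (hN.eq_bot_or_eq_top).resolve_right hN1
  have hcen : h.d 0 ∈ center G := by
    rw [mem_center_iff]
    intro g
    have h3 := hNc g
    rw [hN0, mem_bot] at h3
    calc g * h.d 0 = 1 * (g * h.d 0) := by group
      _ = h.d 0 * g * (h.d 0)⁻¹ * g⁻¹ * (g * h.d 0) := by rw [h3]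
      _ = _ := by group
  have hctop : center G = ⊤ := by
    refine (inferInstance : (center G).Normal).eq_bot_or_eq_top.resolve_left ?_
    intro hb
    rw [hb, mem_bot] at hcen
    exact h.d_ne_one 0 hcen
  obtain ⟨g, -, hg⟩ := h.conj_d_trans 2 (by decide)
  have h3 : h.d 1 ∈ center G := by rw [hctop]; exact mem_top _
  have h4 := mem_center_iff.1 h3 g
  rw [h4, mul_inv_cancel_right] at hg
  exact absurd (h.d_inj _ _ hg) (by decide)

/-- `N(E)` induces the alternating group on the `d i`. -/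
theorem R_eq [IsSimpleGroup G] : R h = alternatingGroup (Fin 5) := by
  obtain ⟨g, hg, hgz⟩ := exists_moved h
  obtain ⟨π, hπ⟩ := exists_perm h hg
  refine PermFive.eq_alternating (R_le h) (a0_mem_R h) (b0_mem_R h) (r := π) ⟨g, hg, hπ⟩ ?_
  intro h0
  apply hgz
  rw [hπ, h0]

theorem E_alt [IsSimpleGroup G] {π : Equiv.Perm (Fin 5)} (hπ : π ∈ alternatingGroup (Fin 5)) :
    ∃ n ∈ normalizer (h.E : Set G), ∀ i, n * h.d i * n⁻¹ = h.d (π i) := by
  rw [← R_eq h] at hπ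
  exact hπ

end Sylow

end Cfsg.Agent.SylowU5.Fusion
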