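import Mathlib
import Cfsg.Agent.SylowU5.Elem
import Cfsg.Agent.R01.Closing

/-! Step (3) of S0513: `C_G(t)` is solvable when `C_G(z)` is. -/

set_option autoImplicit false
set_option linter.style.haveILetI false

namespace Cfsg.Agent.SylowU5.SolvT

universe u v

open Cfsg.Agent.SylowU5.Basic Cfsg.Agent.SylowU5.Elem

/-- The odd order theorem in the universe `v`. -/
def OddOrder.{w} : Prop := ∀ (K : Type w) [Group K] [Finite K], Odd (Nat.card K) → Group.IsSolvable K

/-- a finite group with a solvable subgroup of index at most two is solvable -/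
theorem solvable_of_two_cosets {K : Type*} [Group K] [Finite K] (C : Subgroup K)
    (hC : Group.IsSolvable C) (s : K) (hs : ∀ g : K, g ∈ C ∨ s⁻¹ * g ∈ C) : Group.IsSolvable K := by
  by_cases htop : C = ⊤
  · subst htop
    exact Group.isSolvable_of_surjective (f := (Subgroup.topEquiv (G := K)).toMonoidHom)
      (Subgroup.topEquiv (G := K)).surjective
  have hidx : C.index = 2 := by
    have h1 : C.index ≤ 2 := by
      have : Nat.card (K ⧸ C) ≤ Nat.card Bool := by
        apply Nat.card_le_card_of_surjective (fun b : Bool => if b then (QuotientGroup.mk 1 : K ⧸ C)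
          else QuotientGroup.mk s)
        intro q
        obtain ⟨g, rfl⟩ := QuotientGroup.mk_surjective q
        rcases hs g with h1 | h1
        · refine ⟨true, ?_⟩
          simp only [if_true]
          rw [QuotientGroup.eq]
          simpa using h1
        · refine ⟨false, ?_⟩
          simp only [Bool.false_eq_true, if_false]
          rw [QuotientGroup.eq]
          exact h1
      simpa [Subgroup.index] using this
    have h2 : C.index ≠ 1 := fun h => htop (Subgroup.index_eq_one.mp h)
    have h3 : C.index ≠ 0 := Subgroup.index_ne_zero_of_finite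
    omega
  haveI : C.Normal := Subgroup.normal_of_index_eq_two hidx
  haveI := hC
  have hq : Nat.card (K ⧸ C) = 2 := hidx
  haveI : Fact (Nat.Prime 2) := ⟨Nat.prime_two⟩
  haveI : IsCyclic (K ⧸ C) := isCyclic_of_prime_card hq
  haveI : Group.IsSolvable (K ⧸ C) := by
    letI := IsCyclic.commGroup (α := K ⧸ C)
    infer_instance
  exact (Group.isSolvable_iff_subgroup_quotient (H := C)).mpr ⟨inferInstance, inferInstance⟩

theorem conj_mul_eq {K : Type*} [Group K] (r g x : K) :
    r * g * x * (r * g)⁻¹ = r * (g * x * g⁻¹) * r⁻¹ := by group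

/-- solvability from the Z*-theorem modulo a central involution -/
theorem solvable_of_core {K : Type*} [Group K] [Finite K] (x t : K) (O : Subgroup K) (hO : O.Normal)
    (hOs : Group.IsSolvable O) (hC : Group.IsSolvable ↥(Subgroup.centralizer ({x} : Set K)))
    (hcore : ∀ g : K, ∃ r ∈ O, r * (g * x * g⁻¹) * r⁻¹ = x ∨ r * (g * x * g⁻¹) * r⁻¹ = t * x) :
    Group.IsSolvable K := by
  set π := QuotientGroup.mk' O
  set C : Subgroup K := Subgroup.centralizer ({x} : Set K) with hCdef
  have hCm : Group.IsSolvable (C.map π) := by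
    haveI := hC
    exact Group.isSolvable_of_surjective (f := π.subgroupMap C) (π.subgroupMap_surjective C)
  have hmemC : ∀ g : K, g * x * g⁻¹ = x → g ∈ C := by
    intro g hg
    rw [hCdef, Subgroup.mem_centralizer_singleton_iff]
    rw [mul_inv_eq_iff_eq_mul] at hg
    exact hg
  have hπr : ∀ r ∈ O, π r = 1 := fun r hr => (QuotientGroup.eq_one_iff r).mpr hr
  have hQ : Group.IsSolvable (K ⧸ O) := by
    by_cases hall : ∀ g : K, π g ∈ C.map π
    · apply solvable_of_two_cosets (C.map π) hCm 1
      intro q
      obtain ⟨g, rfl⟩ := QuotientGroup.mk'_surjective O q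
      exact Or.inl (hall g)
    · push Not at hall
      obtain ⟨s, hs⟩ := hall
      have hs' : ∃ s' : K, π s' = π s ∧ s' * x * s'⁻¹ = t * x := by
        obtain ⟨r, hr, h1 | h1⟩ := hcore s
        · exfalso
          apply hs
          refine ⟨r * s, hmemC _ ?_, ?_⟩
          · rw [conj_mul_eq, h1]
          · rw [map_mul, hπr r hr, one_mul]
        · refine ⟨r * s, ?_, ?_⟩
          · rw [map_mul, hπr r hr, one_mul]
          · rw [conj_mul_eq, h1]
      obtain ⟨s', hs1, hs2⟩ := hs'
      apply solvable_of_two_cosets (C.map π) hCm (π s')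
      intro q
      obtain ⟨g, rfl⟩ := QuotientGroup.mk'_surjective O q
      obtain ⟨r, hr, h1 | h1⟩ := hcore g
      · left
        refine ⟨r * g, hmemC _ ?_, ?_⟩
        · rw [conj_mul_eq, h1]
        · rw [map_mul, hπr r hr, one_mul]
      · right
        refine ⟨s'⁻¹ * (r * g), hmemC _ ?_, ?_⟩
        · have h2 : s'⁻¹ * (r * g) * x * (s'⁻¹ * (r * g))⁻¹ =
              s'⁻¹ * (r * (g * x * g⁻¹) * r⁻¹) * s' := by group
          rw [h2, h1, ← hs2]; group
        · rw [map_mul, map_mul, hπr r hr, one_mul, map_inv]
  haveI := hQ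
  haveI := hOs
  haveI := hO
  exact (Group.isSolvable_iff_subgroup_quotient (H := O)).mpr ⟨inferInstance, inferInstance⟩

end Cfsg.Agent.SylowU5.SolvT
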