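import Mathlib
import Cfsg.Prelude.Def_Local
import Cfsg.Agent.SylowU5.SolvT
import Cfsg.Agent.TwoFusion.IsolatedCenter
import Cfsg.Agent.SignalizersComponents.RelSylow
import Cfsg.Agent.S0215

/-!
# Solvability of subgroups from the Z*-theorem (relative forms)
-/

set_option autoImplicit false
open Cfsg

namespace Cfsg.Agent.SylowU5.Rel

universe u

open Subgroup Cfsg.Agent.SignalizersComponents.RelSylow Cfsg.Agent.SylowU5.SolvT

theorem zStar : Cfsg.Agent.R01.Closing.ZStar.{u} := fun _ _ _ P v hv hvP hiso =>
  Cfsg.Agent.S0215.result P v hv hvP hiso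

/-- a subgroup of a solvable subgroup is solvable -/
theorem solvable_mono {G : Type*} [Group G] {A B : Subgroup G} (hAB : A ≤ B)
    (hB : Group.IsSolvable B) : Group.IsSolvable A :=
  Group.isSolvable_of_isSolvable_injective (inclusion_injective hAB)

/-- conjugates of solvable subgroups are solvable -/
theorem solvable_of_conj {G : Type*} [Group G] {A B : Subgroup G} (g : G)
    (h : ∀ a ∈ A, g * a * g⁻¹ ∈ B) (hB : Group.IsSolvable B) : Group.IsSolvable A := by
  have h1 : A.map (MulAut.conj g).toMonoidHom ≤ B := by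
    rintro _ ⟨a, ha, rfl⟩
    exact h a ha
  have h2 := solvable_mono h1 hB
  have e := A.equivMapOfInjective (MulAut.conj g).toMonoidHom (MulAut.conj g).injective
  exact Group.isSolvable_of_isSolvable_injective (f := e.toMonoidHom) e.injective

/-- centralizers in a subgroup -/
theorem solvable_centralizer_subtype {G : Type*} [Group G] {M : Subgroup G} (x : M)
    (hC : Group.IsSolvable ↥(M ⊓ centralizer ({(x : G)} : Set G))) :
    Group.IsSolvable ↥(centralizer ({x} : Set M)) := by
  let f : ↥(centralizer ({x} : Set M)) →* ↥(M ⊓ centralizer ({(x : G)} : Set G)) :=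
    { toFun := fun y => ⟨((y : M) : G), (y : M).2, mem_centralizer_singleton_iff.2
        (congrArg Subtype.val (mem_centralizer_singleton_iff.1 y.2))⟩
      map_one' := rfl
      map_mul' := fun _ _ => rfl }
  have hf : Function.Injective f := by
    intro a b hab
    apply Subtype.ext
    apply Subtype.ext
    have h5 : ((f a : ↥(M ⊓ centralizer ({(x : G)} : Set G))) : G) = f b := by rw [hab]
    exact h5
  exact Group.isSolvable_of_isSolvable_injective hf

/-- Z*-theorem modulo a central involution, solvability form: `x ∈ R`, `R` Sylow in `M ≤ C(t)`, all conjugates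
of `x` in `R` are `x` or `t x`, and `C_M(x)` is solvable; then `M` is solvable. -/
theorem solvable_of_isolated_mod {G : Type u} [Group G] [Finite G] (hFT : OddOrder.{u})
    {M R : Subgroup G} (hR : IsMaxP 2 M R) {x t : G} (hx : x ∈ R) (ht : t ∈ R)
    (hMt : ∀ m ∈ M, m * t = t * m) (hxx : x * x = 1) (htt : t * t = 1) (hx1 : x ≠ 1) (ht1 : t ≠ 1)
    (hxt : x ≠ t)
    (hiso : ∀ m ∈ M, m * x * m⁻¹ ∈ R → m * x * m⁻¹ = x ∨ m * x * m⁻¹ = t * x)
    (hC : Group.IsSolvable ↥(M ⊓ centralizer ({x} : Set G))) : Group.IsSolvable M := by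
  have h2 : Fact (Nat.Prime 2) := ⟨Nat.prime_two⟩
  let x' : M := ⟨x, hR.2.1 hx⟩
  let t' : M := ⟨t, hR.2.1 ht⟩
  have htord : orderOf t' = 2 := orderOf_eq_prime (by rw [pow_two]; exact Subtype.ext htt)
    (fun h => ht1 (congrArg Subtype.val h))
  obtain ⟨O, hO, hOo, hOc⟩ := Cfsg.Agent.R01.Closing.exists_core zStar t' x' htord
    (fun g => Subtype.ext (hMt g g.2)) (Subtype.ext hxx) (fun h => hx1 (congrArg Subtype.val h))
    (fun h => hxt (congrArg Subtype.val h)) hR.toSylow
    (by show x' ∈ R.subgroupOf M; rw [mem_subgroupOf]; exact hx)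
    (by show t' ∈ R.subgroupOf M; rw [mem_subgroupOf]; exact ht)
    (by
      intro g hg
      have hg' : (g : G) * x * (g : G)⁻¹ ∈ R := hg
      rcases hiso g g.2 hg' with h | h
      · left; exact Subtype.ext h
      · right; exact Subtype.ext h)
  exact solvable_of_core x' t' O hO (hFT O hOo)
    (solvable_centralizer_subtype x' hC) hOc

/-- the quotient of a finite group by the odd core is covered by `N` -/
theorem solvable_of_cover {G : Type u} [Group G] [Finite G] (hFT : OddOrder.{u}) (N : Subgroup G)
    (hN : Group.IsSolvable N) (h : ∀ g : G, ∃ o ∈ oddCore G, ∃ c ∈ N, g = o * c) :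
    Group.IsSolvable G := by
  have hOn : (oddCore G).Normal := Cfsg.Agent.Lib.Cores.pPrimeCore_normal 2
  have hOs : Group.IsSolvable (oddCore G) := hFT _
    (Nat.coprime_two_right.mp (Cfsg.Agent.Lib.Cores.pPrimeCore_coprime 2))
  have hQ : Group.IsSolvable (G ⧸ oddCore G) := by
    let f : N →* G ⧸ oddCore G := (QuotientGroup.mk' (oddCore G)).comp N.subtype
    have hf : Function.Surjective f := by
      intro q
      obtain ⟨g, rfl⟩ := QuotientGroup.mk'_surjective (oddCore G) q
      obtain ⟨o, ho, c, hc, rfl⟩ := h g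
      refine ⟨⟨c, hc⟩, ?_⟩
      show QuotientGroup.mk' (oddCore G) c = QuotientGroup.mk' (oddCore G) (o * c)
      rw [map_mul, show QuotientGroup.mk' (oddCore G) o = 1 from (QuotientGroup.eq_one_iff o).2 ho,
        one_mul]
    exact Group.isSolvable_of_surjective hf
  exact (Group.isSolvable_iff_subgroup_quotient (H := oddCore G)).mpr ⟨hOs, hQ⟩

/-- If all elements of the 2-subgroup `A ≤ R` are isolated in `M`, then `M = O(M) C_M(A)`;
solvability form. -/
theorem solvable_of_isolated {G : Type u} [Group G] [Finite G] (hFT : OddOrder.{u})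
    {M R : Subgroup G} (hR : IsMaxP 2 M R) {A : Subgroup G} (hA : A ≤ R)
    (hiso : ∀ a ∈ A, ∀ m ∈ M, m * a * m⁻¹ ∈ R → m * a * m⁻¹ = a)
    (hC : Group.IsSolvable ↥(M ⊓ centralizer (A : Set G))) : Group.IsSolvable M := by
  have h2 : Fact (Nat.Prime 2) := ⟨Nat.prime_two⟩
  let A' : Subgroup M := A.subgroupOf M
  have h1 := Cfsg.Agent.TwoFusion.IsolatedCenter.commutator_mem_oddCore
    (fun G _ _ P v hv hvP hiso => Cfsg.Agent.S0215.result P v hv hvP hiso) (Nat.card M) M le_rfl
    hR.toSylow A' (by
      intro a ha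
      show a ∈ R.subgroupOf M
      rw [mem_subgroupOf] at ha ⊢
      exact hA ha)
    (by
      intro a ha g hg
      rw [mem_subgroupOf] at ha
      apply Subtype.ext
      exact hiso a ha g g.2 hg)
  have hA2 : IsPGroup 2 A' := by
    have hA3 : IsPGroup 2 A := hR.1.to_le hA
    exact hA3.comap_of_injective M.subtype M.subtype_injective
  refine solvable_of_cover hFT (centralizer (A' : Set M)) ?_ ?_
  · let f : ↥(centralizer (A' : Set M)) →* ↥(M ⊓ centralizer (A : Set G)) :=
      { toFun := fun y => ⟨((y : M) : G), (y : M).2, mem_centralizer_iff.2 (fun a ha => by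
          have haM : a ∈ M := hR.2.1 (hA ha)
          have h3 := mem_centralizer_iff.1 y.2 ⟨a, haM⟩ (by
            show (⟨a, haM⟩ : M) ∈ A.subgroupOf M
            rw [mem_subgroupOf]; exact ha)
          exact congrArg Subtype.val h3)⟩
        map_one' := rfl
        map_mul' := fun _ _ => rfl }
    have hf : Function.Injective f := by
      intro a b hab
      apply Subtype.ext
      apply Subtype.ext
      have h5 : ((f a : ↥(M ⊓ centralizer (A : Set G))) : G) = f b := by rw [hab]
      exact h5
    exact Group.isSolvable_of_isSolvable_injective hf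
  · intro g
    exact Cfsg.Agent.TwoFusion.IsolatedCenter.exists_eq_mul A' hA2 h1 g

end Cfsg.Agent.SylowU5.Rel
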