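import Mathlib
import Cfsg.Agent.SylowU5.Fusion
import Cfsg.Agent.SylowU5.Elem
import Cfsg.Agent.SylowU5.Rel

/-!
# Solvability of `C(u) ∩ C(z)` for the involutions `u ≠ z` of `Q` (step (2') of S0513)
-/

set_option autoImplicit false
set_option linter.unusedVariables false
set_option linter.unusedSectionVars false
open Cfsg

namespace Cfsg.Agent.SylowU5.Prime

universe u

open Subgroup Cfsg.Agent.SylowU5.Basic Cfsg.Agent.SignalizersComponents.RelSylow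
  Cfsg.Agent.SylowU5.SolvT Cfsg.Agent.SylowU5.Fusion Cfsg.Agent.SylowU5.Rel

section Perm

open Equiv.Perm

set_option maxRecDepth 1000000

theorem eq_one_of_three : ∀ π : Equiv.Perm (Fin 5), sign π = 1 → π 0 = 0 → π 1 = 1 → π 2 = 2 →
    π = 1 := by decide

theorem exists_two_trans : ∀ i j : Fin 5, i ≠ 0 → j ≠ 0 → i ≠ j →
    ∃ π : Equiv.Perm (Fin 5), sign π = 1 ∧ π 0 = 0 ∧ π 1 = i ∧ π 2 = j := by decide

theorem exists_zero_to : ∀ i : Fin 5, ∃ π : Equiv.Perm (Fin 5), sign π = 1 ∧ π 0 = i := by decide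

theorem exists_pair_to : ∀ i j : Fin 5, i ≠ j →
    ∃ π : Equiv.Perm (Fin 5), sign π = 1 ∧ π 1 = i ∧ π 2 = j := by decide

end Perm

variable {G : Type u} [Group G] [Finite G] {T : Sylow 2 G} (h : U5T (T : Subgroup G))
include h

theorem mem_cent_E {g : G} (hg : ∀ i, g * h.d i = h.d i * g) : g ∈ centralizer (h.E : Set G) := by
  rw [mem_centralizer_iff]
  intro x hx
  rcases h.E_cases x hx with rfl | ⟨i, rfl⟩ | ⟨i, j, -, rfl⟩
  · simp
  · exact (hg i).symm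
  · calc h.d i * h.d j * g = h.d i * (h.d j * g) := by group
      _ = h.d i * (g * h.d j) := by rw [hg j]
      _ = (h.d i * g) * h.d j := by group
      _ = (g * h.d i) * h.d j := by rw [hg i]
      _ = g * (h.d i * h.d j) := by group

theorem cent_E_iff {g : G} (hg : g ∈ centralizer (h.E : Set G)) {x : G} (hx : x ∈ h.E) :
    g * x = x * g := (mem_centralizer_iff.1 hg x hx).symm

omit [Finite G] h in
theorem conj_eq_iff {g x : G} : g * x * g⁻¹ = x ↔ g * x = x * g := mul_inv_eq_iff_eq_mul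

theorem mem_cent_E_of_three {g : G} (hg : g ∈ normalizer (h.E : Set G))
    (h0 : g * h.d 0 = h.d 0 * g) (h1 : g * h.d 1 = h.d 1 * g) (h2 : g * h.d 2 = h.d 2 * g) :
    g ∈ centralizer (h.E : Set G) := by
  obtain ⟨π, hπ⟩ := exists_perm h hg
  have hs : Equiv.Perm.sign π = 1 := Equiv.Perm.mem_alternatingGroup.1 (R_le h ⟨g, hg, hπ⟩)
  have key : ∀ i, g * h.d i = h.d i * g → π i = i := by
    intro i hi
    apply h.d_inj
    rw [← hπ, hi, mul_inv_cancel_right]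
  have h3 := eq_one_of_three π hs (key 0 h0) (key 1 h1) (key 2 h2)
  apply mem_cent_E h
  intro i
  rw [← conj_eq_iff, hπ, h3]; rfl

/-- all elements of `E` are isolated in a subgroup of `C(d 0) ∩ C(d 1) ∩ C(d 2)` -/
theorem isolated_Y {M R : Subgroup G} (hR : IsMaxP 2 M R) (hER : h.E ≤ R)
    (hM : ∀ m ∈ M, m * h.d 0 = h.d 0 * m ∧ m * h.d 1 = h.d 1 * m ∧ m * h.d 2 = h.d 2 * m) :
    ∀ a ∈ h.E, ∀ m ∈ M, m * a * m⁻¹ ∈ R → m * a * m⁻¹ = a := by
  intro a ha m hm hmR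
  obtain ⟨k, hk, hkR⟩ := exists_conj_T h hR.1 hER
  have hRc : ∀ r ∈ R, r ∈ centralizer (h.E : Set G) := by
    intro r hr
    have hrN : r ∈ normalizer (h.E : Set G) := mem_normalizer_of_le h hR.1 hER
      (fun x hx => R.mul_mem (R.mul_mem hr (hER hx)) (R.inv_mem hr))
    obtain ⟨h0, h1, h2⟩ := hM r (hR.2.1 hr)
    exact mem_cent_E_of_three h hrN h0 h1 h2
  have haa : a * a = 1 := h.E_sq a ha
  -- the conjugate lies in `E`
  have hmE : m * a * m⁻¹ ∈ h.E := by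
    have h1 := hkR _ hmR
    have h2 : k⁻¹ * (m * a * m⁻¹) * k ∈ h.V := by
      rw [h.mem_V_iff _ h1]
      intro x hx
      have h3 := cent_E_iff h (hRc _ hmR) (norm_conj h hk hx)
      calc k⁻¹ * (m * a * m⁻¹) * k * x = k⁻¹ * ((m * a * m⁻¹) * (k * x * k⁻¹)) * k := by group
        _ = k⁻¹ * ((k * x * k⁻¹) * (m * a * m⁻¹)) * k := by rw [h3]
        _ = _ := by group
    have h3 : k⁻¹ * (m * a * m⁻¹) * k ∈ h.E := by
      apply h.V_invol _ h2
      calc k⁻¹ * (m * a * m⁻¹) * k * (k⁻¹ * (m * a * m⁻¹) * k) = k⁻¹ * (m * (a * a) * m⁻¹) * k := by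
            group
        _ = 1 := by rw [haa]; group
    have h4 := norm_conj h hk h3
    have e : k * (k⁻¹ * (m * a * m⁻¹) * k) * k⁻¹ = m * a * m⁻¹ := by group
    rwa [e] at h4
  obtain ⟨n, hnM, hnN, hn⟩ := exists_norm h (M := M) (hER.trans hR.2.1) hm ha hmE
  obtain ⟨h0, h1, h2⟩ := hM n hnM
  rw [← hn, conj_eq_iff]
  exact cent_E_iff h (mem_cent_E_of_three h hnN h0 h1 h2) ha

theorem solvable_Y (hFT : OddOrder.{u}) (hE : Group.IsSolvable ↥(centralizer (h.E : Set G)))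
    {M : Subgroup G} (hEM : h.E ≤ M)
    (hM : ∀ m ∈ M, m * h.d 0 = h.d 0 * m ∧ m * h.d 1 = h.d 1 * m ∧ m * h.d 2 = h.d 2 * m) :
    Group.IsSolvable M := by
  obtain ⟨R, hR, hER⟩ := exists_isMaxP (T.2.to_le (E_le_T h)) hEM
  exact solvable_of_isolated hFT hR hER (isolated_Y h hR hER hM) (solvable_mono inf_le_right hE)

/-! ### The five involutions `d i` are conjugate in `N(E)` -/

theorem exists_conj_d [IsSimpleGroup G] (i : Fin 5) :
    ∃ n ∈ normalizer (h.E : Set G), n * h.d 0 * n⁻¹ = h.d i := by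
  obtain ⟨π, hs, h0⟩ := exists_zero_to i
  obtain ⟨n, hn, hnd⟩ := E_alt h (Equiv.Perm.mem_alternatingGroup.2 hs)
  exact ⟨n, hn, by rw [hnd, h0]⟩

/-- the products `d i * d j` with `i, j ≠ 0` are conjugate in `N(E) ∩ C(z)` -/
theorem exists_conj_dd_z [IsSimpleGroup G] {i j : Fin 5} (hi : i ≠ 0) (hj : j ≠ 0) (hij : i ≠ j) :
    ∃ n ∈ normalizer (h.E : Set G), n * h.d 0 = h.d 0 * n ∧
      n * (h.d 1 * h.d 2) * n⁻¹ = h.d i * h.d j := by
  obtain ⟨π, hs, h0, h1, h2⟩ := exists_two_trans i j hi hj hij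
  obtain ⟨n, hn, hnd⟩ := E_alt h (Equiv.Perm.mem_alternatingGroup.2 hs)
  refine ⟨n, hn, by rw [← conj_eq_iff, hnd, h0], ?_⟩
  calc n * (h.d 1 * h.d 2) * n⁻¹ = (n * h.d 1 * n⁻¹) * (n * h.d 2 * n⁻¹) := by group
    _ = _ := by rw [hnd, hnd, h1, h2]

/-- the products `d i * d j` are conjugate in `N(E)` -/
theorem exists_conj_dd [IsSimpleGroup G] {i j : Fin 5} (hij : i ≠ j) :
    ∃ n ∈ normalizer (h.E : Set G), n * (h.d 1 * h.d 2) * n⁻¹ = h.d i * h.d j := by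
  obtain ⟨π, hs, h1, h2⟩ := exists_pair_to i j hij
  obtain ⟨n, hn, hnd⟩ := E_alt h (Equiv.Perm.mem_alternatingGroup.2 hs)
  refine ⟨n, hn, ?_⟩
  calc n * (h.d 1 * h.d 2) * n⁻¹ = (n * h.d 1 * n⁻¹) * (n * h.d 2 * n⁻¹) := by group
    _ = _ := by rw [hnd, hnd, h1, h2]

/-- conjugates of `d i` in a 2-group containing `E` lie in `E` -/
theorem conj_d_mem_E [IsSimpleGroup G] {R : Subgroup G} (hR : IsPGroup 2 R) (hER : h.E ≤ R) {g : G}
    {i : Fin 5} (hg : g * h.d i * g⁻¹ ∈ R) : g * h.d i * g⁻¹ ∈ h.E := by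
  obtain ⟨k, hk, hkR⟩ := exists_conj_T h hR hER
  obtain ⟨n, -, hn⟩ := exists_conj_d h i
  have h1 := hkR _ hg
  rw [← hn] at h1 ⊢
  have e : k⁻¹ * (g * (n * h.d 0 * n⁻¹) * g⁻¹) * k =
      (k⁻¹ * g * n) * h.d 0 * (k⁻¹ * g * n)⁻¹ := by group
  rw [e] at h1
  have h2 := norm_conj h hk (key h h1)
  rw [← e] at h2
  have e2 : k * (k⁻¹ * (g * (n * h.d 0 * n⁻¹) * g⁻¹) * k) * k⁻¹ = g * (n * h.d 0 * n⁻¹) * g⁻¹ := by
    group
  rwa [e2] at h2

theorem t_mul_d1 : h.d 1 * h.d 2 * h.d 1 = h.d 2 := by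
  rw [mul_assoc, Elem.d_comm h 2 1, ← mul_assoc, d_sq, one_mul]

/-- `d 1` is isolated modulo `t = d 1 * d 2` in a subgroup of `C(t)` containing `E`. -/
theorem isolated_H [IsSimpleGroup G] {M R : Subgroup G} (hR : IsMaxP 2 M R) (hER : h.E ≤ R)
    (hM : ∀ m ∈ M, m * (h.d 1 * h.d 2) = h.d 1 * h.d 2 * m) :
    ∀ m ∈ M, m * h.d 1 * m⁻¹ ∈ R →
      m * h.d 1 * m⁻¹ = h.d 1 ∨ m * h.d 1 * m⁻¹ = h.d 1 * h.d 2 * h.d 1 := by
  intro m hm hmR
  obtain ⟨n, hnM, hnN, hn⟩ := exists_norm h (M := M) (hER.trans hR.2.1) hm (h.d_mem 1)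
    (conj_d_mem_E h hR.1 hER hmR)
  obtain ⟨π, hπ⟩ := exists_perm h hnN
  have h1 : h.d (π 1) * h.d (π 2) = h.d 1 * h.d 2 := by
    rw [← hπ, ← hπ]
    calc n * h.d 1 * n⁻¹ * (n * h.d 2 * n⁻¹) = n * (h.d 1 * h.d 2) * n⁻¹ := by group
      _ = _ := by rw [hM n hnM]; group
  rw [← hn, hπ, t_mul_d1]
  rcases h.dd_inj _ _ _ _ (fun h2 => by
    have := π.injective h2; exact absurd this (by decide)) (by decide) h1 with ⟨h2, -⟩ | ⟨h2, -⟩
  · left; rw [h2]
  · right; rw [h2]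

theorem solvable_H [IsSimpleGroup G] (hFT : OddOrder.{u}) {M : Subgroup G} (hEM : h.E ≤ M)
    (hM : ∀ m ∈ M, m * (h.d 1 * h.d 2) = h.d 1 * h.d 2 * m)
    (hC : Group.IsSolvable ↥(M ⊓ centralizer ({h.d 1} : Set G))) : Group.IsSolvable M := by
  obtain ⟨R, hR, hER⟩ := exists_isMaxP (T.2.to_le (E_le_T h)) hEM
  refine solvable_of_isolated_mod hFT hR (hER (h.d_mem 1)) (hER (Elem.dd_mem h 1 2)) hM
    (d_sq h 1) (h.E_sq _ (Elem.dd_mem h 1 2)) (h.d_ne_one 1) (h.dd_ne_one 1 2 (by decide))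
    (fun h1 => h.dd_ne_d 1 2 1 (by decide) h1.symm) (isolated_H h hR hER hM) hC

/-- `C(z) ∩ C(t)` is solvable, `t = d 1 * d 2` -/
theorem solvable_zt [IsSimpleGroup G] (hFT : OddOrder.{u})
    (hE : Group.IsSolvable ↥(centralizer (h.E : Set G))) :
    Group.IsSolvable ↥(centralizer ({h.d 0} : Set G) ⊓ centralizer ({h.d 1 * h.d 2} : Set G)) := by
  refine solvable_H h hFT ?_ (fun m hm => mem_centralizer_singleton_iff.1 hm.2) ?_
  · intro x hx
    exact ⟨mem_centralizer_singleton_iff.2 (E_comm h hx (h.d_mem 0)),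
      mem_centralizer_singleton_iff.2 (E_comm h hx (Elem.dd_mem h 1 2))⟩
  · refine solvable_Y h hFT hE ?_ ?_
    · intro x hx
      exact ⟨⟨mem_centralizer_singleton_iff.2 (E_comm h hx (h.d_mem 0)),
        mem_centralizer_singleton_iff.2 (E_comm h hx (Elem.dd_mem h 1 2))⟩,
        mem_centralizer_singleton_iff.2 (E_comm h hx (h.d_mem 1))⟩
    · intro m hm
      have h0 := mem_centralizer_singleton_iff.1 (mem_inf.1 (mem_inf.1 hm).1).1
      have ht := mem_centralizer_singleton_iff.1 (mem_inf.1 (mem_inf.1 hm).1).2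
      have h1 := mem_centralizer_singleton_iff.1 (mem_inf.1 hm).2
      refine ⟨h0, h1, ?_⟩
      rw [← t_mul_d1 h]
      calc m * (h.d 1 * h.d 2 * h.d 1) = m * (h.d 1 * h.d 2) * h.d 1 := by group
        _ = h.d 1 * h.d 2 * m * h.d 1 := by rw [ht]
        _ = h.d 1 * h.d 2 * (m * h.d 1) := by group
        _ = h.d 1 * h.d 2 * (h.d 1 * m) := by rw [h1]
        _ = _ := by group

/-- `C(z) ∩ C(d i * d j)` is solvable for `i, j ≠ 0` -/
theorem solvable_zdd [IsSimpleGroup G] (hFT : OddOrder.{u})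
    (hE : Group.IsSolvable ↥(centralizer (h.E : Set G))) {i j : Fin 5} (hi : i ≠ 0) (hj : j ≠ 0)
    (hij : i ≠ j) :
    Group.IsSolvable ↥(centralizer ({h.d 0} : Set G) ⊓ centralizer ({h.d i * h.d j} : Set G)) := by
  obtain ⟨n, hn, hnz, hnt⟩ := exists_conj_dd_z h hi hj hij
  refine solvable_of_conj n⁻¹ ?_ (solvable_zt h hFT hE)
  intro a ha'
  have h0 := mem_centralizer_singleton_iff.1 (mem_inf.1 ha').1
  have ha := mem_centralizer_singleton_iff.1 (mem_inf.1 ha').2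
  rw [mem_inf]
  constructor
  · rw [mem_centralizer_singleton_iff, inv_inv]
    have h1 : n⁻¹ * h.d 0 = h.d 0 * n⁻¹ := by
      calc n⁻¹ * h.d 0 = n⁻¹ * (h.d 0 * n) * n⁻¹ := by group
        _ = n⁻¹ * (n * h.d 0) * n⁻¹ := by rw [hnz]
        _ = _ := by group
    calc n⁻¹ * a * n * h.d 0 = n⁻¹ * a * (n * h.d 0) := by group
      _ = n⁻¹ * (a * h.d 0) * n := by rw [hnz]; group
      _ = (n⁻¹ * h.d 0) * a * n := by rw [h0]; group
      _ = _ := by rw [h1]; group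
  · rw [mem_centralizer_singleton_iff, inv_inv]
    rw [← hnt] at ha
    calc n⁻¹ * a * n * (h.d 1 * h.d 2) = n⁻¹ * (a * (n * (h.d 1 * h.d 2) * n⁻¹)) * n := by group
      _ = n⁻¹ * (n * (h.d 1 * h.d 2) * n⁻¹ * a) * n := by rw [ha]
      _ = _ := by group

/-- `C(d i)` is conjugate to `C(z)` -/
theorem solvable_d [IsSimpleGroup G] (hz : Group.IsSolvable ↥(centralizer ({h.d 0} : Set G)))
    (i : Fin 5) : Group.IsSolvable ↥(centralizer ({h.d i} : Set G)) := by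
  obtain ⟨n, hn, hnz⟩ := exists_conj_d h i
  refine solvable_of_conj n⁻¹ ?_ hz
  intro a ha
  rw [mem_centralizer_singleton_iff] at ha ⊢
  rw [inv_inv]
  rw [← hnz] at ha
  calc n⁻¹ * a * n * h.d 0 = n⁻¹ * (a * (n * h.d 0 * n⁻¹)) * n := by group
    _ = n⁻¹ * (n * h.d 0 * n⁻¹ * a) * n := by rw [ha]
    _ = _ := by group

/-- `C(t)` is solvable if `C(z)` is -/
theorem solvable_t [IsSimpleGroup G] (hFT : OddOrder.{u})
    (hz : Group.IsSolvable ↥(centralizer ({h.d 0} : Set G))) :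
    Group.IsSolvable ↥(centralizer ({h.d 1 * h.d 2} : Set G)) := by
  refine solvable_H h hFT ?_ (fun m hm => mem_centralizer_singleton_iff.1 hm) ?_
  · intro x hx
    exact mem_centralizer_singleton_iff.2 (E_comm h hx (Elem.dd_mem h 1 2))
  · exact solvable_mono inf_le_right (solvable_d h hz 1)

/-- all centralizers of involutions of `E` are solvable if `C(z)` is -/
theorem solvable_E [IsSimpleGroup G] (hFT : OddOrder.{u})
    (hz : Group.IsSolvable ↥(centralizer ({h.d 0} : Set G))) {e : G} (he : e ∈ h.E) (he1 : e ≠ 1) :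
    Group.IsSolvable ↥(centralizer ({e} : Set G)) := by
  rcases h.E_cases e he with h1 | ⟨i, rfl⟩ | ⟨i, j, hij, rfl⟩
  · exact absurd h1 he1
  · exact solvable_d h hz i
  · obtain ⟨n, hn, hnt⟩ := exists_conj_dd h hij
    refine solvable_of_conj n⁻¹ ?_ (solvable_t h hFT hz)
    intro a ha
    rw [mem_centralizer_singleton_iff] at ha ⊢
    rw [inv_inv]
    rw [← hnt] at ha
    calc n⁻¹ * a * n * (h.d 1 * h.d 2) = n⁻¹ * (a * (n * (h.d 1 * h.d 2) * n⁻¹)) * n := by group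
      _ = n⁻¹ * (n * (h.d 1 * h.d 2) * n⁻¹ * a) * n := by rw [ha]
      _ = _ := by group

end Cfsg.Agent.SylowU5.Prime
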