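import Mathlib
import Cfsg.Agent.SylowU5.Prime

/-!
# S0513, case A: a noncentral involution `u ∈ Q` outside `E` is conjugate into `E`

Then all the noncentral involutions of `Q` are conjugate in `C(z)`.
-/

set_option autoImplicit false
set_option linter.unusedVariables false
set_option linter.unusedSectionVars false
set_option linter.style.haveILetI false
open Cfsg

namespace Cfsg.Agent.SylowU5.CaseA

universe u

open Subgroup Cfsg.Agent.SylowU5.Basic Cfsg.Agent.SignalizersComponents.RelSylow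
  Cfsg.Agent.SylowU5.Fusion Cfsg.Agent.SylowU5.Prime

section Perm

open Equiv.Perm

set_option maxRecDepth 1000000
set_option maxHeartbeats 4000000

/-- the underlying finite set of the four-group -/
def S4 : Finset (Equiv.Perm (Fin 5)) := {1, PermFive.a0, PermFive.b0, PermFive.a0 * PermFive.b0}

theorem mem_S4 : ∀ π : Equiv.Perm (Fin 5), π 0 = 0 → (∀ i, π (π i) = i) →
    (π ≠ 1 → ∀ i, i ≠ 0 → π i ≠ i) → π ∈ S4 := by decide

theorem S4_zero : ∀ π ∈ S4, π 0 = 0 := by decide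

theorem S4_mul : ∀ π ∈ S4, ∀ σ ∈ S4, π * σ ∈ S4 := by decide

theorem S4_inv : ∀ π ∈ S4, π⁻¹ ∈ S4 := by decide

theorem S4_comm : ∀ π ∈ S4, ∀ σ ∈ S4, σ * π * σ⁻¹ = π := by decide

theorem S4_conj : ∀ π ∈ S4, ∀ π' ∈ S4, π ≠ 1 → π' ≠ 1 →
    ∃ σ : Equiv.Perm (Fin 5), sign σ = 1 ∧ σ 0 = 0 ∧ σ * π * σ⁻¹ = π' := by decide

theorem S4_pair : ∀ π ∈ S4,
    (π 1 = 1 ∧ π 2 = 2) ∨ (π 1 = 2 ∧ π 2 = 1) ∨ (π 1 = 3 ∧ π 2 = 4) ∨ (π 1 = 4 ∧ π 2 = 3) := by
  decide

theorem S4_normal : ∀ π ∈ S4, ∀ σ : Equiv.Perm (Fin 5), sign σ = 1 → σ 0 = 0 →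
    σ * π * σ⁻¹ ∈ S4 := by decide

end Perm

variable {G : Type u} [Group G] [Finite G] {T : Sylow 2 G} (h : U5T (T : Subgroup G))
include h

/-- the elements of `N(E)` inducing an element of the four-group -/
def L : Subgroup G where
  carrier := {g | g ∈ normalizer (h.E : Set G) ∧ ∃ π ∈ S4, ∀ i, g * h.d i * g⁻¹ = h.d (π i)}
  one_mem' := ⟨one_mem _, 1, by decide, fun i => by simp⟩
  mul_mem' := by
    rintro g k ⟨hg, π, hπ, hgi⟩ ⟨hk, σ, hσ, hki⟩
    refine ⟨mul_mem hg hk, π * σ, S4_mul π hπ σ hσ, fun i => ?_⟩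
    calc g * k * h.d i * (g * k)⁻¹ = g * (k * h.d i * k⁻¹) * g⁻¹ := by group
      _ = _ := by rw [hki, hgi]; rfl
  inv_mem' := by
    rintro g ⟨hg, π, hπ, hgi⟩
    refine ⟨inv_mem hg, π⁻¹, S4_inv π hπ, fun i => ?_⟩
    have h1 := hgi (π⁻¹ i)
    have h2 : π (π⁻¹ i) = i := π.apply_symm_apply i
    rw [h2] at h1
    rw [← h1]; group

theorem mem_L {g : G} : g ∈ L h ↔
    g ∈ normalizer (h.E : Set G) ∧ ∃ π ∈ S4, ∀ i, g * h.d i * g⁻¹ = h.d (π i) := Iff.rfl

theorem T_le_L : (T : Subgroup G) ≤ L h := by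
  intro g hg
  obtain ⟨π, hπ⟩ := exists_perm h (T_le_normalizer h hg)
  obtain ⟨h4, h5, h6⟩ := perm_T h hg hπ
  exact ⟨T_le_normalizer h hg, π, mem_S4 π h4 h5 h6, hπ⟩

theorem perm_unique {π σ : Equiv.Perm (Fin 5)} {g : G} (h1 : ∀ i, g * h.d i * g⁻¹ = h.d (π i))
    (h2 : ∀ i, g * h.d i * g⁻¹ = h.d (σ i)) : π = σ := by
  ext i
  rw [h.d_inj _ _ ((h1 i).symm.trans (h2 i))]

theorem perm_conj {π σ : Equiv.Perm (Fin 5)} {g n : G} (h1 : ∀ i, g * h.d i * g⁻¹ = h.d (π i))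
    (h2 : ∀ i, n * h.d i * n⁻¹ = h.d (σ i)) :
    ∀ i, n * g * n⁻¹ * h.d i * (n * g * n⁻¹)⁻¹ = h.d ((σ * π * σ⁻¹) i) := by
  intro i
  have h3 : h.d i = n * h.d (σ⁻¹ i) * n⁻¹ := by
    rw [h2]
    congr 1
    exact (σ.apply_symm_apply i).symm
  calc n * g * n⁻¹ * h.d i * (n * g * n⁻¹)⁻¹
      = n * g * n⁻¹ * (n * h.d (σ⁻¹ i) * n⁻¹) * (n * g * n⁻¹)⁻¹ := by rw [← h3]
    _ = n * (g * h.d (σ⁻¹ i) * g⁻¹) * n⁻¹ := by group
    _ = _ := by rw [h1, h2]; rfl

/-- involutions of `T` outside `E` induce a nontrivial element of the four-group -/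
theorem exists_perm_invol {u : G} (hu : u ∈ (T : Subgroup G)) (huu : u * u = 1) (huE : u ∉ h.E) :
    ∃ π ∈ S4, π ≠ 1 ∧ ∀ i, u * h.d i * u⁻¹ = h.d (π i) := by
  obtain ⟨π, hπ⟩ := exists_perm h (T_le_normalizer h hu)
  obtain ⟨h4, h5, h6⟩ := perm_T h hu hπ
  refine ⟨π, mem_S4 π h4 h5 h6, ?_, hπ⟩
  rintro rfl
  apply huE
  apply h.V_invol u ?_ huu
  rw [h.mem_V_iff u hu]
  intro x hx
  apply cent_E_iff h (mem_cent_E h fun i => ?_) hx
  exact mul_inv_eq_iff_eq_mul.mp (hπ i)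

/-- involutions of `T` outside `E` are conjugate in `C(z)` -/
theorem conj_of_not_mem_E [IsSimpleGroup G] {u u' : G} (hu : u ∈ (T : Subgroup G)) (huu : u * u = 1)
    (huE : u ∉ h.E) (hu' : u' ∈ (T : Subgroup G)) (huu' : u' * u' = 1) (huE' : u' ∉ h.E) :
    ∃ c : G, c * h.d 0 = h.d 0 * c ∧ c * u * c⁻¹ = u' := by
  obtain ⟨π, hπS, hπ1, hπ⟩ := exists_perm_invol h hu huu huE
  obtain ⟨π', hπS', hπ1', hπ'⟩ := exists_perm_invol h hu' huu' huE'
  obtain ⟨σ, hσs, hσ0, hσ⟩ := S4_conj π hπS π' hπS' hπ1 hπ1'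
  obtain ⟨n, hn, hnd⟩ := E_alt h (Equiv.Perm.mem_alternatingGroup.2 hσs)
  set w := n * u * n⁻¹ with hw
  have hww : w * w = 1 := by
    calc w * w = n * (u * u) * n⁻¹ := by rw [hw]; group
      _ = 1 := by rw [huu]; group
  have hwp : ∀ i, w * h.d i * w⁻¹ = h.d (π' i) := by
    rw [← hσ]
    exact perm_conj h hπ hnd
  have hwL : w ∈ L h := ⟨mul_mem (mul_mem hn (T_le_normalizer h hu)) (inv_mem hn), π', hπS', hwp⟩
  have hwP : IsPGroup 2 (zpowers w) := by
    rintro ⟨x, hx⟩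
    obtain ⟨k, rfl⟩ := mem_zpowers_iff.mp hx
    refine ⟨1, ?_⟩
    apply Subtype.ext
    simp only [pow_one, Subgroup.coe_pow, Subgroup.coe_one]
    rw [← zpow_natCast, ← zpow_mul, mul_comm, zpow_mul]
    have : w ^ ((2 : ℕ) : ℤ) = 1 := by rw [zpow_natCast, sq, hww]
    rw [this, one_zpow]
  obtain ⟨c, hcL, hcT⟩ := exists_conj_into (T_le_L h) hwP (by
    rw [zpowers_le]; exact hwL)
  obtain ⟨hcN, τ, hτ, hcd⟩ := (mem_L h).1 hcL
  have hvT := hcT w (mem_zpowers w)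
  set v := c * w * c⁻¹ with hv
  have hvv : v * v = 1 := by
    calc v * v = c * (w * w) * c⁻¹ := by rw [hv]; group
      _ = 1 := by rw [hww]; group
  have hvp : ∀ i, v * h.d i * v⁻¹ = h.d (π' i) := by
    have h1 := perm_conj h hwp hcd
    rw [S4_comm π' hπS' τ hτ] at h1
    exact h1
  have hvE : v ∉ h.E := by
    intro hvE
    apply hπ1'
    ext i
    have h1 := hvp i
    rw [E_comm h hvE (h.d_mem i), mul_inv_cancel_right] at h1
    rw [← h.d_inj _ _ h1]; rfl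
  have hvu : v * u'⁻¹ ∈ h.V := by
    rw [h.mem_V_iff _ ((T : Subgroup G).mul_mem hvT ((T : Subgroup G).inv_mem hu'))]
    intro x hx
    refine cent_E_iff h (mem_cent_E h fun i => ?_) hx
    have h1 : u'⁻¹ * h.d i * u' = h.d (π'⁻¹ i) := by
      have h2 := hπ' (π'⁻¹ i)
      have h3 : π' (π'⁻¹ i) = i := π'.apply_symm_apply i
      rw [h3] at h2
      rw [← h2]; group
    apply mul_inv_eq_iff_eq_mul.mp
    calc v * u'⁻¹ * h.d i * (v * u'⁻¹)⁻¹ = v * (u'⁻¹ * h.d i * u') * v⁻¹ := by group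
      _ = h.d (π' (π'⁻¹ i)) := by rw [h1, hvp]
      _ = h.d i := by congr 1; exact π'.apply_symm_apply i
  obtain ⟨g, hg, hgv⟩ := h.conj_u v hvT hvv hvE u' hu' huu' huE' hvu
  refine ⟨g * (c * n), ?_, ?_⟩
  · have h1 : n * h.d 0 = h.d 0 * n := by
      apply mul_inv_eq_iff_eq_mul.mp
      rw [hnd, hσ0]
    have h2 : c * h.d 0 = h.d 0 * c := by
      apply mul_inv_eq_iff_eq_mul.mp
      rw [hcd, S4_zero τ hτ]
    have h3 : g * h.d 0 = h.d 0 * g := h.z_comm g hg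
    calc g * (c * n) * h.d 0 = g * (c * (n * h.d 0)) := by group
      _ = g * ((c * h.d 0) * n) := by rw [h1]; group
      _ = (g * h.d 0) * (c * n) := by rw [h2]; group
      _ = h.d 0 * (g * (c * n)) := by rw [h3]; group
  · rw [← hgv, hv, hw]; group

/-- the centralizer of `d 1 * d 2` in `T` is a Sylow 2-subgroup of the centralizer of `d 1 * d 2` -/
theorem isMaxP_t : IsMaxP 2 (centralizer ({h.d 1 * h.d 2} : Set G))
    ((T : Subgroup G) ⊓ centralizer ({h.d 1 * h.d 2} : Set G)) := by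
  haveI : Fact (Nat.Prime 2) := ⟨Nat.prime_two⟩
  set t := h.d 1 * h.d 2 with ht
  set T1 : Subgroup G := (T : Subgroup G) ⊓ centralizer ({t} : Set G) with hT1
  have htE : t ∈ h.E := Elem.dd_mem h 1 2
  -- the index of `T1` in `T` is at most two
  have hcard : 512 ≤ Nat.card T1 := by
    let K : Subgroup (T : Subgroup G) := (centralizer ({t} : Set G)).subgroupOf T
    have hK : ∀ g : (T : Subgroup G), g ∈ K ↔ (g : G) * t = t * g := fun g => by
      rw [mem_subgroupOf, mem_centralizer_singleton_iff]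
    have hKT : Nat.card T1 = Nat.card K := by
      have e : K.map (T : Subgroup G).subtype = T1 := by
        rw [subgroupOf_map_subtype, inf_comm]
      rw [← e]
      exact card_map_of_injective (T : Subgroup G).subtype_injective
    have hcases : ∀ g : (T : Subgroup G), (g : G) * t * (g : G)⁻¹ = t ∨
        (g : G) * t * (g : G)⁻¹ = h.d 3 * h.d 4 := by
      intro g
      obtain ⟨π, hπ⟩ := exists_perm h (T_le_normalizer h g.2)
      obtain ⟨h4, h5, h6⟩ := perm_T h g.2 hπ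
      have h8 : (g : G) * t * (g : G)⁻¹ = h.d (π 1) * h.d (π 2) := by
        rw [← hπ, ← hπ, ht]; group
      rw [h8]
      rcases S4_pair π (mem_S4 π h4 h5 h6) with ⟨h9, h10⟩ | ⟨h9, h10⟩ | ⟨h9, h10⟩ | ⟨h9, h10⟩
      · left; rw [h9, h10]
      · left; rw [h9, h10, ht, Elem.d_comm h 2 1]
      · right; rw [h9, h10]
      · right; rw [h9, h10, Elem.d_comm h 4 3]
    rw [hKT]
    by_cases hKt : K = ⊤
    · rw [hKt, card_top, h.card_T]; norm_num
    · obtain ⟨a, ha⟩ : ∃ a, a ∉ K := by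
        by_contra hcon
        push Not at hcon
        exact hKt (eq_top_iff.2 fun x _ => hcon x)
      have hmem : ∀ b : (T : Subgroup G), b ∉ K → a⁻¹ * b ∈ K := by
        intro b hb
        rw [hK] at ha hb ⊢
        have h3 := (hcases a).resolve_left (fun h4 => ha (mul_inv_eq_iff_eq_mul.mp h4))
        have h4 := (hcases b).resolve_left (fun h4 => hb (mul_inv_eq_iff_eq_mul.mp h4))
        rw [← h3] at h4
        show (a : G)⁻¹ * b * t = t * ((a : G)⁻¹ * b)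
        calc (a : G)⁻¹ * b * t = (a : G)⁻¹ * ((b : G) * t * (b : G)⁻¹) * b := by group
          _ = t * ((a : G)⁻¹ * b) := by rw [h4]; group
      classical
      let f : ↥(T : Subgroup G) → ↥K × Bool := fun g =>
        if hg : g ∈ K then (⟨g, hg⟩, true) else (⟨a⁻¹ * g, hmem g hg⟩, false)
      have hf : Function.Injective f := by
        intro x y hxy
        by_cases hx : x ∈ K <;> by_cases hy : y ∈ K
        · simp only [f, hx, hy, dif_pos, Prod.mk.injEq, and_true] at hxy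
          exact congrArg Subtype.val hxy
        · simp [f, hx, hy] at hxy
        · simp [f, hx, hy] at hxy
        · simp only [f, hx, hy, dif_neg, not_false_eq_true, Prod.mk.injEq, and_true] at hxy
          exact mul_left_cancel (congrArg Subtype.val hxy)
      have h1 := Nat.card_le_card_of_injective f hf
      rw [Nat.card_prod, h.card_T] at h1
      have h2 : Nat.card Bool = 2 := by simp
      rw [h2] at h1
      omega
  refine ⟨T.2.to_le inf_le_left, inf_le_right, ?_⟩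
  intro W hW hWC hTW
  have hEW : h.E ≤ W := by
    refine le_trans ?_ hTW
    intro x hx
    exact ⟨E_le_T h hx, mem_centralizer_singleton_iff.2 (E_comm h hx htE)⟩
  obtain ⟨k, hk, hkW⟩ := exists_conj_T h hW hEW
  set W' : Subgroup G := W.map (MulAut.conj k⁻¹).toMonoidHom with hW'
  have hW'T : W' ≤ (T : Subgroup G) := by
    rintro _ ⟨w, hw, rfl⟩
    have h1 := hkW w hw
    have e : (MulAut.conj k⁻¹).toMonoidHom w = k⁻¹ * w * k := by
      show k⁻¹ * w * k⁻¹⁻¹ = _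
      rw [inv_inv]
    rw [e]; exact h1
  have hne : Nat.card W' ≠ 1024 := by
    intro h1
    have h2 : W' = (T : Subgroup G) := eq_of_le_of_card_ge hW'T (by rw [h1, h.card_T])
    have h3 : ∀ g ∈ (T : Subgroup G), g * (k⁻¹ * t * k) = k⁻¹ * t * k * g := by
      intro g hg
      rw [← h2] at hg
      have h4 := hWC (mem_map_conj.1 hg)
      rw [inv_inv] at h4
      have h5 := mem_centralizer_singleton_iff.1 h4
      calc g * (k⁻¹ * t * k) = k⁻¹ * (k * g * k⁻¹ * t) * k := by group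
        _ = k⁻¹ * (t * (k * g * k⁻¹)) * k := by rw [h5]
        _ = _ := by group
    have htE' : k⁻¹ * t * k ∈ h.E := by
      have := norm_conj h ((normalizer (h.E : Set G)).inv_mem hk) htE
      rwa [inv_inv] at this
    have h4 : t = k * (k⁻¹ * t * k) * k⁻¹ := by group
    rcases h.center_T _ (E_le_T h htE') h3 with h5 | h5
    · rw [h5] at h4
      apply h.dd_ne_one 1 2 (by decide)
      rw [← ht, h4]; group
    · rw [h5] at h4
      obtain ⟨j, hj⟩ := perm h hk 0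
      exact h.dd_ne_d 1 2 j (by decide) (by rw [← ht, h4, hj])
  have hdvd : Nat.card W' ∣ 2 ^ 10 := by
    have h1 := card_dvd_of_le hW'T
    rw [h.card_T] at h1
    exact h1
  have hWle : Nat.card W ≤ 512 := by
    have hcW : Nat.card W' = Nat.card W := card_map_conj W k⁻¹
    rw [hcW] at hdvd hne
    obtain ⟨m, hm, hm'⟩ := (Nat.dvd_prime_pow Nat.prime_two).1 hdvd
    have hm9 : m ≤ 9 := by
      by_contra hcon
      have : m = 10 := by omega
      rw [this] at hm'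
      exact hne (by rw [hm']; norm_num)
    rw [hm']
    calc 2 ^ m ≤ 2 ^ 9 := Nat.pow_le_pow_right (by norm_num) hm9
      _ = 512 := by norm_num
  exact (eq_of_le_of_card_ge hTW (hWle.trans hcard)).ge

/-- **Case A**: if an involution of `Q` outside `E` is conjugate into `E` then all noncentral involutions of `Q` are
conjugate to `d 1 * d 2` in `C(z)`. -/
theorem u_fus_of [IsSimpleGroup G] {u g : G} (hu : u ∈ h.Q) (huu : u * u = 1) (huE : u ∉ h.E)
    (hg : g * u * g⁻¹ ∈ h.E) : ∀ u' ∈ h.Q, u' * u' = 1 → u' ≠ 1 → u' ≠ h.d 0 →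
      ∃ c : G, c * h.d 0 = h.d 0 * c ∧ c * u' * c⁻¹ = h.d 1 * h.d 2 := by
  haveI : Fact (Nat.Prime 2) := ⟨Nat.prime_two⟩
  have huT : u ∈ (T : Subgroup G) := h.Q_le hu
  set t := h.d 1 * h.d 2 with ht
  -- `u` is conjugate to `t`
  obtain ⟨g1, hg1⟩ : ∃ g1 : G, g1 * u * g1⁻¹ = t := by
    rcases h.E_cases _ hg with h1 | ⟨i, hi⟩ | ⟨i, j, hij, h1⟩
    · exfalso
      apply huE
      have h2 : u = g⁻¹ * (g * u * g⁻¹) * g := by group
      rw [h2, h1, mul_one, inv_mul_cancel]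
      exact h.E.one_mem
    · exfalso
      apply huE
      obtain ⟨n, -, hn⟩ := exists_conj_d h i
      have h2 : (g⁻¹ * n) * h.d 0 * (g⁻¹ * n)⁻¹ = u := by
        calc (g⁻¹ * n) * h.d 0 * (g⁻¹ * n)⁻¹ = g⁻¹ * (n * h.d 0 * n⁻¹) * g := by group
          _ = u := by rw [hn, ← hi]; group
      rw [← h2]
      exact key h (by rw [h2]; exact huT)
    · obtain ⟨n, -, hn⟩ := exists_conj_dd h hij
      refine ⟨n⁻¹ * g, ?_⟩
      calc n⁻¹ * g * u * (n⁻¹ * g)⁻¹ = n⁻¹ * (g * u * g⁻¹) * n := by group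
        _ = t := by rw [h1, ← hn, ht]; group
  -- move `C_Q(u)` into `T`
  set X : Subgroup G := h.Q ⊓ centralizer ({u} : Set G) with hX
  have hX2 : IsPGroup 2 X := T.2.to_le (inf_le_left.trans h.Q_le)
  have hW : X.map (MulAut.conj g1).toMonoidHom ≤ centralizer ({t} : Set G) := by
    rintro _ ⟨x, hx, rfl⟩
    have h1 := mem_centralizer_singleton_iff.1 hx.2
    rw [mem_centralizer_singleton_iff]
    show g1 * x * g1⁻¹ * t = t * (g1 * x * g1⁻¹)
    rw [← hg1]
    calc g1 * x * g1⁻¹ * (g1 * u * g1⁻¹) = g1 * (x * u) * g1⁻¹ := by group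
      _ = g1 * (u * x) * g1⁻¹ := by rw [h1]
      _ = _ := by group
  obtain ⟨c, hc, hcW⟩ := (isMaxP_t h).exists_conj_le (hX2.map _) hW
  set k := c * g1 with hk
  have hkt : k * u * k⁻¹ = t := by
    have h1 := mem_centralizer_singleton_iff.1 hc
    calc k * u * k⁻¹ = c * (g1 * u * g1⁻¹) * c⁻¹ := by rw [hk]; group
      _ = t * c * c⁻¹ := by rw [hg1, h1]
      _ = t := by group
  have hkX : ∀ x ∈ h.Q, x * u = u * x → k * x * k⁻¹ ∈ (T : Subgroup G) := by
    intro x hx hxy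
    have h1 := hcW ⟨_, ⟨x, ⟨hx, mem_centralizer_singleton_iff.2 hxy⟩, rfl⟩, rfl⟩
    have e : (MulAut.conj c).toMonoidHom ((MulAut.conj g1).toMonoidHom x) = k * x * k⁻¹ := by
      show c * (g1 * x * g1⁻¹) * c⁻¹ = _
      rw [hk]; group
    rw [e] at h1
    exact h1.1
  have hkz : k * h.d 0 = h.d 0 * k :=
    mul_inv_eq_iff_eq_mul.mp (key_comm h huT huu huE hkX)
  intro u' hu' huu' hu1' hu0'
  by_cases huE' : u' ∈ h.E
  · rcases Elem.mem_E_inter_Q h huE' hu' with h1 | h1 | ⟨i, j, hi, hj, hij, h1⟩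
    · exact absurd h1 hu1'
    · exact absurd h1 hu0'
    · obtain ⟨n, -, hnz, hn⟩ := exists_conj_dd_z h hi hj hij
      refine ⟨n⁻¹, ?_, ?_⟩
      · rw [inv_mul_eq_iff_eq_mul, ← mul_assoc, hnz, mul_inv_cancel_right]
      · rw [h1, ← hn, ht]; group
  · obtain ⟨r, hrz, hr⟩ := conj_of_not_mem_E h (h.Q_le hu') huu' huE' huT huu huE
    refine ⟨k * r, ?_, ?_⟩
    · calc k * r * h.d 0 = k * (r * h.d 0) := by group
        _ = (k * h.d 0) * r := by rw [hrz]; group
        _ = h.d 0 * (k * r) := by rw [hkz]; group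
    · calc k * r * u' * (k * r)⁻¹ = k * (r * u' * r⁻¹) * k⁻¹ := by group
        _ = t := by rw [hr, hkt]

end Cfsg.Agent.SylowU5.CaseA
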