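import Mathlib
import Cfsg.Agent.SylowU5.Fusion
import Cfsg.Agent.SylowU5.SolvT

/-!
# Solvability of `C_G(E)` (S0513)

`V` is a Sylow 2-subgroup of `K = C_G(E)`, `V/E` is elementary abelian of order 16 with five "lines", the automizer
of `V/E` in `K/E` preserves the lines and acts semiregularly: T1 applies.
-/

set_option autoImplicit false
set_option linter.unusedVariables false
open Cfsg

namespace Cfsg.Agent.SylowU5.CentE

universe u

open Subgroup Cfsg.Agent.SylowU5.Basic Cfsg.Agent.SignalizersComponents.RelSylow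
  Cfsg.Agent.SylowU5.Fusion Cfsg.Agent.SylowU5.SolvT

theorem mem_normalizer_of_conj {X : Type*} [Group X] [Finite X] {P : Subgroup X} {g : X}
    (h : ∀ x ∈ P, g * x * g⁻¹ ∈ P) : g ∈ normalizer (P : Set X) := by
  have h1 : P.map (MulAut.conj g).toMonoidHom ≤ P := by
    rintro _ ⟨x, hx, rfl⟩
    exact h x hx
  have h2 : P.map (MulAut.conj g).toMonoidHom = P := by
    apply eq_of_le_of_card_ge h1
    rw [card_map_of_injective (MulAut.conj g).injective]
  exact mem_normalizer_iff_map_conj_eq.mpr h2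

/-- Burnside's transfer theorem: solvability form -/
theorem burnside (hFT : OddOrder.{u}) {Y : Type u} [Group Y] [Finite Y] (T : Sylow 2 Y)
    (hcomm : ∀ a ∈ T, ∀ b ∈ T, a * b = b * a)
    (hN : ∀ n : Y, n ∈ normalizer (T : Set Y) → ∀ t ∈ T, n * t = t * n) :
    Group.IsSolvable Y ∧ pPrimeCore 2 Y ⊔ T = ⊤ := by
  have h2 : Fact (Nat.Prime 2) := ⟨Nat.prime_two⟩
  have hle : normalizer (T : Set Y) ≤ centralizer (T : Set Y) := by
    intro n hn
    rw [mem_centralizer_iff]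
    intro t ht
    exact (hN n hn t ht).symm
  have hcompl := MonoidHom.ker_transferSylow_isComplement' T hle
  set K := (MonoidHom.transferSylow T hle).ker with hK
  have hKn : K.Normal := MonoidHom.normal_ker _
  have h1 : Nat.card K * Nat.card T = Nat.card Y := hcompl.card_mul_card
  have h3 : Nat.card K = (T : Subgroup Y).index := by
    have h4 := (T : Subgroup Y).card_mul_index
    rw [← h1, mul_comm] at h4
    exact (Nat.eq_of_mul_eq_mul_right Nat.card_pos h4).symm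
  have h4 : (Nat.card K).Coprime 2 := by
    rw [h3]
    exact ((Nat.Prime.coprime_iff_not_dvd Nat.prime_two).2 T.not_dvd_index).symm
  have h5 : K ≤ pPrimeCore 2 Y := Lib.Cores.le_pPrimeCore hKn h4
  refine ⟨?_, ?_⟩
  · have hKs : Group.IsSolvable K := hFT K (Nat.coprime_two_right.mp h4)
    have hT : Group.IsSolvable (Y ⧸ K) := by
      let f : (T : Subgroup Y) →* Y ⧸ K := (QuotientGroup.mk' K).comp (T : Subgroup Y).subtype
      have hf : Function.Surjective f := by
        intro q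
        obtain ⟨g, rfl⟩ := QuotientGroup.mk'_surjective K q
        have hg : g ∈ K ⊔ (T : Subgroup Y) := by rw [hcompl.sup_eq_top]; trivial
        rw [← SetLike.mem_coe, normal_mul] at hg
        obtain ⟨k, hk, t, ht, rfl⟩ := hg
        refine ⟨⟨t, ht⟩, ?_⟩
        show QuotientGroup.mk' K t = QuotientGroup.mk' K (k * t)
        rw [map_mul, show QuotientGroup.mk' K k = 1 from (QuotientGroup.eq_one_iff k).2 hk,
          one_mul]
      have hTs : Group.IsSolvable (T : Subgroup Y) :=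
        Group.isSolvable_of_comm fun a b => Subtype.ext (hcomm a a.2 b b.2)
      exact Group.isSolvable_of_surjective hf
    exact (Group.isSolvable_iff_subgroup_quotient (H := K)).mpr ⟨hKs, hT⟩
  · rw [eq_top_iff, ← hcompl.sup_eq_top]
    exact sup_le_sup_right h5 _

theorem isWeaklyClosed_self {X : Type u} [Group X] [Finite X] (P : Sylow 2 X) :
    IsWeaklyClosed (P : Subgroup X) (P : Subgroup X) := by
  refine ⟨le_rfl, fun g hg => ?_⟩
  apply eq_of_le_of_card_ge hg
  rw [card_map_of_injective (MulAut.conj g).injective]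

theorem solvable_normalizer (hFT : OddOrder.{u}) {X : Type u} [Group X] [Finite X] (P : Sylow 2 X)
    (hcomm : ∀ a ∈ P, ∀ b ∈ P, a * b = b * a) :
    Group.IsSolvable (normalizer (P : Set X)) := by
  have h2 : Fact (Nat.Prime 2) := ⟨Nat.prime_two⟩
  set N := normalizer (P : Set X) with hN
  have hPN : (P : Subgroup X) ≤ N := le_normalizer
  let P' : Sylow 2 N := P.subtype hPN
  have hP'n : (P' : Subgroup N).Normal := by
    show ((P : Subgroup X).subgroupOf N).Normal
    exact normal_in_normalizer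
  have hodd : Odd (Nat.card (N ⧸ (P' : Subgroup N))) := by
    have h3 : ¬ 2 ∣ (P' : Subgroup N).index := P'.not_dvd_index
    rw [Subgroup.index] at h3
    rw [← Nat.not_even_iff_odd, even_iff_two_dvd]
    exact h3
  have h4 : Group.IsSolvable (N ⧸ (P' : Subgroup N)) := hFT _ hodd
  have h5 : Group.IsSolvable (P' : Subgroup N) := by
    refine Group.isSolvable_of_comm fun a b => ?_
    apply Subtype.ext
    apply Subtype.ext
    have ha : ((a : N) : X) ∈ (P : Subgroup X) := mem_subgroupOf.1 a.2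
    have hb : ((b : N) : X) ∈ (P : Subgroup X) := mem_subgroupOf.1 b.2
    exact hcomm _ ha _ hb
  exact (Group.isSolvable_iff_subgroup_quotient (H := (P' : Subgroup N))).mpr ⟨h5, h4⟩

/-- A finite group with an elementary abelian Sylow 2-subgroup of rank at least 3, whose automizer acts
semiregularly but not transitively on the involutions, is solvable. -/
theorem solvable_of_semiregular (hFT : OddOrder.{u}) {X : Type u} [Group X] [Finite X]
    (P : Sylow 2 X)
    (hcomm : ∀ a ∈ P, ∀ b ∈ P, a * b = b * a) (hsq : ∀ a ∈ P, a * a = 1) (hcard : 8 ≤ Nat.card P)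
    (hfix : ∀ n ∈ normalizer (P : Set X), ∀ a ∈ P, a ≠ 1 → n * a = a * n →
      ∀ b ∈ P, n * b = b * n)
    {z v : X} (hz : z ∈ P) (hv : v ∈ P) (hz1 : z ≠ 1) (hv1 : v ≠ 1)
    (hzv : ∀ n ∈ normalizer (P : Set X), n * z * n⁻¹ ≠ v) : Group.IsSolvable X := by
  have h2 : Fact (Nat.Prime 2) := ⟨Nat.prime_two⟩
  have hle : ∀ a ∈ P, (P : Subgroup X) ≤ centralizer {a} := fun a ha b hb =>
    mem_centralizer_singleton_iff.2 (hcomm b hb a ha)
  have hburn : ∀ a ∈ P, a ≠ 1 → Group.IsSolvable ↥(centralizer ({a} : Set X)) ∧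
      centralizer {a} ≤ centralizerPPrimeCore 2 a ⊔ normalizer ((P : Subgroup X) : Set X) := by
    intro a ha ha1
    let Y := centralizer ({a} : Set X)
    let PY : Sylow 2 Y := P.subtype (hle a ha)
    have hmemPY : ∀ y : Y, y ∈ PY ↔ (y : X) ∈ P := fun y => mem_subgroupOf
    have hb := burnside hFT PY (fun x hx y hy => Subtype.ext
        (hcomm _ ((hmemPY x).1 hx) _ ((hmemPY y).1 hy)))
      (by
        intro n hn t ht
        apply Subtype.ext
        refine hfix n ?_ a ha ha1 (mem_centralizer_singleton_iff.1 n.2) t ((hmemPY t).1 ht)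
        apply mem_normalizer_of_conj
        intro x hx
        have h3 := (mem_normalizer_iff.1 hn ⟨x, hle a ha hx⟩).1 ((hmemPY _).2 hx)
        exact (hmemPY _).1 h3)
    refine ⟨hb.1, ?_⟩
    intro y hy
    have h4 : (⟨y, hy⟩ : Y) ∈ pPrimeCore 2 Y ⊔ (PY : Subgroup Y) := by rw [hb.2]; trivial
    have h5 : (pPrimeCore 2 Y ⊔ (PY : Subgroup Y)).map Y.subtype ≤
        centralizerPPrimeCore 2 a ⊔ normalizer ((P : Subgroup X) : Set X) := by
      rw [Subgroup.map_sup]
      refine sup_le_sup le_rfl ?_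
      rintro _ ⟨x, hx, rfl⟩
      exact le_normalizer ((hmemPY x).1 hx)
    exact h5 ⟨⟨y, hy⟩, h4, rfl⟩
  have hzv' : ∀ g : X, g * z * g⁻¹ ≠ v := by
    intro g hg
    obtain ⟨n, hn, hnz⟩ := Cfsg.Agent.R15.NormalElem.exists_normalizer_conj P (P : Subgroup X)
      (isWeaklyClosed_self P) hcomm hz (g := g) (by rw [hg]; exact hv)
    exact hzv n hn (hnz.trans hg)
  have hmain := Cfsg.Agent.R15.NormalElem.sup_normalizer_eq_top P (P : Subgroup X)
    (isWeaklyClosed_self P) hcomm hsq hcard (fun x _ _ _ g hg => hg) hz (hle z hz) (hsq z hz) hz1 hv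
    hv1 hzv' (fun a ha ha1 => (hburn a ha ha1).1) (fun a ha ha1 => (hburn a ha ha1).2)
  have hOn : (pPrimeCore 2 X).Normal := Cfsg.Agent.Lib.Cores.pPrimeCore_normal 2
  have hOs : Group.IsSolvable (pPrimeCore 2 X) := hFT _
    (Nat.coprime_two_right.mp (Cfsg.Agent.Lib.Cores.pPrimeCore_coprime 2))
  have hQ : Group.IsSolvable (X ⧸ pPrimeCore 2 X) := by
    let f : normalizer ((P : Subgroup X) : Set X) →* X ⧸ pPrimeCore 2 X :=
      (QuotientGroup.mk' (pPrimeCore 2 X)).comp (normalizer ((P : Subgroup X) : Set X)).subtype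
    have hf : Function.Surjective f := by
      intro q
      obtain ⟨g, rfl⟩ := QuotientGroup.mk'_surjective (pPrimeCore 2 X) q
      have hg : g ∈ pPrimeCore 2 X ⊔ normalizer ((P : Subgroup X) : Set X) := by
        rw [hmain]; trivial
      rw [← SetLike.mem_coe, normal_mul] at hg
      obtain ⟨o, ho, c, hc, rfl⟩ := hg
      refine ⟨⟨c, hc⟩, ?_⟩
      show QuotientGroup.mk' (pPrimeCore 2 X) c = QuotientGroup.mk' (pPrimeCore 2 X) (o * c)
      rw [map_mul, show QuotientGroup.mk' (pPrimeCore 2 X) o = 1 from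
        (QuotientGroup.eq_one_iff o).2 ho, one_mul]
    have hs : Group.IsSolvable (normalizer ((P : Subgroup X) : Set X)) :=
      solvable_normalizer hFT P hcomm
    exact Group.isSolvable_of_surjective hf
  exact (Group.isSolvable_iff_subgroup_quotient (H := pPrimeCore 2 X)).mpr ⟨hOs, hQ⟩

section Concrete

variable {G : Type u} [Group G] {T : Subgroup G} (h : U5T T)
include h

theorem conj_sq {n x : G} (hn : ∀ e ∈ h.E, n * e = e * n) {i : Fin 5} (hx : x * x = h.d i) :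
    n * x * n⁻¹ * (n * x * n⁻¹) = h.d i := by
  calc n * x * n⁻¹ * (n * x * n⁻¹) = n * (x * x) * n⁻¹ := by group
    _ = n * h.d i * n⁻¹ := by rw [hx]
    _ = h.d i := by rw [hn _ (h.d_mem i)]; group

theorem sq_mem_E {x : G} (hx : x ∈ h.V) : x * x ∈ h.E := by
  by_cases hxE : x ∈ h.E
  · exact h.E.mul_mem hxE hxE
  · obtain ⟨i, hi⟩ := h.V_sq x hx hxE
    rw [hi]; exact h.d_mem i

/-- `V/E` is abelian -/
theorem comm_mem_E {x y : G} (hx : x ∈ h.V) (hy : y ∈ h.V) : x * y * x⁻¹ * y⁻¹ ∈ h.E := by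
  have hxy := h.V.mul_mem hx hy
  have h1 := sq_mem_E h hxy
  have h2 := sq_mem_E h hx
  have h3 := sq_mem_E h hy
  have e : x * y * x⁻¹ * y⁻¹ = (x * y * (x * y)) * ((y⁻¹ * (x * x) * y)⁻¹ * (y * y)⁻¹) := by group
  rw [e]
  refine h.E.mul_mem h1 (h.E.mul_mem (h.E.inv_mem ?_) (h.E.inv_mem h3))
  have e2 : y⁻¹ * (x * x) * y = x * x := by
    rw [mul_assoc, ← V_comm_E h hy h2]; group
  rw [e2]; exact h2

/-- products of elements of different lines -/
theorem prod_line {v w : G} (hv : v ∈ h.V) (hw : w ∈ h.V) {i j : Fin 5} (hij : i ≠ j)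
    (hvi : v * v = h.d i) (hwj : w * w = h.d j) :
    ∃ k, k ≠ i ∧ k ≠ j ∧ v * w * (v * w) = h.d k := by
  have hvw := h.V.mul_mem hv hw
  have hdi : ∀ i j : Fin 5, i ≠ j → h.d i ≠ h.d j := fun i j hij he => hij (h.d_inj i j he)
  have hLv : v ∈ h.L i := (h.mem_L i v).2 ⟨hv, Or.inr hvi⟩
  have hLw : w ∈ h.L j := (h.mem_L j w).2 ⟨hw, Or.inr hwj⟩
  have hvwE : v * w ∉ h.E := by
    intro hE
    have h1 : v * w ∈ h.L i := (h.mem_L i _).2 ⟨hvw, Or.inl (h.E_sq _ hE)⟩
    have h2 : w ∈ h.L i := by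
      have e : w = v⁻¹ * (v * w) := by group
      rw [e]; exact (h.L i).mul_mem ((h.L i).inv_mem hLv) h1
    rcases ((h.mem_L i w).1 h2).2 with h3 | h3
    · rw [hwj] at h3; exact h.d_ne_one j h3
    · rw [hwj] at h3; exact hdi j i hij.symm h3
  obtain ⟨k, hk⟩ := h.V_sq _ hvw hvwE
  refine ⟨k, ?_, ?_, hk⟩
  · rintro rfl
    have h1 : v * w ∈ h.L k := (h.mem_L k _).2 ⟨hvw, Or.inr hk⟩
    have h2 : w ∈ h.L k := by
      have e : w = v⁻¹ * (v * w) := by group
      rw [e]; exact (h.L k).mul_mem ((h.L k).inv_mem hLv) h1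
    rcases ((h.mem_L k w).1 h2).2 with h3 | h3
    · rw [hwj] at h3; exact h.d_ne_one j h3
    · rw [hwj] at h3; exact hdi j k hij.symm h3
  · rintro rfl
    have h1 : v * w ∈ h.L k := (h.mem_L k _).2 ⟨hvw, Or.inr hk⟩
    have h2 : v ∈ h.L k := by
      have e : v = (v * w) * w⁻¹ := by group
      rw [e]; exact (h.L k).mul_mem h1 ((h.L k).inv_mem hLw)
    rcases ((h.mem_L k v).1 h2).2 with h3 | h3
    · rw [hvi] at h3; exact h.d_ne_one i h3
    · rw [hvi] at h3; exact hdi i k hij h3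

theorem mem_E_of_lines {x : G} {j k : Fin 5} (hjk : j ≠ k) (hj : x ∈ h.L j) (hk : x ∈ h.L k) :
    x ∈ h.E := by
  have h1 := (h.mem_L j x).1 hj
  have h2 := (h.mem_L k x).1 hk
  apply h.V_invol x h1.1
  rcases h1.2 with h3 | h3
  · exact h3
  · rcases h2.2 with h4 | h4
    · exact h4
    · exact absurd (h.d_inj j k (h3.symm.trans h4)) hjk

/-- If `n` centralises `E`, normalises `V` and centralises `v ∈ V` modulo `E`, `v² = d i`, then `n` centralises
all `w ∈ V` with `w² = d j`, `j ≠ i`, modulo `E`. -/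
theorem step {n v w : G} (hn : ∀ e ∈ h.E, n * e = e * n) (hnV : ∀ x ∈ h.V, n * x * n⁻¹ ∈ h.V)
    {i j : Fin 5} (hij : i ≠ j) (hv : v ∈ h.V) (hw : w ∈ h.V) (hvi : v * v = h.d i)
    (hwj : w * w = h.d j) (hnv : n * v * n⁻¹ * v⁻¹ ∈ h.E) : n * w * n⁻¹ * w⁻¹ ∈ h.E := by
  obtain ⟨k, hki, hkj, hk⟩ := prod_line h hv hw hij hvi hwj
  have hvw := h.V.mul_mem hv hw
  have hL : ∀ (x : G) (l : Fin 5), x ∈ h.V → x * x = h.d l → n * x * n⁻¹ * x⁻¹ ∈ h.L l := by
    intro x l hx hxl
    exact (h.L l).mul_mem ((h.mem_L l _).2 ⟨hnV x hx, Or.inr (conj_sq h hn hxl)⟩)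
      ((h.L l).inv_mem ((h.mem_L l _).2 ⟨hx, Or.inr hxl⟩))
  have hEL : ∀ l, h.E ≤ h.L l := fun l x hx =>
    (h.mem_L l x).2 ⟨h.E_le hx, Or.inl (h.E_sq x hx)⟩
  set c := n * w * n⁻¹ * w⁻¹ with hc
  have hcj : c ∈ h.L j := hL w j hw hwj
  have hck := hL (v * w) k hvw hk
  have e1 : n * (v * w) * n⁻¹ * (v * w)⁻¹ = (n * v * n⁻¹ * v⁻¹) * (v * c * v⁻¹) := by
    rw [hc]; group
  rw [e1] at hck
  have h1 : v * c * v⁻¹ ∈ h.L k := by
    have e : v * c * v⁻¹ = (n * v * n⁻¹ * v⁻¹)⁻¹ * ((n * v * n⁻¹ * v⁻¹) * (v * c * v⁻¹)) := by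
      group
    rw [e]
    exact (h.L k).mul_mem ((h.L k).inv_mem (hEL k hnv)) hck
  have hcV : c ∈ h.V := ((h.mem_L j c).1 hcj).1
  have h2 : v * c * v⁻¹ * c⁻¹ ∈ h.E := comm_mem_E h hv hcV
  have h3 : v * c * v⁻¹ ∈ h.L j := by
    have e : v * c * v⁻¹ = (v * c * v⁻¹ * c⁻¹) * c := by group
    rw [e]
    exact (h.L j).mul_mem (hEL j h2) hcj
  have h4 : v * c * v⁻¹ ∈ h.E := mem_E_of_lines h hkj.symm h3 h1
  have e : c = (v * c * v⁻¹ * c⁻¹)⁻¹ * (v * c * v⁻¹) := by group
  rw [e]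
  exact h.E.mul_mem (h.E.inv_mem h2) h4

omit h in
theorem exists_ne (i : Fin 5) : ∃ j : Fin 5, j ≠ i := by
  fin_cases i
  · exact ⟨1, by decide⟩
  all_goals exact ⟨0, by decide⟩

theorem fixes_all {n v : G} (hn : ∀ e ∈ h.E, n * e = e * n) (hnV : ∀ x ∈ h.V, n * x * n⁻¹ ∈ h.V)
    (hv : v ∈ h.V) (hvE : v ∉ h.E) (hnv : n * v * n⁻¹ * v⁻¹ ∈ h.E) :
    ∀ w ∈ h.V, n * w * n⁻¹ * w⁻¹ ∈ h.E := by
  intro w hw
  by_cases hwE : w ∈ h.E
  · have e : n * w * n⁻¹ * w⁻¹ = 1 := by rw [hn w hwE]; group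
    rw [e]; exact one_mem _
  obtain ⟨i, hi⟩ := h.V_sq v hv hvE
  obtain ⟨j, hj⟩ := h.V_sq w hw hwE
  by_cases hij : i = j
  · subst hij
    obtain ⟨k, hk⟩ := exists_ne i
    obtain ⟨u, hu, huk⟩ := h.V_sq_ex k
    have h1 := step h hn hnV (Ne.symm hk) hv hu hi huk hnv
    exact step h hn hnV hk hu hw huk hj h1
  · exact step h hn hnV hij hv hw hi hj hnv

end Concrete

/-- **`C_G(E)` is solvable.** -/
theorem isSolvable_centralizer_E {G : Type u} [Group G] [Finite G] {T : Sylow 2 G}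
    (h : U5T (T : Subgroup G)) (hFT : OddOrder.{u}) :
    Group.IsSolvable ↥(centralizer (h.E : Set G)) := by
  have h2 : Fact (Nat.Prime 2) := ⟨Nat.prime_two⟩
  let K := centralizer (h.E : Set G)
  have hEK : h.E ≤ K := h.E_le.trans (le_cent_E h)
  have hKE : ∀ k : K, ∀ e ∈ h.E, (k : G) * e = e * k := fun k e he =>
    (mem_centralizer_iff.1 k.2 e he).symm
  let E' : Subgroup K := h.E.subgroupOf K
  have hE'c : ∀ k : K, ∀ e ∈ E', k * e = e * k := fun k e he =>
    Subtype.ext (hKE k e (mem_subgroupOf.1 he))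
  have hE'n : E'.Normal := ⟨fun e he k => by rw [hE'c k e he, mul_assoc, mul_inv_cancel, mul_one]; exact he⟩
  let f : K →* K ⧸ E' := QuotientGroup.mk' E'
  have hf : Function.Surjective f := QuotientGroup.mk'_surjective E'
  have hf1 : ∀ k : K, f k = 1 ↔ (k : G) ∈ h.E := fun k => by
    rw [← mem_subgroupOf]; exact QuotientGroup.eq_one_iff k
  let V' : Sylow 2 K := (isMaxP_V h).toSylow
  have hV' : ∀ k : K, k ∈ V' ↔ (k : G) ∈ h.V := fun k => mem_subgroupOf
  let P : Sylow 2 (K ⧸ E') := V'.mapSurjective hf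
  have hP : ∀ x : K ⧸ E', x ∈ P ↔ ∃ k : K, (k : G) ∈ h.V ∧ f k = x := by
    intro x
    show x ∈ ((V' : Subgroup K).map f) ↔ _
    rw [mem_map]
    constructor
    · rintro ⟨k, hk, hkx⟩; exact ⟨k, (hV' k).1 hk, hkx⟩
    · rintro ⟨k, hk, hkx⟩; exact ⟨k, (hV' k).2 hk, hkx⟩
  have hVK : ∀ {v : G}, v ∈ h.V → v ∈ K := fun hv => le_cent_E h hv
  have hX : Group.IsSolvable (K ⧸ E') := by
    obtain ⟨z, hz, hz0⟩ := h.V_sq_ex 0
    obtain ⟨v, hv, hv1⟩ := h.V_sq_ex 1
    have hnorm : ∀ n : K ⧸ E', n ∈ normalizer (P : Set (K ⧸ E')) → ∃ k : K, f k = n ∧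
        ∀ x ∈ h.V, (k : G) * x * (k : G)⁻¹ ∈ h.V := by
      intro n hn
      obtain ⟨k, rfl⟩ := hf n
      refine ⟨k, rfl, ?_⟩
      intro x hx
      have h3 := (mem_normalizer_iff.1 hn (f ⟨x, hVK hx⟩)).1 ((hP _).2 ⟨_, hx, rfl⟩)
      obtain ⟨y, hy, hyx⟩ := (hP _).1 h3
      have h4 : f (y⁻¹ * (k * ⟨x, hVK hx⟩ * k⁻¹)) = 1 := by
        rw [map_mul, map_inv, hyx, map_mul, map_mul, map_inv]; group
      have h5 := h.E_le ((hf1 _).1 h4)
      have h6 := h.V.mul_mem hy h5
      have e : (y : G) * ((y⁻¹ * (k * ⟨x, hVK hx⟩ * k⁻¹) : K) : G) = (k : G) * x * (k : G)⁻¹ := by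
        show (y : G) * ((y : G)⁻¹ * ((k : G) * x * (k : G)⁻¹)) = _
        group
      rwa [e] at h6
    refine solvable_of_semiregular hFT P ?_ ?_ ?_ ?_ (z := f ⟨z, hVK hz⟩) (v := f ⟨v, hVK hv⟩)
      ((hP _).2 ⟨_, hz, rfl⟩) ((hP _).2 ⟨_, hv, rfl⟩) ?_ ?_ ?_
    · intro a ha b hb
      obtain ⟨x, hx, rfl⟩ := (hP _).1 ha
      obtain ⟨y, hy, rfl⟩ := (hP _).1 hb
      have h3 : f (x * y * x⁻¹ * y⁻¹) = 1 := (hf1 _).2 (comm_mem_E h hx hy)
      rw [map_mul, map_mul, map_mul, map_inv, map_inv] at h3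
      exact mul_inv_eq_iff_eq_mul.1 ((mul_inv_eq_one.1 h3))
    · intro a ha
      obtain ⟨x, hx, rfl⟩ := (hP _).1 ha
      rw [← map_mul]
      exact (hf1 _).2 (sq_mem_E h hx)
    · -- cardinality
      have h3 : Nat.card V' = 256 := by
        have e : Nat.card V' = Nat.card h.V :=
          Nat.card_congr (subgroupOfEquivOfLe (le_cent_E h)).toEquiv
        rw [e, h.card_V]
      have h4 : Nat.card E' = 16 := by
        have e : Nat.card E' = Nat.card h.E :=
          Nat.card_congr (subgroupOfEquivOfLe hEK).toEquiv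
        rw [e, h.card_E]
      have h5 : Nat.card V' ≤ Nat.card P * Nat.card E' := by
        let g : (V' : Subgroup K) →* (P : Subgroup (K ⧸ E')) :=
          { toFun := fun x => ⟨f (x : K), (hP _).2 ⟨x, (hV' _).1 x.2, rfl⟩⟩
            map_one' := Subtype.ext (map_one f)
            map_mul' := fun a b => Subtype.ext (map_mul f (a : K) (b : K)) }
        have h6 := g.ker.card_mul_index
        have h7 : g.ker.index ≤ Nat.card P := by
          rw [Subgroup.index_ker]
          exact Nat.card_le_card_of_injective _ (Subtype.val_injective)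
        have h8 : Nat.card g.ker ≤ Nat.card E' := by
          refine Nat.card_le_card_of_injective (fun x : g.ker => (⟨((x : (V' : Subgroup K)) : K), ?_⟩ : E')) ?_
          · have h9 := (MonoidHom.mem_ker).1 x.2
            have h10 : f ((x : (V' : Subgroup K)) : K) = 1 := congrArg Subtype.val h9
            exact mem_subgroupOf.2 ((hf1 _).1 h10)
          · intro a b hab
            apply Subtype.ext
            apply Subtype.ext
            exact congrArg (Subtype.val : E' → K) hab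
        calc Nat.card V' = Nat.card g.ker * g.ker.index := h6.symm
          _ ≤ Nat.card E' * Nat.card P := Nat.mul_le_mul h8 h7
          _ = _ := mul_comm _ _
      rw [h3, h4] at h5
      have h6 : 8 * 16 ≤ Nat.card P * 16 := by omega
      exact Nat.le_of_mul_le_mul_right h6 (by norm_num)
    · intro n hn a ha ha1 hna b hb
      obtain ⟨k, rfl, hkV⟩ := hnorm n hn
      obtain ⟨x, hx, rfl⟩ := (hP _).1 ha
      obtain ⟨y, hy, rfl⟩ := (hP _).1 hb
      have hxE : (x : G) ∉ h.E := fun hxE => ha1 ((hf1 x).2 hxE)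
      have h3 : f (k * x * k⁻¹ * x⁻¹) = 1 := by
        rw [map_mul, map_mul, map_mul, map_inv, map_inv, hna]; group
      have h4 := fixes_all h (hKE k) hkV hx hxE ((hf1 _).1 h3) y hy
      have h5 : f (k * y * k⁻¹ * y⁻¹) = 1 := (hf1 _).2 h4
      rw [map_mul, map_mul, map_mul, map_inv, map_inv] at h5
      exact mul_inv_eq_iff_eq_mul.1 ((mul_inv_eq_one.1 h5))
    · intro h3
      have h4 := (hf1 _).1 h3
      have h5 : z * z = 1 := h.E_sq _ h4
      rw [hz0] at h5
      exact h.d_ne_one 0 h5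
    · intro h3
      have h4 := (hf1 _).1 h3
      have h5 : v * v = 1 := h.E_sq _ h4
      rw [hv1] at h5
      exact h.d_ne_one 1 h5
    · intro n hn hnz
      obtain ⟨k, rfl, hkV⟩ := hnorm n hn
      have h3 : f (⟨v, hVK hv⟩⁻¹ * (k * ⟨z, hVK hz⟩ * k⁻¹)) = 1 := by
        rw [map_mul, map_inv, map_mul, map_mul, map_inv, hnz]; group
      have h4 : v⁻¹ * ((k : G) * z * (k : G)⁻¹) ∈ h.E := (hf1 _).1 h3
      set e := v⁻¹ * ((k : G) * z * (k : G)⁻¹) with he
      have h5 : (k : G) * z * (k : G)⁻¹ = v * e := by rw [he]; group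
      have h6 := conj_sq h (hKE k) hz0
      rw [h5] at h6
      have h7 : v * e * (v * e) = h.d 1 := by
        calc v * e * (v * e) = v * (e * v) * e := by group
          _ = v * (v * e) * e := by rw [V_comm_E h hv h4]
          _ = (v * v) * (e * e) := by group
          _ = h.d 1 := by rw [hv1, h.E_sq e h4, mul_one]
      rw [h6] at h7
      exact absurd (h.d_inj 0 1 h7) (by decide)
  have hE's : Group.IsSolvable E' := Group.isSolvable_of_comm fun a b => Subtype.ext (hE'c a b b.2)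
  exact (Group.isSolvable_iff_subgroup_quotient (H := E')).mpr ⟨hE's, hX⟩

end Cfsg.Agent.SylowU5.CentE
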