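import Cfsg.Agent.SylowU5.Iso

/-!
The extra fact on the 2-group of order 1024: for `y ∉ Q` with `y² = z`, the centralizer of `y` modulo `z` has
order at least 256.
-/

set_option autoImplicit false
set_option maxRecDepth 100000

namespace Cfsg.Agent.SylowU5.CentY

open Cfsg.Agent.SylowU5.Basic Cfsg.Agent.SylowU5.Model Cfsg.Agent.SylowU5.Model.M0

theorem c_centy : allB (fun y => imp (!(fQ y) && Nat.beq (cm y y) 1)
    (Nat.ble 256 (countB (fun s => comz s y) 1024))) 1024 = true := by decide +kernel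

theorem cent_y (y : M0) (hy : y ∉ M0.Q) (hyy : y * y = M0.d 0) :
    256 ≤ Nat.card {s : M0 // s * y = y * s ∨ s * y = y * s * M0.d 0} := by
  have h := (imp_iff _ _).1 (allB_apply c_centy y.lt) (by
    rw [Bool.and_eq_true, Bool.not_eq_true', ← Bool.not_eq_true]
    refine ⟨hy, ?_⟩
    rw [eq_iff] at hyy
    rw [d0_n] at hyy
    exact hyy)
  have h1 := Nat.le_of_ble_eq_true h
  rw [← natCard_codes] at h1
  refine h1.trans (le_of_eq (Nat.card_congr (Equiv.subtypeEquivRight fun s => ?_)))
  exact comz_iff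

/-- The extra fact. -/
def CY {G : Type*} [Group G] {T : Subgroup G} (h : U5T T) : Prop :=
  ∀ y ∈ T, y ∉ h.Q → y * y = h.d 0 →
    256 ≤ Nat.card {s : G // s ∈ T ∧ (s * y = y * s ∨ s * y = y * s * h.d 0)}

theorem cy_map {G : Type*} [Group G] (f : M0 →* G) (hf : Function.Injective f) :
    CY (M0.u5T.map f hf) := by
  rintro _ ⟨y, -, rfl⟩ hy hyy
  have hy' : y ∉ M0.Q := fun h => hy (Subgroup.mem_map_of_mem f h)
  have hyy' : y * y = M0.d 0 := hf (by rw [map_mul]; exact hyy)
  refine (cent_y y hy' hyy').trans ?_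
  have hfin : Finite ((⊤ : Subgroup M0).map f) := by
    have h1 : ((⊤ : Subgroup M0).map f : Set G).Finite := by
      rw [Subgroup.coe_map]
      exact Set.Finite.image f (Set.toFinite _)
    exact h1
  have hfin2 : Finite {s : G // s ∈ (⊤ : Subgroup M0).map f ∧
      (s * f y = f y * s ∨ s * f y = f y * s * (M0.u5T.map f hf).d 0)} := by
    refine Finite.of_injective (β := ↥((⊤ : Subgroup M0).map f)) (fun s => ⟨s.1, s.2.1⟩) ?_
    intro a b hab
    apply Subtype.ext
    exact congrArg (Subtype.val : ↥((⊤ : Subgroup M0).map f) → G) hab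
  refine Nat.card_le_card_of_injective (fun s => ⟨f s.1, Subgroup.mem_map_of_mem f
    (Subgroup.mem_top _), ?_⟩) ?_
  · rcases s.2 with h | h
    · left; rw [← map_mul, ← map_mul, h]
    · right
      show f s.1 * f y = f y * f s.1 * f (M0.d 0)
      rw [← map_mul, ← map_mul, ← map_mul, h]
  · intro a b hab
    apply Subtype.ext
    have h3 : f a.1 = f b.1 := congrArg Subtype.val hab
    exact hf h3

/-- A Sylow 2-subgroup of type `PSU(5,2)` satisfies `U5T` and the extra fact. -/
theorem exists_U5T {G : Type*} [Group G] (S : Subgroup G)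
    {F : Type*} [Field F] [Fintype F] (hF : Fintype.card F = 4) (P : Sylow 2 (Cfsg.PSU 5 F 2))
    (hS : Nonempty (S ≃* (P : Subgroup (Cfsg.PSU 5 F 2)))) :
    ∃ h : U5T S, ∀ y ∈ S, y ∉ h.Q → y * y = h.d 0 →
      256 ≤ Nat.card {s : G // s ∈ S ∧ (s * y = y * s ∨ s * y = y * s * h.d 0)} := by
  obtain ⟨e1⟩ := hS
  obtain ⟨e2⟩ := Iso.nonempty_mulEquiv hF P
  let e := e2.trans e1.symm
  let f : M0 →* G := S.subtype.comp (e : M0 →* S)
  have hf : Function.Injective f := S.subtype_injective.comp e.injective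
  have hr : (⊤ : Subgroup M0).map f = S := by
    rw [← MonoidHom.range_eq_map]
    ext x
    constructor
    · rintro ⟨y, rfl⟩
      exact (e y).2
    · intro hx
      obtain ⟨y, hy⟩ := e.surjective ⟨x, hx⟩
      exact ⟨y, congrArg Subtype.val hy⟩
  have key : ∃ h : U5T ((⊤ : Subgroup M0).map f), CY h := ⟨_, cy_map f hf⟩
  rw [hr] at key
  exact key

end Cfsg.Agent.SylowU5.CentY
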