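import Mathlib
import Cfsg.Agent.SylowU5.SolvT

/-! The class `D` of `z`, consequences of `U5Fus`. -/

set_option autoImplicit false
set_option linter.style.haveILetI false

namespace Cfsg.Agent.SylowU5.Fus

universe u

open Cfsg.Agent.SylowU5.Basic Cfsg.Agent.SylowU5.Elem Cfsg.Agent.SylowU5.SolvT

/-- conjugating a 2-subgroup into a Sylow 2-subgroup -/
theorem exists_conj_mem {G : Type*} [Group G] [Finite G] (T : Sylow 2 G) (R : Subgroup G)
    (hR : IsPGroup 2 R) : ∃ g : G, ∀ x ∈ R, g * x * g⁻¹ ∈ (T : Subgroup G) := by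
  haveI : Fact (Nat.Prime 2) := ⟨Nat.prime_two⟩
  obtain ⟨P, hP⟩ := hR.exists_le_sylow
  obtain ⟨g, hg⟩ := MulAction.exists_smul_eq G P T
  refine ⟨g, fun x hx => ?_⟩
  rw [← hg]
  exact Subgroup.smul_mem_pointwise_smul (x) (MulAut.conj g) _ (hP hx)

/-- two commuting involutions generate a 2-group -/
theorem isPGroup_pair {K : Type*} [Group K] {a b : K} (ha : a * a = 1) (hb : b * b = 1)
    (hab : a * b = b * a) : IsPGroup 2 ↥(Subgroup.zpowers a ⊔ Subgroup.zpowers b) := by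
  have key : ∀ c : K, c * c = 1 → IsPGroup 2 (Subgroup.zpowers c) := by
    intro c hc
    rintro ⟨x, hx⟩
    obtain ⟨k, rfl⟩ := Subgroup.mem_zpowers_iff.mp hx
    refine ⟨1, ?_⟩
    apply Subtype.ext
    simp only [pow_one, Subgroup.coe_pow, Subgroup.coe_one]
    rw [← zpow_natCast, ← zpow_mul, mul_comm, zpow_mul]
    have : c ^ ((2 : ℕ) : ℤ) = 1 := by rw [zpow_natCast, sq, hc]
    rw [this, one_zpow]
  apply IsPGroup.to_sup_of_normal_right' (key a ha) (key b hb)
  intro x hx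
  obtain ⟨k, rfl⟩ := Subgroup.mem_zpowers_iff.mp hx
  have hcomm : ∀ y ∈ Subgroup.zpowers b, a ^ k * y = y * a ^ k := by
    intro y hy
    obtain ⟨l, rfl⟩ := Subgroup.mem_zpowers_iff.mp hy
    have h1 : Commute a b := hab
    exact ((h1.zpow_left k).zpow_right l).eq
  rw [Subgroup.mem_normalizer_iff]
  intro y
  constructor
  · intro hy
    rw [hcomm y hy, mul_inv_cancel_right]; exact hy
  · intro hy
    have h1 := hcomm _ hy
    have h2 : y = a ^ k * y * (a ^ k)⁻¹ := by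
      have : a ^ k * (a ^ k * y * (a ^ k)⁻¹) = a ^ k * y := by rw [h1]; group
      exact (mul_left_cancel this).symm
    rw [h2]; exact hy

theorem exists_sylow_pair {K : Type*} [Group K] [Finite K] {a b : K} (ha : a * a = 1) (hb : b * b = 1)
    (hab : a * b = b * a) : ∃ P : Sylow 2 K, a ∈ P ∧ b ∈ P := by
  haveI : Fact (Nat.Prime 2) := ⟨Nat.prime_two⟩
  obtain ⟨P, hP⟩ := (isPGroup_pair ha hb hab).exists_le_sylow
  exact ⟨P, hP (Subgroup.mem_sup_left (Subgroup.mem_zpowers a)),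
    hP (Subgroup.mem_sup_right (Subgroup.mem_zpowers b))⟩

/-- solvability of centralizers is conjugation invariant -/
theorem solvable_conj {G : Type*} [Group G] (a g : G)
    (ha : Group.IsSolvable ↥(Subgroup.centralizer ({a} : Set G))) :
    Group.IsSolvable ↥(Subgroup.centralizer ({g * a * g⁻¹} : Set G)) := by
  haveI := ha
  let f : ↥(Subgroup.centralizer ({g * a * g⁻¹} : Set G)) →* ↥(Subgroup.centralizer ({a} : Set G)) :=
    { toFun := fun x => ⟨g⁻¹ * x * g, by
        have hx := Subgroup.mem_centralizer_singleton_iff.mp x.2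
        rw [Subgroup.mem_centralizer_singleton_iff]
        calc g⁻¹ * (x : G) * g * a = g⁻¹ * ((x : G) * (g * a * g⁻¹)) * g := by group
          _ = g⁻¹ * ((g * a * g⁻¹) * (x : G)) * g := by rw [hx]
          _ = a * (g⁻¹ * (x : G) * g) := by group⟩
      map_one' := by apply Subtype.ext; simp
      map_mul' := fun x y => by apply Subtype.ext; simp only [Subgroup.coe_mul]; group }
  have hf : Function.Injective f := by
    intro x y hxy
    have h1 : g⁻¹ * (x : G) * g = g⁻¹ * (y : G) * g := congrArg Subtype.val hxy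
    apply Subtype.ext
    exact mul_left_cancel (mul_right_cancel h1)
  exact Group.isSolvable_of_isSolvable_injective hf

theorem exists_perm_two : ∀ i j : Fin 5, i ≠ j →
    ∃ π : Equiv.Perm (Fin 5), Equiv.Perm.sign π = 1 ∧ π i = 1 ∧ π j = 2 := by
  decide +kernel

theorem exists_perm_zero_one : ∀ i j : Fin 5, i ≠ j →
    ∃ π : Equiv.Perm (Fin 5), Equiv.Perm.sign π = 1 ∧ π i = 0 ∧ π j = 1 := by
  decide +kernel

theorem exists_perm_three : ∃ π : Equiv.Perm (Fin 5),
    Equiv.Perm.sign π = 1 ∧ π 0 = 3 ∧ π 1 = 1 ∧ π 2 = 2 ∧ π 3 = 4 ∧ π 4 = 0 := by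
  decide +kernel

section

variable {G : Type u} [Group G] [Finite G] {T : Sylow 2 G} (h : U5T (T : Subgroup G))

/-- the conjugacy class of `z = d 0` -/
def D : Set G := {x | ∃ g : G, x = g * h.d 0 * g⁻¹}

omit [Finite G] in
theorem mem_D {x : G} : x ∈ D h ↔ ∃ g : G, x = g * h.d 0 * g⁻¹ := Iff.rfl

omit [Finite G] in
theorem D_conj {x : G} (hx : x ∈ D h) (g : G) : g * x * g⁻¹ ∈ D h := by
  obtain ⟨k, rfl⟩ := hx
  exact ⟨g * k, by group⟩

omit [Finite G] in
theorem D_of_conj {x : G} (g : G) (hx : g * x * g⁻¹ ∈ D h) : x ∈ D h := by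
  have := D_conj h hx g⁻¹
  have h2 : g⁻¹ * (g * x * g⁻¹) * g⁻¹⁻¹ = x := by group
  rwa [h2] at this

omit [Finite G] in
theorem D_sq {x : G} (hx : x ∈ D h) : x * x = 1 := by
  obtain ⟨k, rfl⟩ := hx
  calc k * h.d 0 * k⁻¹ * (k * h.d 0 * k⁻¹) = k * (h.d 0 * h.d 0) * k⁻¹ := by group
    _ = 1 := by rw [d_sq h 0]; group

omit [Finite G] in
theorem D_ne_one {x : G} (hx : x ∈ D h) : x ≠ 1 := by
  obtain ⟨k, rfl⟩ := hx
  intro h1
  apply h.d_ne_one 0
  have : h.d 0 = k⁻¹ * (k * h.d 0 * k⁻¹) * k := by group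
  rw [this, h1]; group

omit [Finite G] in
theorem D_inv {x : G} (hx : x ∈ D h) : x⁻¹ = x := inv_eq_of_mul_eq_one_left (D_sq h hx)

omit [Finite G] in
theorem z_mem_D : h.d 0 ∈ D h := ⟨1, by group⟩

variable {h}
variable (F : U5Fus T h)

include F

omit [Finite G] in
theorem d_mem_D (i : Fin 5) : h.d i ∈ D h := by
  obtain ⟨j, hj⟩ : ∃ j : Fin 5, i ≠ j := exists_ne i |>.imp fun _ hj => hj.symm
  obtain ⟨π, hπ, hi, -⟩ := exists_perm_zero_one i j hj
  obtain ⟨n, -, hn⟩ := F.E_alt π (Equiv.Perm.mem_alternatingGroup.mpr hπ)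
  apply D_of_conj h n
  rw [hn i, hi]
  exact z_mem_D h

/-- the elements of `D` in a 2-subgroup -/
theorem exists_conj_d {R : Subgroup G} (hR : IsPGroup 2 R) :
    ∃ g : G, (∀ x ∈ R, g * x * g⁻¹ ∈ (T : Subgroup G)) ∧ ∀ x ∈ R, x ∈ D h → ∃ i, g * x * g⁻¹ = h.d i := by
  obtain ⟨g, hg⟩ := exists_conj_mem T R hR
  refine ⟨g, hg, fun x hx hxD => ?_⟩
  obtain ⟨k, hk⟩ := hxD
  have h1 : g * x * g⁻¹ = (g * k) * h.d 0 * (g * k)⁻¹ := by rw [hk]; group
  rw [h1]
  apply F.z_fus
  rw [← h1]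
  exact hg x hx

omit [Finite G] in
theorem dd_not_mem_D {i j : Fin 5} (hij : i ≠ j) : h.d i * h.d j ∉ D h := by
  rintro ⟨g, hg⟩
  have h1 : g * h.d 0 * g⁻¹ ∈ (T : Subgroup G) := by rw [← hg]; exact E_le_T h (dd_mem h i j)
  obtain ⟨k, hk⟩ := F.z_fus g h1
  rw [← hg] at hk
  exact h.dd_ne_d i j k hij hk

/-- commuting pairs of distinct elements of `D` are conjugate to `(d 1, d 2)` -/
theorem exists_conj_pair {x y : G} (hx : x ∈ D h) (hy : y ∈ D h) (hxy : x * y = y * x) (hne : x ≠ y) :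
    ∃ g : G, g * x * g⁻¹ = h.d 1 ∧ g * y * g⁻¹ = h.d 2 := by
  obtain ⟨g, -, hg⟩ := exists_conj_d F (isPGroup_pair (D_sq h hx) (D_sq h hy) hxy)
  obtain ⟨i, hi⟩ := hg x (Subgroup.mem_sup_left (Subgroup.mem_zpowers x)) hx
  obtain ⟨j, hj⟩ := hg y (Subgroup.mem_sup_right (Subgroup.mem_zpowers y)) hy
  have hij : i ≠ j := by
    rintro rfl
    apply hne
    have := hi.trans hj.symm
    exact mul_left_cancel (mul_right_cancel this)
  obtain ⟨π, hπ, h1, h2⟩ := exists_perm_two i j hij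
  obtain ⟨n, -, hn⟩ := F.E_alt π (Equiv.Perm.mem_alternatingGroup.mpr hπ)
  refine ⟨n * g, ?_, ?_⟩
  · rw [conj_mul_eq, hi, hn i, h1]
  · rw [conj_mul_eq, hj, hn j, h2]

theorem exists_conj_pair' {x y : G} (hx : x ∈ D h) (hy : y ∈ D h) (hxy : x * y = y * x) (hne : x ≠ y) :
    ∃ g : G, g * x * g⁻¹ = h.d 0 ∧ g * y * g⁻¹ = h.d 1 := by
  obtain ⟨g, hg1, hg2⟩ := exists_conj_pair F hx hy hxy hne
  obtain ⟨π, hπ, h1, h2⟩ := exists_perm_zero_one 1 2 (by decide)
  obtain ⟨n, -, hn⟩ := F.E_alt π (Equiv.Perm.mem_alternatingGroup.mpr hπ)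
  refine ⟨n * g, ?_, ?_⟩
  · rw [conj_mul_eq, hg1, hn, h1]
  · rw [conj_mul_eq, hg2, hn, h2]

omit [Finite G] in
theorem solvable_D {x : G} (hx : x ∈ D h) : Group.IsSolvable ↥(Subgroup.centralizer ({x} : Set G)) := by
  obtain ⟨g, rfl⟩ := hx
  exact solvable_conj _ g F.solvable_z

/-- `t = d 1 * d 2` -/
theorem solvable_t (hZ : Cfsg.Agent.R01.Closing.ZStar.{u}) (hFT : OddOrder.{u}) :
    Group.IsSolvable ↥(Subgroup.centralizer ({h.d 1 * h.d 2} : Set G)) := by
  classical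
  set t : G := h.d 1 * h.d 2 with ht
  set K : Subgroup G := Subgroup.centralizer ({t} : Set G) with hK
  have htE : t ∈ h.E := dd_mem h 1 2
  have htt : t * t = 1 := h.E_sq t htE
  have hmem : ∀ x ∈ h.E, x ∈ K := by
    intro x hx
    rw [hK, Subgroup.mem_centralizer_singleton_iff]
    exact E_comm h hx htE
  let t' : K := ⟨t, hmem t htE⟩
  let x' : K := ⟨h.d 1, hmem _ (h.d_mem 1)⟩
  have htx : t * h.d 1 = h.d 2 := by
    rw [ht, mul_assoc, d_comm h 2 1, ← mul_assoc, d_sq h 1, one_mul]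
  have hxx : x' * x' = 1 := Subtype.ext (d_sq h 1)
  have htt' : t' * t' = 1 := Subtype.ext htt
  have hcomm : x' * t' = t' * x' := Subtype.ext (E_comm h (h.d_mem 1) htE)
  obtain ⟨P, hxP, htP⟩ := exists_sylow_pair hxx htt' hcomm
  have ht1 : t' ≠ 1 := fun h1 => h.dd_ne_one 1 2 (by decide) (congrArg Subtype.val h1)
  have hx1 : x' ≠ 1 := fun h1 => h.d_ne_one 1 (congrArg Subtype.val h1)
  have hxt : x' ≠ t' := by
    intro h1
    have h2 : h.d 1 = t := congrArg Subtype.val h1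
    exact h.dd_ne_d 1 2 1 (by decide) (ht ▸ h2.symm)
  have hzc : ∀ g : K, g * t' = t' * g := fun g =>
    Subtype.ext (Subgroup.mem_centralizer_singleton_iff.mp g.2)
  have hiso : ∀ g : K, g * x' * g⁻¹ ∈ P → g * x' * g⁻¹ = x' ∨ g * x' * g⁻¹ = t' * x' := by
    intro g hg
    set y : K := g * x' * g⁻¹ with hy
    have hyG : (y : G) = (g : G) * h.d 1 * (g : G)⁻¹ := rfl
    have htyG : ((t' * y : K) : G) = (g : G) * h.d 2 * (g : G)⁻¹ := by
      have h1 : (g : G) * t = t * (g : G) := Subgroup.mem_centralizer_singleton_iff.mp g.2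
      calc ((t' * y : K) : G) = t * ((g : G) * h.d 1 * (g : G)⁻¹) := rfl
        _ = (t * (g : G)) * h.d 1 * (g : G)⁻¹ := by group
        _ = ((g : G) * t) * h.d 1 * (g : G)⁻¹ := by rw [h1]
        _ = (g : G) * (t * h.d 1) * (g : G)⁻¹ := by group
        _ = (g : G) * h.d 2 * (g : G)⁻¹ := by rw [htx]
    have hyD : (y : G) ∈ D h := by rw [hyG]; exact D_conj h (d_mem_D F 1) _
    have htyD : ((t' * y : K) : G) ∈ D h := by rw [htyG]; exact D_conj h (d_mem_D F 2) _
    have hR : IsPGroup 2 ((P : Subgroup K).map K.subtype) := P.isPGroup'.map K.subtype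
    obtain ⟨c, -, hc⟩ := exists_conj_d F hR
    have hin : ∀ w : K, w ∈ P → (w : G) ∈ (P : Subgroup K).map K.subtype := fun w hw => ⟨w, hw, rfl⟩
    obtain ⟨i, hi⟩ := hc (h.d 1) (hin x' hxP) (d_mem_D F 1)
    have h2P : t' * x' ∈ P := P.mul_mem htP hxP
    have h2G : ((t' * x' : K) : G) = h.d 2 := htx
    obtain ⟨j, hj⟩ := hc (h.d 2) (by rw [← h2G]; exact hin _ h2P) (d_mem_D F 2)
    obtain ⟨k, hk⟩ := hc y (hin y hg) hyD
    obtain ⟨l, hl⟩ := hc ((t' * y : K) : G) (hin _ (P.mul_mem htP hg)) htyD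
    have hij : i ≠ j := by
      rintro rfl
      exact absurd (h.d_inj 1 2 (mul_left_cancel (mul_right_cancel (hi.trans hj.symm)))) (by decide)
    have hkl : k ≠ l := by
      rintro rfl
      have h3 : (y : G) = ((t' * y : K) : G) := mul_left_cancel (mul_right_cancel (hk.trans hl.symm))
      have h4 : (y : K) = t' * y := Subtype.ext h3
      exact ht1 (mul_eq_right.mp h4.symm)
    have h5 : h.d i * h.d j = c * t * c⁻¹ := by
      rw [← hi, ← hj, ht]; group
    have hyt : (y : G) * ((t' * y : K) : G) = t := by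
      have h6 : y * (t' * y) = t' := by
        have hyy : y * y = 1 := by
          have : (g * x' * g⁻¹) * (g * x' * g⁻¹) = g * (x' * x') * g⁻¹ := by group
          rw [hy, this, hxx]; group
        rw [← mul_assoc, hzc y, mul_assoc, hyy, mul_one]
      exact congrArg Subtype.val h6
    have h7 : h.d k * h.d l = c * t * c⁻¹ := by
      rw [← hk, ← hl, ← hyt]; group
    rcases h.dd_inj k l i j hkl hij (h7.trans h5.symm) with ⟨h8, -⟩ | ⟨h8, -⟩
    · left
      apply Subtype.ext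
      rw [h8, ← hi] at hk
      exact mul_left_cancel (mul_right_cancel hk)
    · right
      apply Subtype.ext
      rw [h8, ← hj] at hk
      have : (y : G) = h.d 2 := mul_left_cancel (mul_right_cancel hk)
      rw [this, ← h2G]
  have ht2 : orderOf t' = 2 := orderOf_eq_prime (by rw [sq, htt']) ht1
  obtain ⟨O, hO, hOodd, hcore⟩ := Cfsg.Agent.R01.Closing.exists_core hZ t' x' ht2 hzc hxx hx1 hxt P hxP
    htP hiso
  have hCK : Group.IsSolvable ↥(Subgroup.centralizer ({x'} : Set K)) := by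
    haveI := solvable_D F (d_mem_D F 1)
    let f : ↥(Subgroup.centralizer ({x'} : Set K)) →* ↥(Subgroup.centralizer ({h.d 1} : Set G)) :=
      { toFun := fun k => ⟨((k : K) : G), by
          rw [Subgroup.mem_centralizer_singleton_iff]
          exact congrArg Subtype.val (Subgroup.mem_centralizer_singleton_iff.mp k.2)⟩
        map_one' := rfl
        map_mul' := fun _ _ => rfl }
    have hf : Function.Injective f := by
      intro a b hab
      have h9 : (((a : K) : G)) = ((b : K) : G) := by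
        have := congrArg Subtype.val hab
        exact this
      exact Subtype.ext (Subtype.ext h9)
    exact Group.isSolvable_of_isSolvable_injective hf
  exact solvable_of_core x' t' O hO (hFT O hOodd) hCK hcore

end

end Cfsg.Agent.SylowU5.Fus
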