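import Mathlib
import Cfsg.Prelude.Def_SporadicB
import Cfsg.Agent.SylowU5.Fus

/-! Step (5) of S0513: the class `D` of `z` is a class of 3-transpositions of the simple group `G`; the
hypotheses of S1614. -/

set_option autoImplicit false
set_option linter.style.haveILetI false
set_option linter.unusedSectionVars false

namespace Cfsg.Agent.SylowU5.Assemble

universe u

open Cfsg
open Cfsg.Agent.SylowU5.Basic Cfsg.Agent.SylowU5.Elem Cfsg.Agent.SylowU5.SolvT
  Cfsg.Agent.SylowU5.Fus

variable {G : Type u} [Group G] [Finite G] [IsSimpleGroup G] {T : Sylow 2 G}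
  {h : U5T (T : Subgroup G)}

variable (h) in
theorem closure_D : Subgroup.closure (D h) = ⊤ := by
  have hn : (Subgroup.closure (D h)).Normal := by
    constructor
    intro x hx g
    induction hx using Subgroup.closure_induction with
    | mem y hy => exact Subgroup.subset_closure (D_conj h hy g)
    | one => rw [mul_one, mul_inv_cancel]; exact Subgroup.one_mem _
    | mul a b _ _ ha hb =>
      have : g * (a * b) * g⁻¹ = (g * a * g⁻¹) * (g * b * g⁻¹) := by group
      rw [this]; exact Subgroup.mul_mem _ ha hb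
    | inv a _ ha =>
      have : g * a⁻¹ * g⁻¹ = (g * a * g⁻¹)⁻¹ := by group
      rw [this]; exact Subgroup.inv_mem _ ha
  rcases hn.eq_bot_or_eq_top with h1 | h1
  · exfalso
    have h2 : h.d 0 ∈ Subgroup.closure (D h) := Subgroup.subset_closure (z_mem_D h)
    rw [h1, Subgroup.mem_bot] at h2
    exact h.d_ne_one 0 h2
  · exact h1

/-- the class of 3-transpositions -/
theorem isThreeTranspositionClass
    (hgeo : ∀ x ∈ D h, ∀ y ∈ D h, x * y = y * x ∨ orderOf (x * y) = 3) :
    IsThreeTranspositionClass (D h) := by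
  haveI : Fact (Nat.Prime 2) := ⟨Nat.prime_two⟩
  refine ⟨⟨fun d hd => ?_, fun d hd e he => ?_⟩, ⟨h.d 0, z_mem_D h, ?_⟩, closure_D h⟩
  · apply orderOf_eq_prime
    · rw [sq]; exact D_sq h hd
    · exact D_ne_one h hd
  · rcases hgeo d hd e he with h1 | h1
    · left
      calc (d * e) ^ 2 = d * (e * d) * e := by rw [sq]; group
        _ = (d * d) * (e * e) := by rw [← h1]; group
        _ = 1 := by rw [D_sq h hd, D_sq h he, mul_one]
    · right
      rw [← h1]; exact pow_orderOf_eq_one _
  · ext x
    change (∃ g : G, x = g * h.d 0 * g⁻¹) ↔ IsConj (h.d 0) x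
    rw [isConj_iff]
    constructor
    · rintro ⟨g, rfl⟩
      exact ⟨g, rfl⟩
    · rintro ⟨g, hg⟩
      exact ⟨g, hg.symm⟩

theorem not_solvable (h : U5T (T : Subgroup G)) : ¬ Group.IsSolvable G := by
  intro hs
  have hcomm : ∀ a b : G, a * b = b * a := IsSimpleGroup.comm_iff_isSolvable.mpr hs
  have hle : (T : Subgroup G) ≤ Subgroup.zpowers (h.d 0) := by
    intro x hx
    rcases h.center_T x hx (fun g _ => hcomm g x) with h1 | h1
    · rw [h1]; exact Subgroup.one_mem _
    · rw [h1]; exact Subgroup.mem_zpowers _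
  have h2 : Nat.card (T : Subgroup G) ∣ Nat.card (Subgroup.zpowers (h.d 0)) :=
    Subgroup.card_dvd_of_le hle
  rw [h.card_T, Nat.card_zpowers] at h2
  have h3 : orderOf (h.d 0) ∣ 2 := orderOf_dvd_of_pow_eq_one (by rw [sq]; exact d_sq h 0)
  exact absurd (h2.trans h3) (by norm_num)

theorem hsol (h : U5T (T : Subgroup G)) (N : Subgroup G) (hN : N.Normal) (hs : Group.IsSolvable N) : N = ⊥ := by
  rcases hN.eq_bot_or_eq_top with h1 | h1
  · exact h1
  · exfalso
    subst h1
    haveI := hs
    exact not_solvable h (Group.isSolvable_of_surjective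
      (f := (Subgroup.topEquiv : (⊤ : Subgroup G) ≃* G).toMonoidHom) Subgroup.topEquiv.surjective)

omit [Finite G] in
theorem hperf : ⁅commutator G, commutator G⁆ = commutator G := by
  rcases (inferInstance : (commutator G).Normal).eq_bot_or_eq_top with h1 | h1
  · rw [h1, Subgroup.commutator_bot_left]
  · have h2 : ⁅(⊤ : Subgroup G), (⊤ : Subgroup G)⁆ = ⊤ := by rw [← commutator_def, h1]
    rw [h1, h2]

theorem solvable_closure (F : U5Fus T h) :
    Group.IsSolvable ↥(Subgroup.closure {y : G | y ∈ D h ∧ y ≠ h.d 0 ∧ Commute (h.d 0) y}) := by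
  haveI := F.solvable_z
  have hle : Subgroup.closure {y : G | y ∈ D h ∧ y ≠ h.d 0 ∧ Commute (h.d 0) y} ≤
      Subgroup.centralizer ({h.d 0} : Set G) := by
    rw [Subgroup.closure_le]
    rintro y ⟨-, -, hy⟩
    exact Subgroup.mem_centralizer_singleton_iff.mpr hy.eq.symm
  exact Group.isSolvable_of_isSolvable_injective (Subgroup.inclusion_injective hle)

theorem dvd_card (h : U5T (T : Subgroup G)) : 1024 ∣ Nat.card G := by
  have := Subgroup.card_subgroup_dvd_card (T : Subgroup G)
  rwa [h.card_T] at this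

end Cfsg.Agent.SylowU5.Assemble
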