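import Mathlib
import Cfsg.Agent.R15.NormalElem
import Cfsg.Agent.S0018
import Cfsg.Agent.S0061
import Cfsg.Agent.SmallSimple.TransferInvol
import Cfsg.Agent.TwoFusion.IndexTwo
import Cfsg.Agent.TwoFusion.IsolatedCenter
import Cfsg.Agent.Lib.Cores

/-!
# Step (5') of S0513: solvability of `C_G(z)/⟨z⟩` (helper881)

Statement of helper445: `P` Sylow 2-subgroup of `X`, `V` elementary abelian of order 64 in `P`,
weakly closed, with an invariant quadratic form, `P/V` quaternion of order 8, ... .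
-/

set_option autoImplicit false
open Cfsg Subgroup

namespace Cfsg.Agent.SylowU5.CentSolvCore

universe u

/-- Statement T2 in the universe `v`. -/
def FormSolv.{v} : Prop := ∀ (N : Type v) [Group N] [Finite N] (V : Sylow 2 N)
  (_ : ∀ a ∈ V, ∀ b ∈ V, a * b = b * a) (_ : ∀ a ∈ V, a * a = 1) (_ : Nat.card V = 64)
  (q : N → ZMod 2) (_ : q 1 = 0)
  (_ : ∀ x ∈ V, ∀ y ∈ V, ∀ w ∈ V,
    q (x * y * w) = q (x * y) + q (x * w) + q (y * w) + q x + q y + q w)
  (_ : ∀ x ∈ V, x ≠ 1 → ∃ y ∈ V, q (x * y) ≠ q x + q y)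
  (_ : ∀ g : N, ∀ x ∈ V, g * x * g⁻¹ ∈ V → q (g * x * g⁻¹) = q x)
  (n : N) (_ : n ∈ V) (_ : ∀ g, g * n = n * g) (_ : q n = 1)
  (_ : ∀ u ∈ V, u ≠ 1 → q u = 0 → Group.IsSolvable ↥(Subgroup.centralizer ({u} : Set N))),
  Group.IsSolvable N

theorem mem_normalizer_of_forall {G : Type*} [Group G] [Finite G] (V : Subgroup G) {g : G}
    (h : ∀ x ∈ V, g * x * g⁻¹ ∈ V) : g ∈ normalizer (V : Set G) := by
  rw [mem_normalizer_iff]
  let f : V → V := fun x => ⟨g * x * g⁻¹, h x x.2⟩
  have hinj : Function.Injective f := by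
    intro x y hxy
    have h1 : g * (x : G) * g⁻¹ = g * (y : G) * g⁻¹ := congrArg Subtype.val hxy
    apply Subtype.ext
    have h2 := mul_right_cancel h1
    exact mul_left_cancel h2
  have hsurj : Function.Surjective f := Finite.surjective_of_injective hinj
  intro x
  constructor
  · exact fun hx => h x hx
  · intro hx
    obtain ⟨y, hy⟩ := hsurj ⟨_, hx⟩
    have h1 : g * (y : G) * g⁻¹ = g * x * g⁻¹ := congrArg Subtype.val hy
    have h2 := mul_left_cancel (mul_right_cancel h1)
    rw [← h2]; exact y.2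

/-- Frattini argument in a solvable normal subgroup with abelian Sylow `2`-subgroup. -/
theorem frattini {C : Type*} [Group C] [Finite C] (N0 : Subgroup C) [hN : N0.Normal]
    (hs : Group.IsSolvable N0) (V : Subgroup C) (hVc : ∀ a ∈ V, ∀ b ∈ V, a * b = b * a)
    (P0 : Sylow 2 N0) (hP0 : (P0 : Subgroup N0).map N0.subtype = V) :
    normalizer (V : Set C) ⊔ pPrimeCore 2 C = ⊤ := by
  have := hs
  have hmem : ∀ a : N0, a ∈ P0 → (a : C) ∈ V := by
    intro a ha
    rw [← hP0]
    exact ⟨a, ha, rfl⟩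
  have hcomm : IsMulCommutative (P0 : Subgroup N0) := by
    refine ⟨⟨fun a b => ?_⟩⟩
    apply Subtype.ext
    apply Subtype.ext
    exact hVc _ (hmem _ a.2) _ (hmem _ b.2)
  have hW := Cfsg.Agent.S0018.result 2 P0 hcomm
  have h1 : normalizer ((P0 : Subgroup N0) : Set N0) ⊔
      ((P0 : Subgroup N0) ⊔ Cfsg.pPrimeCore 2 N0) = ⊤ :=
    Sylow.normalizer_sup_eq_top' P0 le_sup_left
  have h2 : N0 ≤ normalizer (V : Set C) ⊔ pPrimeCore 2 C := by
    have h3 : N0 = (⊤ : Subgroup N0).map N0.subtype := by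
      rw [← MonoidHom.range_eq_map, Subgroup.range_subtype]
    rw [h3, ← h1, Subgroup.map_sup, Subgroup.map_sup]
    refine sup_le ?_ (sup_le ?_ ?_)
    · refine le_trans ?_ le_sup_left
      rintro _ ⟨x, hx, rfl⟩
      apply mem_normalizer_of_forall
      intro y hy
      rw [← hP0] at hy
      obtain ⟨y', hy', rfl⟩ := hy
      have h4 := (mem_normalizer_iff.1 hx y').1 hy'
      exact hmem _ h4
    · refine le_trans ?_ le_sup_left
      rw [hP0]
      exact le_normalizer
    · refine le_trans ?_ le_sup_right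
      rw [Cfsg.Agent.Lib.Cores.map_subtype_pPrimeCore 2 hN]
      exact inf_le_right
  have h5 := Sylow.normalizer_sup_eq_top P0
  rw [hP0] at h5
  rw [eq_top_iff, ← h5]
  exact sup_le le_sup_left h2

/-- If `S` is a Sylow `2`-subgroup of `C` and `N0` a normal subgroup with `S ⊓ N0 = V`, then `V` is a
Sylow subgroup of `N0`. -/
theorem exists_sylow {C : Type*} [Group C] [Finite C] (S : Sylow 2 C) (N0 V : Subgroup C)
    [hN : N0.Normal] (hV : (S : Subgroup C) ⊓ N0 = V) :
    ∃ P0 : Sylow 2 N0, (P0 : Subgroup N0).map N0.subtype = V := by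
  obtain ⟨P0, hP0⟩ := (S.2.comap_subtype (K := N0)).exists_le_sylow
  refine ⟨P0, ?_⟩
  -- `P0` is conjugate in `C` into `S`
  have hP0m : IsPGroup 2 ((P0 : Subgroup N0).map N0.subtype) := P0.2.map _
  obtain ⟨T, hT⟩ := hP0m.exists_le_sylow
  obtain ⟨g, hg⟩ := MulAction.exists_smul_eq C T S
  apply le_antisymm
  · -- cardinality
    have h1 : V ≤ (P0 : Subgroup N0).map N0.subtype := by
      rw [← hV]
      rintro x ⟨hx1, hx2⟩
      exact ⟨⟨x, hx2⟩, hP0 hx1, rfl⟩
    have h2 : Nat.card ((P0 : Subgroup N0).map N0.subtype) ≤ Nat.card V := by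
      have h3 : ((P0 : Subgroup N0).map N0.subtype).map (MulAut.conj g).toMonoidHom ≤ V := by
        rintro _ ⟨x, hx, rfl⟩
        rw [← hV]
        constructor
        · rw [← hg]
          exact ⟨x, hT hx, rfl⟩
        · obtain ⟨y, _, rfl⟩ := hx
          exact hN.conj_mem _ y.2 g
      have h4 := Subgroup.card_le_of_le h3
      rwa [Subgroup.card_map_of_injective (MulAut.conj g).injective] at h4
    exact (Subgroup.eq_of_le_of_card_ge h1 h2).ge
  · rw [← hV]
    rintro x ⟨hx1, hx2⟩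
    exact ⟨⟨x, hx2⟩, hP0 hx1, rfl⟩

/-- The centralizer in a subgroup of an element whose centralizer is solvable is solvable. -/
theorem solvable_centralizer {C : Type*} [Group C] (N0 : Subgroup C) (u : N0)
    (h : Group.IsSolvable ↥(centralizer ({(u : C)} : Set C))) :
    Group.IsSolvable ↥(centralizer ({u} : Set N0)) := by
  have hmem : ∀ x : centralizer ({u} : Set N0),
      (N0.subtype.comp (centralizer ({u} : Set N0)).subtype) x ∈ centralizer ({(u : C)} : Set C) := by
    intro x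
    have h1 := mem_centralizer_singleton_iff.1 x.2
    exact mem_centralizer_singleton_iff.2 (congrArg Subtype.val h1)
  let f : centralizer ({u} : Set N0) →* centralizer ({(u : C)} : Set C) :=
    (N0.subtype.comp (centralizer ({u} : Set N0)).subtype).codRestrict _ hmem
  have hf : Function.Injective f := by
    intro x y hxy
    have h1 : ((f x : centralizer ({(u : C)} : Set C)) : C) = f y := by rw [hxy]
    exact Subtype.ext (Subtype.ext h1)
  exact Group.isSolvable_of_isSolvable_injective hf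

/-- The case of a nonsingular central element. -/
theorem core_case (hT2 : FormSolv.{u}) {C : Type u} [Group C] [Finite C] (S : Sylow 2 C)
    (V : Subgroup C) (hVS : V ≤ S) (hVcard : Nat.card V = 64)
    (hVc : ∀ a ∈ V, ∀ b ∈ V, a * b = b * a) (hV2 : ∀ a ∈ V, a * a = 1)
    (q : C → ZMod 2) (hq1 : q 1 = 0)
    (hquad : ∀ x ∈ V, ∀ y ∈ V, ∀ w ∈ V,
      q (x * y * w) = q (x * y) + q (x * w) + q (y * w) + q x + q y + q w)
    (hnd : ∀ x ∈ V, x ≠ 1 → ∃ y ∈ V, q (x * y) ≠ q x + q y)
    (hgen : V ≤ Subgroup.closure {u | u ∈ V ∧ q u = 0})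
    (hinv : ∀ g : C, ∀ x ∈ V, g * x * g⁻¹ ∈ V → q (g * x * g⁻¹) = q x)
    (hsing : ∀ g : C, ∀ x ∈ V, q x = 0 → g * x * g⁻¹ ∈ S → g * x * g⁻¹ ∈ V)
    (n : C) (hn : n ∈ V) (hnc : ∀ g, g * n = n * g) (hqn : q n = 1)
    (hsolv : ∀ u ∈ V, u ≠ 1 → q u = 0 → Group.IsSolvable ↥(centralizer ({u} : Set C)))
    (hS : (∀ s ∈ S, s ∈ V) ∨
      ∃ e ∈ S, e * e = 1 ∧ (∀ g : C, g * e * g⁻¹ ∉ V) ∧ ∀ s ∈ S, s ∈ V ∨ s * e ∈ V) :
    Group.IsSolvable C ∧ normalizer (V : Set C) ⊔ pPrimeCore 2 C = ⊤ := by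
  classical
  obtain ⟨f, hf⟩ : ∃ f : C →* ℤˣ, (S : Subgroup C) ⊓ f.ker = V := by
    rcases hS with hS | ⟨e, heS, hee, heV, hse⟩
    · refine ⟨1, le_antisymm ?_ ?_⟩
      · rintro x ⟨hx, _⟩
        exact hS x hx
      · intro x hx
        exact ⟨hVS hx, by simp⟩
    · have heV1 : e ∉ V := by
        intro h
        exact heV 1 (by simpa using h)
      set M : Subgroup (S : Subgroup C) := V.subgroupOf (S : Subgroup C) with hMdef
      have hM : M.index = 2 := by
        rw [Subgroup.index_eq_two_iff]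
        refine ⟨⟨e, heS⟩, fun b => ?_⟩
        rcases hse b b.2 with h | h
        · right
          refine ⟨h, fun h' => heV1 ?_⟩
          have h1 : (b : C) * e ∈ V := h'
          have h2 := V.mul_mem (V.inv_mem h) h1
          rwa [inv_mul_cancel_left] at h2
        · left
          refine ⟨h, fun h' => heV1 ?_⟩
          have h1 : (b : C) ∈ V := h'
          have h2 := V.mul_mem (V.inv_mem h1) h
          rwa [inv_mul_cancel_left] at h2
      have hodd : Odd (S : Subgroup C).index := by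
        rw [← Nat.not_even_iff_odd, even_iff_two_dvd]
        exact S.not_dvd_index
      let φ := TwoFusion.IndexTwo.signHom M hM
      have hφ1 : ∀ x : (S : Subgroup C), (x : C) ∈ V → φ x = 1 := fun x hx =>
        TwoFusion.IndexTwo.signHom_of_mem hM (g := x) hx
      have hφ2 : ∀ x : (S : Subgroup C), (x : C) ∉ V → φ x = -1 := fun x hx =>
        TwoFusion.IndexTwo.signHom_of_not_mem hM (g := x) hx
      have hsub : V ≤ (MonoidHom.transfer φ).ker := by
        refine hgen.trans ((Subgroup.closure_le _).2 ?_)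
        rintro u ⟨hu, hqu⟩
        show MonoidHom.transfer φ u = 1
        refine SmallSimple.TransferInvol.transfer_eq_of_odd_index _ φ u
          (by rw [pow_two]; exact hV2 u hu) hodd 1 (by simp) ?_
        intro x hx
        obtain ⟨g, hg⟩ := isConj_iff.1 hx
        apply hφ1
        rw [← hg]
        exact hsing g u hu hqu (by rw [hg]; exact x.2)
      have he : MonoidHom.transfer φ e = -1 := by
        refine SmallSimple.TransferInvol.transfer_eq_of_odd_index _ φ e
          (by rw [pow_two]; exact hee) hodd (-1) (by simp) ?_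
        intro x hx
        obtain ⟨g, hg⟩ := isConj_iff.1 hx
        apply hφ2
        rw [← hg]
        exact heV g
      refine ⟨MonoidHom.transfer φ, le_antisymm ?_ (le_inf hVS hsub)⟩
      rintro x ⟨hxS, hxk⟩
      rcases hse x hxS with h | h
      · exact h
      · exfalso
        have h1 : MonoidHom.transfer φ (x * e) = 1 := hsub h
        rw [map_mul, he] at h1
        have h2 : MonoidHom.transfer φ x = 1 := hxk
        rw [h2] at h1
        exact absurd h1 (by decide)
  obtain ⟨P0, hP0⟩ := exists_sylow S f.ker V hf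
  have hmem : ∀ a : f.ker, a ∈ P0 → (a : C) ∈ V := by
    intro a ha
    rw [← hP0]
    exact ⟨a, ha, rfl⟩
  have hmem' : ∀ a ∈ V, ∃ b : f.ker, b ∈ P0 ∧ (b : C) = a := by
    intro a ha
    rw [← hP0] at ha
    obtain ⟨b, hb, hab⟩ := ha
    exact ⟨b, hb, hab⟩
  obtain ⟨n', hn', hnn⟩ := hmem' n hn
  have hs : Group.IsSolvable f.ker := by
    refine hT2 f.ker P0 ?_ ?_ ?_ (fun x => q x) ?_ ?_ ?_ ?_ n' hn' ?_ ?_ ?_
    · intro a ha b hb
      exact Subtype.ext (hVc _ (hmem a ha) _ (hmem b hb))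
    · intro a ha
      exact Subtype.ext (hV2 _ (hmem a ha))
    · rw [← hVcard, ← hP0]
      exact (Subgroup.card_map_of_injective (Subgroup.subtype_injective _)).symm
    · exact hq1
    · intro x hx y hy w hw
      exact hquad _ (hmem x hx) _ (hmem y hy) _ (hmem w hw)
    · intro x hx hx1
      obtain ⟨y, hy, hxy⟩ := hnd _ (hmem x hx) (fun h => hx1 (Subtype.ext h))
      obtain ⟨y', hy', rfl⟩ := hmem' y hy
      exact ⟨y', hy', hxy⟩
    · intro g x hx hgx
      exact hinv _ _ (hmem x hx) (hmem _ hgx)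
    · intro g
      apply Subtype.ext
      show (g : C) * (n' : C) = (n' : C) * (g : C)
      rw [hnn]; exact hnc _
    · show q (n' : C) = 1
      rw [hnn]; exact hqn
    · intro u hu hu1 hqu
      exact solvable_centralizer f.ker u (hsolv _ (hmem u hu) (fun h => hu1 (Subtype.ext h)) hqu)
  refine ⟨?_, frattini f.ker hs V hVc P0 hP0⟩
  exact Group.isSolvable_of_ker_le_range f.ker.subtype f (by simp)

/-- Nonsingular vectors: the centralizer is solvable, and contained in `O(C(n)) N(V)`. -/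
theorem nonsingular (hT2 : FormSolv.{u}) {X : Type u} [Group X] [Finite X] (P : Sylow 2 X)
    (V : Subgroup X) (hVcard : Nat.card V = 64)
    (hVc : ∀ a ∈ V, ∀ b ∈ V, a * b = b * a) (hV2 : ∀ a ∈ V, a * a = 1)
    (hW : IsWeaklyClosed V (P : Subgroup X)) (q : X → ZMod 2) (hq1 : q 1 = 0)
    (hquad : ∀ x ∈ V, ∀ y ∈ V, ∀ w ∈ V,
      q (x * y * w) = q (x * y) + q (x * w) + q (y * w) + q x + q y + q w)
    (hnd : ∀ x ∈ V, x ≠ 1 → ∃ y ∈ V, q (x * y) ≠ q x + q y)
    (hgen : V ≤ Subgroup.closure {u | u ∈ V ∧ q u = 0})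
    (hinv : ∀ g : X, ∀ x ∈ V, g * x * g⁻¹ ∈ V → q (g * x * g⁻¹) = q x)
    (hsing : ∀ g : X, ∀ x ∈ V, q x = 0 → g * x * g⁻¹ ∈ P → g * x * g⁻¹ ∈ V)
    (e : X) (hee : e * e = 1) (heV : ∀ g : X, g * e * g⁻¹ ∉ V)
    (hcn : ∀ n ∈ V, q n = 1 → ∀ s ∈ P, s * n = n * s → s ∈ V ∨ s * e ∈ V)
    (hsolv : ∀ u ∈ V, u ≠ 1 → q u = 0 → Group.IsSolvable ↥(Subgroup.centralizer ({u} : Set X)))
    (n : X) (hn : n ∈ V) (hqn : q n = 1) :
    Group.IsSolvable ↥(Subgroup.centralizer ({n} : Set X)) ∧
      Subgroup.centralizer {n} ≤ centralizerPPrimeCore 2 n ⊔ Subgroup.normalizer (V : Set X) := by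
  classical
  set C : Subgroup X := centralizer ({n} : Set X) with hC
  have hVC : V ≤ C := fun a ha => mem_centralizer_singleton_iff.2 (hVc a ha n hn)
  set VC : Subgroup C := V.subgroupOf C with hVCdef
  have hV2g : IsPGroup 2 V := by
    intro x
    refine ⟨1, ?_⟩
    rw [pow_one, pow_two]
    exact Subtype.ext (hV2 x x.2)
  have hVCp : IsPGroup 2 VC := hV2g.comap_of_injective C.subtype C.subtype_injective
  obtain ⟨R, hR⟩ := hVCp.exists_le_sylow
  have hRp : IsPGroup 2 ((R : Subgroup C).map C.subtype) := R.2.map _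
  obtain ⟨T, hT⟩ := hRp.exists_le_sylow
  obtain ⟨g, hg⟩ := MulAction.exists_smul_eq X T P
  have hgR : ∀ s : C, s ∈ R → g * (s : X) * g⁻¹ ∈ P := by
    intro s hs
    rw [← hg]
    exact ⟨s, hT ⟨s, hs, rfl⟩, rfl⟩
  have hVR : ∀ x (hx : x ∈ V), (⟨x, hVC hx⟩ : C) ∈ R := fun x hx => hR hx
  have hgV : ∀ x ∈ V, g * x * g⁻¹ ∈ V := by
    have h1 : V.map (MulAut.conj g).toMonoidHom = V := by
      apply hW.2
      rintro _ ⟨x, hx, rfl⟩
      exact hgR _ (hVR x hx)
    intro x hx
    have h2 : g * x * g⁻¹ ∈ V.map (MulAut.conj g).toMonoidHom := ⟨x, hx, rfl⟩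
    rwa [h1] at h2
  have hgN : g ∈ normalizer (V : Set X) := mem_normalizer_of_forall V hgV
  have hgV' : ∀ x, g * x * g⁻¹ ∈ V → x ∈ V := fun x hx => ((mem_normalizer_iff.1 hgN) x).2 hx
  have hmain := core_case hT2 R VC hR ?_ ?_ ?_ (fun x => q x) hq1 ?_ ?_ ?_ ?_ ?_
    ⟨n, hVC hn⟩ hn ?_ hqn ?_ ?_
  · refine ⟨hmain.1, ?_⟩
    have h1 : C = (⊤ : Subgroup C).map C.subtype := by
      rw [← MonoidHom.range_eq_map, Subgroup.range_subtype]
    rw [h1, ← hmain.2, Subgroup.map_sup, sup_comm]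
    refine sup_le_sup le_rfl ?_
    rintro _ ⟨x, hx, rfl⟩
    apply mem_normalizer_of_forall
    intro y hy
    exact (mem_normalizer_iff.1 hx ⟨y, hVC hy⟩).1 hy
  · rw [← hVcard]
    exact Nat.card_congr (Subgroup.subgroupOfEquivOfLe hVC).toEquiv
  · intro a ha b hb
    exact Subtype.ext (hVc _ ha _ hb)
  · intro a ha
    exact Subtype.ext (hV2 _ ha)
  · intro x hx y hy w hw
    exact hquad _ hx _ hy _ hw
  · intro x hx hx1
    obtain ⟨y, hy, hxy⟩ := hnd _ hx (fun h => hx1 (Subtype.ext h))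
    exact ⟨⟨y, hVC hy⟩, hy, hxy⟩
  · intro x hx
    have h1 : (x : X) ∈ (Subgroup.closure {u : C | u ∈ VC ∧ q u = 0}).map C.subtype := by
      rw [MonoidHom.map_closure]
      refine Subgroup.closure_mono ?_ (hgen hx)
      rintro u ⟨hu, hqu⟩
      exact ⟨⟨u, hVC hu⟩, ⟨hu, hqu⟩, rfl⟩
    obtain ⟨y, hy, hyx⟩ := h1
    have h2 : y = x := Subtype.ext hyx
    rw [← h2]; exact hy
  · intro a x hx hax
    exact hinv _ _ hx hax
  · intro a x hx hqx hax
    apply hgV'
    have h1 := hgR _ hax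
    have e1 : g * ((a * x * a⁻¹ : C) : X) * g⁻¹ = (g * a) * x * (g * a)⁻¹ := by
      push_cast; group
    show g * ((a * x * a⁻¹ : C) : X) * g⁻¹ ∈ V
    rw [e1] at h1 ⊢
    exact hsing _ _ hx hqx h1
  · intro a
    exact Subtype.ext (mem_centralizer_singleton_iff.1 a.2)
  · intro u hu hu1 hqu
    exact solvable_centralizer C u (hsolv _ hu (fun h => hu1 (Subtype.ext h)) hqu)
  · by_cases hall : ∀ s ∈ R, s ∈ VC
    · exact Or.inl hall
    · right
      push Not at hall
      obtain ⟨s, hs, hsV⟩ := hall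
      have hcn' : ∀ s : C, s ∈ R → (s : X) ∈ V ∨ (s : X) * (g⁻¹ * e * g) ∈ V := by
        intro s hs
        have hsn : (s : X) * n = n * s := mem_centralizer_singleton_iff.1 s.2
        rcases hcn (g * n * g⁻¹) (hgV n hn) (by rw [hinv g n hn (hgV n hn)]; exact hqn)
          (g * s * g⁻¹) (hgR s hs) (by
            calc g * (s : X) * g⁻¹ * (g * n * g⁻¹) = g * (s * n) * g⁻¹ := by group
              _ = g * (n * s) * g⁻¹ := by rw [hsn]
              _ = g * n * g⁻¹ * (g * (s : X) * g⁻¹) := by group) with h | h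
        · exact Or.inl (hgV' _ h)
        · right
          apply hgV'
          have e1 : g * ((s : X) * (g⁻¹ * e * g)) * g⁻¹ = g * s * g⁻¹ * e := by group
          rw [e1]; exact h
      have h1 : (s : X) * (g⁻¹ * e * g) ∈ V := (hcn' s hs).resolve_left hsV
      have he'C : g⁻¹ * e * g ∈ C := by
        have h2 := C.mul_mem (C.inv_mem s.2) (hVC h1)
        rwa [inv_mul_cancel_left] at h2
      have he'R : (⟨g⁻¹ * e * g, he'C⟩ : C) ∈ R := by
        have h2 := (R : Subgroup C).mul_mem ((R : Subgroup C).inv_mem hs) (hVR _ h1)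
        have e2 : (⟨g⁻¹ * e * g, he'C⟩ : C) =
            s⁻¹ * ⟨(s : X) * (g⁻¹ * e * g), hVC h1⟩ := by
          apply Subtype.ext
          show g⁻¹ * e * g = (s : X)⁻¹ * ((s : X) * (g⁻¹ * e * g))
          group
        rw [e2]; exact h2
      refine ⟨⟨g⁻¹ * e * g, he'C⟩, he'R, ?_, ?_, ?_⟩
      · apply Subtype.ext
        show g⁻¹ * e * g * (g⁻¹ * e * g) = 1
        calc g⁻¹ * e * g * (g⁻¹ * e * g) = g⁻¹ * (e * e) * g := by group
          _ = 1 := by rw [hee]; group
      · intro c hc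
        have h2 : (c : X) * (g⁻¹ * e * g) * (c : X)⁻¹ ∈ V := hc
        have e1 : (c : X) * (g⁻¹ * e * g) * (c : X)⁻¹ = (c * g⁻¹) * e * (c * g⁻¹)⁻¹ := by group
        rw [e1] at h2
        exact heV _ h2
      · intro s hs
        exact hcn' s hs

/-- Extension of a solvable group by a solvable group (kernel version, range in a solvable
group). -/
theorem solvable_of_map {A B : Type*} [Group A] [Group B] (f : A →* B)
    (hk : Group.IsSolvable f.ker) (hr : Group.IsSolvable B) : Group.IsSolvable A :=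
  Group.isSolvable_of_ker_le_range f.ker.subtype f (by simp)

/-- The automizer of `V`. -/
theorem solvable_automizer
    (hFT : ∀ (K : Type u) [Group K] [Finite K], Odd (Nat.card K) → Group.IsSolvable K)
    (hZ : ∀ (K : Type u) [Group K] [Finite K] (P : Sylow 2 K) (u : K), orderOf u = 2 → u ∈ P →
      (∀ g : K, g * u * g⁻¹ ∈ P → g * u * g⁻¹ = u) →
      ∃ N : Subgroup K, N.Normal ∧ Odd (Nat.card N) ∧ ∀ g : K, (u * g * u⁻¹ * g⁻¹) ∈ N)
    {A : Type u} [Group A] [Finite A] (P : Sylow 2 A) (e : A) (heP : e ∈ P) (he1 : e ≠ 1)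
    (hee : e * e = 1) (huniq : ∀ x ∈ P, x * x = 1 → x ≠ 1 → x = e)
    (hC : Group.IsSolvable ↥(centralizer ({e} : Set A))) : Group.IsSolvable A := by
  have heo : orderOf e = 2 := orderOf_eq_prime (by rw [pow_two]; exact hee) he1
  obtain ⟨N, hN, hNo, hNe⟩ := hZ A P e heo heP (by
    intro g hg
    apply huniq _ hg
    · calc g * e * g⁻¹ * (g * e * g⁻¹) = g * (e * e) * g⁻¹ := by group
        _ = 1 := by rw [hee]; group
    · intro h
      apply he1
      have h1 : e = g⁻¹ * (g * e * g⁻¹) * g := by group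
      rw [h1, h]; group)
  have hNle : N ≤ oddCore A :=
    Lib.Cores.le_pPrimeCore hN (by rw [Nat.coprime_two_right]; exact hNo)
  set Z : Subgroup A := zpowers e with hZdef
  have hZp : IsPGroup 2 Z := by
    rw [IsPGroup.iff_card]
    exact ⟨1, by rw [Nat.card_zpowers, heo, pow_one]⟩
  have hZm : ∀ x ∈ Z, x = 1 ∨ x = e := by
    intro x hx
    rw [hZdef, ← Subgroup.mem_carrier] at hx
    obtain ⟨k, hk⟩ := Subgroup.mem_zpowers_iff.1 hx
    have h2 : e ^ k = e ^ (k % 2) := by
      conv_lhs => rw [← Int.emod_add_mul_ediv k 2]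
      rw [zpow_add, zpow_mul]
      have : e ^ (2 : ℤ) = 1 := by
        rw [show (2 : ℤ) = ((2 : ℕ) : ℤ) from rfl, zpow_natCast, pow_two]; exact hee
      rw [this, one_zpow, mul_one]
    rcases Int.emod_two_eq_zero_or_one k with h | h
    · left; rw [← hk, h2, h, zpow_zero]
    · right; rw [← hk, h2, h, zpow_one]
  have hdec := fun h : A => TwoFusion.IsolatedCenter.exists_eq_mul Z hZp (by
    intro x hx g
    rcases hZm x hx with rfl | rfl
    · simp [(oddCore A).one_mem]
    · exact hNle (hNe g)) h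
  have hOn : (oddCore A).Normal := Lib.Cores.pPrimeCore_normal 2
  have hOs : Group.IsSolvable (oddCore A) := hFT _ (by
    have h := Lib.Cores.pPrimeCore_coprime (G := A) 2
    rwa [Nat.coprime_two_right] at h)
  have hQs : Group.IsSolvable (A ⧸ oddCore A) := by
    have := hC
    let φ : centralizer ({e} : Set A) →* A ⧸ oddCore A :=
      (QuotientGroup.mk' (oddCore A)).comp (centralizer ({e} : Set A)).subtype
    refine Group.isSolvable_of_surjective (f := φ) ?_
    intro x
    obtain ⟨a, rfl⟩ := QuotientGroup.mk'_surjective (oddCore A) x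
    obtain ⟨o, ho, c, hc, hoc⟩ := hdec a
    have hce : c ∈ centralizer ({e} : Set A) := by
      rw [mem_centralizer_singleton_iff]
      exact (mem_centralizer_iff.1 hc e (mem_zpowers e)).symm
    refine ⟨⟨c, hce⟩, ?_⟩
    show QuotientGroup.mk' (oddCore A) c = QuotientGroup.mk' (oddCore A) a
    rw [hoc, map_mul]
    have : QuotientGroup.mk' (oddCore A) o = 1 := (QuotientGroup.eq_one_iff o).2 ho
    rw [this, one_mul]
  exact (Group.isSolvable_iff_subgroup_quotient (H := oddCore A)).2 ⟨hOs, hQs⟩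

/-- The automorphism group of a group of order four is solvable. -/
theorem solvable_mulAut_four {L : Type*} [Group L] (hL : Nat.card L = 4) :
    Group.IsSolvable (MulAut L) := by
  have hfin : Finite L := Nat.finite_of_card_ne_zero (by rw [hL]; norm_num)
  have h1 : Group.IsSolvable (Equiv.Perm L) := by
    refine Cfsg.Agent.S0061.result 2 3 3 Nat.prime_two Nat.prime_three ?_
    rw [Nat.card_perm, hL]
    decide
  have hinj : Function.Injective (MulAut.toPerm L) := by
    intro a b hab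
    ext x
    exact congrArg (fun f : Equiv.Perm L => f x) hab
  exact Group.isSolvable_of_isSolvable_injective hinj

/-- `N(L)` is solvable if `|L| = 4` and the centralizer of some `u ∈ L` is. -/
theorem solvable_normalizer_four {X : Type*} [Group X] (L : Subgroup X) (hL : Nat.card L = 4)
    {u : X} (hu : u ∈ L) (hs : Group.IsSolvable ↥(centralizer ({u} : Set X))) :
    Group.IsSolvable ↥(normalizer (L : Set X)) := by
  refine solvable_of_map L.normalizerMonoidHom ?_ (solvable_mulAut_four hL)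
  have hmem : ∀ x : L.normalizerMonoidHom.ker, ((normalizer (L : Set X)).subtype.comp
      L.normalizerMonoidHom.ker.subtype) x ∈ centralizer ({u} : Set X) := by
    intro x
    have h0 : ∀ y ∈ L.normalizerMonoidHom.ker, (y : X) ∈ centralizer (L : Set X) := by
      rw [normalizerMonoidHom_ker]
      exact fun y hy => hy
    have h1 := mem_centralizer_iff.1 (h0 x.1 x.2) u hu
    rw [mem_centralizer_singleton_iff]
    exact h1.symm
  let f : L.normalizerMonoidHom.ker →* centralizer ({u} : Set X) :=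
    ((normalizer (L : Set X)).subtype.comp L.normalizerMonoidHom.ker.subtype).codRestrict _ hmem
  have hf : Function.Injective f := by
    intro x y hxy
    have h1 : ((f x : centralizer ({u} : Set X)) : X) = f y := by rw [hxy]
    exact Subtype.ext (Subtype.ext h1)
  exact Group.isSolvable_of_isSolvable_injective hf

/-- `N(V)` is solvable. -/
theorem solvable_normalizer
    (hFT : ∀ (K : Type u) [Group K] [Finite K], Odd (Nat.card K) → Group.IsSolvable K)
    (hZ : ∀ (K : Type u) [Group K] [Finite K] (P : Sylow 2 K) (u : K), orderOf u = 2 → u ∈ P →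
      (∀ g : K, g * u * g⁻¹ ∈ P → g * u * g⁻¹ = u) →
      ∃ N : Subgroup K, N.Normal ∧ Odd (Nat.card N) ∧ ∀ g : K, (u * g * u⁻¹ * g⁻¹) ∈ N)
    {X : Type u} [Group X] [Finite X] (P : Sylow 2 X) (V L : Subgroup X)
    (hVc : ∀ a ∈ V, ∀ b ∈ V, a * b = b * a) (hPN : (P : Subgroup X) ≤ normalizer (V : Set X))
    (e : X) (heP : e ∈ P) (hee : e * e = 1)
    (hmod : ∀ g ∈ P, g ∉ V → g * e ∈ V ∨ g * g * e ∈ V)
    {z : X} (hz : z ∈ V) (hzs : Group.IsSolvable ↥(centralizer ({z} : Set X)))
    (hLcard : Nat.card L = 4)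
    (hLs : ∀ u ∈ L, u ≠ 1 → Group.IsSolvable ↥(centralizer ({u} : Set X)))
    (hL : ∀ l, l ∈ L ↔ ∃ v ∈ V, l = v * e * v⁻¹ * e⁻¹) :
    Group.IsSolvable ↥(normalizer (V : Set X)) := by
  classical
  set K : Subgroup X := normalizer (V : Set X) with hK
  let f : K →* MulAut V := V.normalizerMonoidHom
  have hfa : ∀ (k : K) (v : V), ((f k v : V) : X) = k * v * (k : X)⁻¹ := fun k v => rfl
  have hker : ∀ k : K, f k = 1 ↔ ∀ v ∈ V, (k : X) * v = v * k := by
    intro k
    constructor
    · intro h v hv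
      have h1 := hfa k ⟨v, hv⟩
      rw [h] at h1
      have h2 : v = k * v * (k : X)⁻¹ := h1
      rw [eq_mul_inv_iff_mul_eq] at h2
      exact h2.symm
    · intro h
      ext v
      rw [hfa, h v v.2]
      show (v : X) * k * (k : X)⁻¹ = v
      group
  have hVtriv : ∀ k : K, (k : X) ∈ V → f k = 1 := fun k hk =>
    (hker k).2 fun v hv => hVc _ hk _ hv
  refine solvable_of_map f.rangeRestrict ?_ ?_
  · -- the kernel
    rw [MonoidHom.ker_rangeRestrict]
    have hmem : ∀ x : f.ker, (K.subtype.comp f.ker.subtype) x ∈ centralizer ({z} : Set X) := by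
      intro x
      rw [mem_centralizer_singleton_iff]
      exact (hker x.1).1 x.2 z hz
    let g : f.ker →* centralizer ({z} : Set X) :=
      (K.subtype.comp f.ker.subtype).codRestrict _ hmem
    have hg : Function.Injective g := by
      intro x y hxy
      have h1 : ((g x : centralizer ({z} : Set X)) : X) = g y := by rw [hxy]
      exact Subtype.ext (Subtype.ext h1)
    exact Group.isSolvable_of_isSolvable_injective hg
  · let PK : Sylow 2 K := P.subtype hPN
    let PA : Sylow 2 f.range := PK.mapSurjective f.rangeRestrict_surjective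
    have heK : e ∈ K := hPN heP
    have hfe1 : f ⟨e, heK⟩ ≠ 1 := by
      intro h
      rw [hker] at h
      have h1 : L = ⊥ := by
        rw [eq_bot_iff]
        intro l hl
        obtain ⟨v, hv, rfl⟩ := (hL l).1 hl
        rw [mem_bot]
        have h2 : e * v = v * e := h v hv
        rw [← h2]; group
      rw [h1, card_bot] at hLcard
      norm_num at hLcard
    have hfee : f ⟨e, heK⟩ * f ⟨e, heK⟩ = 1 := by
      rw [← map_mul]
      have : (⟨e, heK⟩ : K) * ⟨e, heK⟩ = 1 := Subtype.ext hee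
      rw [this, map_one]
    refine solvable_automizer hFT hZ PA (f.rangeRestrict ⟨e, heK⟩) ⟨⟨e, heK⟩, heP, rfl⟩ ?_ ?_ ?_ ?_
    · intro h
      exact hfe1 (congrArg Subtype.val h)
    · exact Subtype.ext hfee
    · rintro _ ⟨p, hp, rfl⟩ hxx hx1
      have hpp : f p * f p = 1 := congrArg Subtype.val hxx
      have hp1 : f p ≠ 1 := fun h => hx1 (Subtype.ext h)
      have hpV : (p : X) ∉ V := fun h => hp1 (hVtriv p h)
      have hpP : (p : X) ∈ P := hp
      apply Subtype.ext
      show f p = f ⟨e, heK⟩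
      rcases hmod p hpP hpV with h | h
      · have h1 : f (p * ⟨e, heK⟩) = 1 := hVtriv _ h
        rw [map_mul] at h1
        rw [eq_inv_of_mul_eq_one_left h1, inv_eq_of_mul_eq_one_left hfee]
      · exfalso
        have h1 : f (p * p * ⟨e, heK⟩) = 1 := hVtriv _ h
        rw [map_mul, map_mul, hpp, one_mul] at h1
        exact hfe1 h1
    · -- the centralizer
      set B : Subgroup K := (centralizer ({f.rangeRestrict ⟨e, heK⟩} : Set f.range)).comap
        f.rangeRestrict with hB
      have hBe : ∀ k : K, k ∈ B → ∀ v ∈ V, (k * e * (k : X)⁻¹) * v * (k * e * (k : X)⁻¹)⁻¹ =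
          e * v * e⁻¹ := by
        intro k hk v hv
        have h1 : f k * f ⟨e, heK⟩ = f ⟨e, heK⟩ * f k :=
          congrArg Subtype.val (mem_centralizer_singleton_iff.1 (mem_comap.1 hk))
        have h2 : f (k * ⟨e, heK⟩ * k⁻¹) = f ⟨e, heK⟩ := by
          rw [map_mul, map_mul, h1, map_inv, mul_inv_cancel_right]
        have h3 := hfa (k * ⟨e, heK⟩ * k⁻¹) ⟨v, hv⟩
        rw [h2, hfa] at h3
        exact h3.symm
      have hBL : ∀ k : K, k ∈ B → ∀ l ∈ L, (k : X) * l * (k : X)⁻¹ ∈ L := by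
        intro k hk l hl
        obtain ⟨v, hv, rfl⟩ := (hL l).1 hl
        rw [hL]
        have hkv : (k : X) * v * (k : X)⁻¹ ∈ V := (mem_normalizer_iff.1 k.2 v).1 hv
        refine ⟨(k : X) * v * (k : X)⁻¹, hkv, ?_⟩
        have h1 := hBe k hk _ (V.inv_mem hkv)
        calc (k : X) * (v * e * v⁻¹ * e⁻¹) * (k : X)⁻¹
            = ((k : X) * v * (k : X)⁻¹) * ((k * e * (k : X)⁻¹) * ((k : X) * v * (k : X)⁻¹)⁻¹ *
              (k * e * (k : X)⁻¹)⁻¹) := by group
          _ = ((k : X) * v * (k : X)⁻¹) * (e * ((k : X) * v * (k : X)⁻¹)⁻¹ * e⁻¹) := by rw [h1]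
          _ = _ := by group
      obtain ⟨u, hu, hu1⟩ : ∃ u ∈ L, u ≠ 1 := by
        by_contra hcon
        push Not at hcon
        have h1 : L = ⊥ := by
          rw [eq_bot_iff]
          intro l hl
          rw [mem_bot]; exact hcon l hl
        rw [h1, card_bot] at hLcard
        norm_num at hLcard
      have hNL := solvable_normalizer_four L hLcard hu (hLs u hu hu1)
      have hBs : Group.IsSolvable B := by
        have hmem : ∀ x : B, (K.subtype.comp B.subtype) x ∈ normalizer (L : Set X) := by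
          intro x
          exact mem_normalizer_of_forall L (hBL x.1 x.2)
        let g : B →* normalizer (L : Set X) := (K.subtype.comp B.subtype).codRestrict _ hmem
        have hg : Function.Injective g := by
          intro x y hxy
          have h1 : ((g x : normalizer (L : Set X)) : X) = g y := by rw [hxy]
          exact Subtype.ext (Subtype.ext h1)
        exact Group.isSolvable_of_isSolvable_injective hg
      have hmem : ∀ x : B, (f.rangeRestrict.comp B.subtype) x ∈
          centralizer ({f.rangeRestrict ⟨e, heK⟩} : Set f.range) := fun x => x.2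
      let g : B →* centralizer ({f.rangeRestrict ⟨e, heK⟩} : Set f.range) :=
        (f.rangeRestrict.comp B.subtype).codRestrict _ hmem
      refine Group.isSolvable_of_surjective (f := g) ?_
      rintro ⟨x, hx⟩
      obtain ⟨k, rfl⟩ := f.rangeRestrict_surjective x
      exact ⟨⟨k, hx⟩, rfl⟩

/-- **Step (5')**, with the Odd Order theorem, the Z*-theorem and T2 as hypotheses. -/
theorem isSolvable_of
    (hFT : ∀ (K : Type u) [Group K] [Finite K], Odd (Nat.card K) → Group.IsSolvable K)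
    (hZ : ∀ (K : Type u) [Group K] [Finite K] (P : Sylow 2 K) (u : K), orderOf u = 2 → u ∈ P →
      (∀ g : K, g * u * g⁻¹ ∈ P → g * u * g⁻¹ = u) →
      ∃ N : Subgroup K, N.Normal ∧ Odd (Nat.card N) ∧ ∀ g : K, (u * g * u⁻¹ * g⁻¹) ∈ N)
    (hT2 : FormSolv.{u})
    {X : Type u} [Group X] [Finite X] (P : Sylow 2 X) (V L : Subgroup X)
    (hVP : V ≤ P) (hVcard : Nat.card V = 64)
    (hVc : ∀ a ∈ V, ∀ b ∈ V, a * b = b * a) (hV2 : ∀ a ∈ V, a * a = 1)
    (hW : IsWeaklyClosed V (P : Subgroup X)) (q : X → ZMod 2) (hq1 : q 1 = 0)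
    (hquad : ∀ x ∈ V, ∀ y ∈ V, ∀ w ∈ V,
      q (x * y * w) = q (x * y) + q (x * w) + q (y * w) + q x + q y + q w)
    (hnd : ∀ x ∈ V, x ≠ 1 → ∃ y ∈ V, q (x * y) ≠ q x + q y)
    (hgen : V ≤ Subgroup.closure {u | u ∈ V ∧ q u = 0})
    (hinv : ∀ g : X, ∀ x ∈ V, g * x * g⁻¹ ∈ V → q (g * x * g⁻¹) = q x)
    (hsing : ∀ g : X, ∀ x ∈ V, q x = 0 → g * x * g⁻¹ ∈ P → g * x * g⁻¹ ∈ V)
    (e : X) (heP : e ∈ P) (hee : e * e = 1) (heV : ∀ g : X, g * e * g⁻¹ ∉ V)
    (hmod : ∀ g ∈ P, g ∉ V → g * e ∈ V ∨ g * g * e ∈ V)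
    (hcn : ∀ n ∈ V, q n = 1 → ∀ s ∈ P, s * n = n * s → s ∈ V ∨ s * e ∈ V)
    (hcenter : ∀ x ∈ P, (∀ g ∈ P, g * x = x * g) → x ∈ V ∧ q x = 0)
    (hsolv : ∀ u ∈ V, u ≠ 1 → q u = 0 → Group.IsSolvable ↥(Subgroup.centralizer ({u} : Set X)))
    (hnorm : ∀ u ∈ V, u ≠ 1 → q u = 0 →
      Subgroup.centralizer {u} ≤ centralizerPPrimeCore 2 u ⊔ Subgroup.normalizer (V : Set X))
    (hLV : L ≤ V) (hLcard : Nat.card L = 4) (hLq : ∀ u ∈ L, q u = 0)
    (hL : ∀ l, l ∈ L ↔ ∃ v ∈ V, l = v * e * v⁻¹ * e⁻¹) : Group.IsSolvable X := by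
  classical
  have hns := nonsingular hT2 P V hVcard hVc hV2 hW q hq1 hquad hnd hgen hinv hsing e hee heV hcn
    hsolv
  have h01 : ∀ a : ZMod 2, a = 0 ∨ a = 1 := by decide
  have hPN : (P : Subgroup X) ≤ normalizer (V : Set X) := by
    intro g hg
    have h1 : V.map (MulAut.conj g).toMonoidHom = V := by
      apply hW.2
      rintro _ ⟨x, hx, rfl⟩
      exact (P : Subgroup X).mul_mem ((P : Subgroup X).mul_mem hg (hVP hx))
        ((P : Subgroup X).inv_mem hg)
    apply mem_normalizer_of_forall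
    intro x hx
    have h2 : g * x * g⁻¹ ∈ V.map (MulAut.conj g).toMonoidHom := ⟨x, hx, rfl⟩
    rwa [h1] at h2
  -- a central involution of `P`
  obtain ⟨z, hzP, hzc, hz1⟩ : ∃ z ∈ P, (∀ g ∈ P, g * z = z * g) ∧ z ≠ 1 := by
    have hnt : Nontrivial (P : Subgroup X) := by
      rw [Subgroup.nontrivial_iff_ne_bot]
      intro h
      rw [h, le_bot_iff] at hVP
      rw [hVP, card_bot] at hVcard
      norm_num at hVcard
    obtain ⟨z, hz⟩ := (Subgroup.nontrivial_iff_exists_ne_one _).1 P.2.center_nontrivial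
    refine ⟨z, z.2, ?_, ?_⟩
    · intro g hg
      exact congrArg Subtype.val (Subgroup.mem_center_iff.1 hz.1 ⟨g, hg⟩)
    · intro h
      exact hz.2 (Subtype.ext h)
  obtain ⟨hzV, hqz⟩ := hcenter z hzP hzc
  have hzz : z * z = 1 := hV2 z hzV
  -- a nonsingular vector
  obtain ⟨v, hv, hqv⟩ : ∃ v ∈ V, q v = 1 := by
    by_contra hcon
    push Not at hcon
    have h0 : ∀ v ∈ V, q v = 0 := fun v hv => (h01 _).resolve_right (hcon v hv)
    obtain ⟨y, hy, hxy⟩ := hnd z hzV hz1
    apply hxy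
    rw [h0 _ (V.mul_mem hzV hy), h0 _ hzV, h0 _ hy, add_zero]
  have hsolv' : ∀ a ∈ V, a ≠ 1 → Group.IsSolvable ↥(centralizer ({a} : Set X)) := by
    intro a ha ha1
    rcases h01 (q a) with h | h
    · exact hsolv a ha ha1 h
    · exact (hns a ha h).1
  have htop : pPrimeCore 2 X ⊔ normalizer (V : Set X) = ⊤ := by
    refine R15.NormalElem.sup_normalizer_eq_top P V hW hVc hV2 (by rw [hVcard]; norm_num) ?_
      (z := z) (v := v) hzP ?_ hzz hz1 hv ?_ ?_ hsolv' ?_
    · intro x hxx hxc hxP g hg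
      obtain ⟨h1, h2⟩ := hcenter x hxP (fun g hg => mem_centralizer_singleton_iff.1 (hxc hg))
      exact hsing g x h1 h2 hg
    · intro g hg
      exact mem_centralizer_singleton_iff.2 (hzc g hg)
    · rintro rfl
      rw [hq1] at hqv
      exact absurd hqv (by decide)
    · intro g hg
      have h1 := hinv g z hzV (by rw [hg]; exact hv)
      rw [hg, hqv, hqz] at h1
      exact absurd h1 (by decide)
    · intro a ha ha1
      rcases h01 (q a) with h | h
      · exact hnorm a ha ha1 h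
      · exact (hns a ha h).2
  have hNs := solvable_normalizer hFT hZ P V L hVc hPN e heP hee hmod hzV (hsolv z hzV hz1 hqz)
    hLcard (fun u hu hu1 => hsolv u (hLV hu) hu1 (hLq u hu)) hL
  have hOn : (pPrimeCore 2 X).Normal := Lib.Cores.pPrimeCore_normal 2
  have hOs : Group.IsSolvable (pPrimeCore 2 X) := hFT _ (by
    have h := Lib.Cores.pPrimeCore_coprime (G := X) 2
    rwa [Nat.coprime_two_right] at h)
  have hQs : Group.IsSolvable (X ⧸ pPrimeCore 2 X) := by
    let φ : normalizer (V : Set X) →* X ⧸ pPrimeCore 2 X :=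
      (QuotientGroup.mk' (pPrimeCore 2 X)).comp (normalizer (V : Set X)).subtype
    refine Group.isSolvable_of_surjective (f := φ) ?_
    intro x
    obtain ⟨a, rfl⟩ := QuotientGroup.mk'_surjective (pPrimeCore 2 X) x
    have ha : a ∈ pPrimeCore 2 X ⊔ normalizer (V : Set X) := by rw [htop]; exact mem_top a
    obtain ⟨o, ho, c, hc, rfl⟩ := Subgroup.mem_sup_of_normal_left.1 ha
    refine ⟨⟨c, hc⟩, ?_⟩
    show QuotientGroup.mk' (pPrimeCore 2 X) c = QuotientGroup.mk' (pPrimeCore 2 X) (o * c)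
    rw [map_mul]
    have : QuotientGroup.mk' (pPrimeCore 2 X) o = 1 := (QuotientGroup.eq_one_iff o).2 ho
    rw [this, one_mul]
  exact (Group.isSolvable_iff_subgroup_quotient (H := pPrimeCore 2 X)).2 ⟨hOs, hQs⟩

end Cfsg.Agent.SylowU5.CentSolvCore
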