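import Mathlib
import Cfsg.Agent.SylowU5.Fus
import Cfsg.Agent.Classification.NonComponent
import Cfsg.Agent.Classification.LocalCore
import Cfsg.Agent.SignalizersComponents.PConstrained
import Cfsg.Agent.S1396
import Cfsg.Agent.S0502
import Cfsg.Agent.S1225

/-! Step (3') of S0513: the cores of the centralizers of the involutions are trivial. -/

set_option autoImplicit false
set_option linter.style.haveILetI false

namespace Cfsg.Agent.SylowU5.Cores

universe u

open Cfsg
open Cfsg.Agent.SylowU5.Basic Cfsg.Agent.SylowU5.Elem Cfsg.Agent.SylowU5.SolvT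
  Cfsg.Agent.SylowU5.Fus
open scoped Pointwise

variable {G : Type u} [Group G] [Finite G] {T : Sylow 2 G} {h : U5T (T : Subgroup G)}
variable (F : U5Fus T h)

omit [Finite G] in
include F in
theorem dd_conj {i j : Fin 5} (hij : i ≠ j) : ∃ g : G, g * (h.d i * h.d j) * g⁻¹ = h.d 1 * h.d 2 := by
  obtain ⟨π, hπ, h1, h2⟩ := exists_perm_two i j hij
  obtain ⟨n, -, hn⟩ := F.E_alt π (Equiv.Perm.mem_alternatingGroup.mpr hπ)
  refine ⟨n, ?_⟩
  calc n * (h.d i * h.d j) * n⁻¹ = (n * h.d i * n⁻¹) * (n * h.d j * n⁻¹) := by group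
    _ = h.d 1 * h.d 2 := by rw [hn, hn, h1, h2]

include F in
/-- every involution is conjugate to `d 0` or to `d 1 * d 2` -/
theorem invol_cases {s : G} (hs : s * s = 1) (hs1 : s ≠ 1) :
    s ∈ D h ∨ ∃ g : G, g * s * g⁻¹ = h.d 1 * h.d 2 := by
  have hp : IsPGroup 2 ↥(Subgroup.zpowers s ⊔ Subgroup.zpowers s) := isPGroup_pair hs hs rfl
  obtain ⟨g, hg⟩ := exists_conj_mem T _ hp
  have h1 := hg s (Subgroup.mem_sup_left (Subgroup.mem_zpowers s))
  set s' := g * s * g⁻¹ with hs'
  have hs'2 : s' * s' = 1 := by
    calc s' * s' = g * (s * s) * g⁻¹ := by rw [hs']; group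
      _ = 1 := by rw [hs]; group
  have hs'1 : s' ≠ 1 := by
    intro h2
    apply hs1
    have : s = g⁻¹ * s' * g := by rw [hs']; group
    rw [this, h2]; group
  rcases h.invol s' h1 hs'2 with hE | hQ
  · rcases h.E_cases s' hE with h2 | ⟨i, hi⟩ | ⟨i, j, hij, hx⟩
    · exact absurd h2 hs'1
    · left
      apply D_of_conj h g
      rw [← hs', hi]
      exact d_mem_D F i
    · right
      obtain ⟨k, hk⟩ := dd_conj F hij
      exact ⟨k * g, by rw [conj_mul_eq, ← hs', hx, hk]⟩
  · by_cases h2 : s' = h.d 0
    · left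
      apply D_of_conj h g
      rw [← hs', h2]
      exact z_mem_D h
    · right
      obtain ⟨c, -, hc⟩ := F.u_fus s' hQ hs'2 hs'1 h2
      exact ⟨c * g, by rw [conj_mul_eq, ← hs', hc]⟩

include F in
theorem solvable_invol (hZ : Cfsg.Agent.R01.Closing.ZStar.{u}) (hFT : OddOrder.{u}) {s : G}
    (hs : s * s = 1) (hs1 : s ≠ 1) : Group.IsSolvable ↥(Subgroup.centralizer ({s} : Set G)) := by
  rcases invol_cases F hs hs1 with h1 | ⟨g, hg⟩
  · exact solvable_D F h1
  · have h2 := solvable_conj _ g⁻¹ (solvable_t F hZ hFT)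
    have h3 : g⁻¹ * (h.d 1 * h.d 2) * g⁻¹⁻¹ = s := by rw [← hg]; group
    rwa [h3] at h2

omit [Finite G] in
/-- `E` is elementary abelian -/
theorem isElementaryAbelian_E : IsElementaryAbelian 2 h.E :=
  ⟨IsMulCommutative.of_setLike_mul_comm fun _ ha _ hb => E_comm h ha hb,
    fun a ha => by rw [sq]; exact h.E_sq a ha⟩

omit [Finite G] in
theorem sq_eq_of_order {s : G} (hs : orderOf s = 2) : s * s = 1 ∧ s ≠ 1 := by
  refine ⟨?_, ?_⟩
  · rw [← sq, ← hs]; exact pow_orderOf_eq_one s
  · rintro rfl
    rw [orderOf_one] at hs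
    norm_num at hs

theorem fourConnected (h : U5T (T : Subgroup G)) : IsFourConnected (T : Subgroup G) := by
  have hET : h.E ≤ (T : Subgroup G) := E_le_T h
  haveI hn : (h.E.subgroupOf (T : Subgroup G)).Normal := by
    constructor
    intro x hx g
    rw [Subgroup.mem_subgroupOf] at hx ⊢
    exact conj_mem_E h g.2 hx
  refine Cfsg.Agent.S0502.result (isPGroup_T h) (h.E.subgroupOf (T : Subgroup G)) ?_ ?_ ?_
  · refine IsMulCommutative.of_setLike_mul_comm fun a ha b hb => ?_
    rw [Subgroup.mem_subgroupOf] at ha hb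
    exact Subtype.ext (E_comm h ha hb)
  · intro e he
    rw [Subgroup.mem_subgroupOf] at he
    rw [sq]
    exact Subtype.ext (h.E_sq e he)
  · have : Nat.card (h.E.subgroupOf (T : Subgroup G)) = Nat.card h.E :=
      Nat.card_congr (Subgroup.subgroupOfEquivOfLe hET).toEquiv
    rw [this, h.card_E]
    norm_num

include F in
/-- the cores of the centralizers of the involutions of `E` are trivial -/
theorem core_eq_bot [IsSimpleGroup G] (hZ : Cfsg.Agent.R01.Closing.ZStar.{u}) (hFT : OddOrder.{u})
    {a : G} (ha : a ∈ h.E) (ha1 : a ≠ 1) : centralizerPPrimeCore 2 a = ⊥ := by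
  classical
  haveI h2 : Fact (Nat.Prime 2) := ⟨Nat.prime_two⟩
  have hsolvC : ∀ t : G, orderOf t = 2 → Group.IsSolvable ↥(Subgroup.centralizer ({t} : Set G)) :=
    fun t ht => solvable_invol F hZ hFT (sq_eq_of_order ht).1 (sq_eq_of_order ht).2
  have hsolv : ∀ t : G, orderOf t = 2 → Group.IsSolvable ↥(centralizerPPrimeCore 2 t) := by
    intro t ht
    haveI := hsolvC t ht
    exact Group.isSolvable_of_isSolvable_injective
      (f := Subgroup.inclusion (Dichotomy.CoreTools.core_le 2 t)) (Subgroup.inclusion_injective _)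
  have hL : ∀ t : G, orderOf t = 2 → pLayer 2 ↥(Subgroup.centralizer ({t} : Set G)) = ⊥ := by
    intro t ht
    haveI := hsolvC t ht
    exact (Cfsg.Agent.SignalizersComponents.PConstrained.isPConstrained_iff_pLayer_eq_bot 2).mp
      (Cfsg.Agent.S1396.isPConstrained_of_solvable 2)
  have hconn := fourConnected h
  have hE3 : 2 ^ 3 ≤ Nat.card h.E := by rw [h.card_E]; norm_num
  have hEE := isElementaryAbelian_E (h := h)
  -- a four-subgroup of `E`
  obtain ⟨V, hVE, hV⟩ := Cfsg.Agent.S0520.exists_kleinFour (Q := h.E) (by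
    intro h1
    have h3 := h1 ⊤ ?_ ?_
    · rw [Subgroup.card_top, h.card_E] at h3
      norm_num at h3
    · refine IsMulCommutative.of_setLike_mul_comm fun a _ b _ => ?_
      exact Subtype.ext (E_comm h a.2 b.2)
    · intro b _
      rw [sq]
      exact Subtype.ext (h.E_sq b b.2))
  have hVE2 : 2 ^ 2 ≤ Nat.card V := by rw [hV.card_four]; norm_num
  have hWeq := Classification.NonComponent.W_eq_of_le hsolv hL hEE hE3 hVE hVE2
  -- the normalizer of `W` is everything
  have htop : Subgroup.normalizer (Classification.NonComponent.W V : Set G) = ⊤ := by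
    by_contra hne
    have hse := Classification.NonComponent.stronglyEmbedded hsolv hL T hconn (E_le_T h) hEE hE3 hV
      (hVE.trans (E_le_T h)) hne
    set H := Subgroup.normalizer (Classification.NonComponent.W V : Set G) with hH
    -- an involution outside `H`
    have hall : ∀ a b : G, orderOf a = 2 → orderOf b = 2 → IsConj a b := by
      by_cases hout : ∃ u : G, orderOf u = 2 ∧ u ∉ H
      · obtain ⟨u, hu, huH⟩ := hout
        obtain ⟨s, hs⟩ : ∃ s : H, orderOf s = 2 := by
          apply exists_prime_orderOf_dvd_card'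
          exact even_iff_two_dvd.mp hse.2.1
        have hs' : orderOf (s : G) = 2 := by rw [Subgroup.orderOf_coe]; exact hs
        exact (Cfsg.Agent.S1225.result H hse u hu huH s s hs' s.2 hs' s.2).2
      · -- all involutions in `H`: the subgroup they generate is normal, so everything
        exfalso
        push Not at hout
        have hcl : Subgroup.closure {x : G | orderOf x = 2} ≤ H := by
          rw [Subgroup.closure_le]
          exact fun x hx => hout x hx
        haveI hN : (Subgroup.closure {x : G | orderOf x = 2}).Normal := by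
          apply Subgroup.Normal.mk
          intro x hx g
          have h1 : Subgroup.closure {x : G | orderOf x = 2} ≤
              (Subgroup.closure {x : G | orderOf x = 2}).comap (MulAut.conj g).toMonoidHom := by
            rw [Subgroup.closure_le]
            intro y hy
            apply Subgroup.subset_closure
            change orderOf (g * y * g⁻¹) = 2
            have h4 : orderOf ((MulAut.conj g).toMonoidHom y) = orderOf y :=
              orderOf_injective _ (MulAut.conj g).injective y
            exact h4.trans hy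
          exact h1 hx
        rcases hN.eq_bot_or_eq_top with h1 | h1
        · have h3 : h.d 0 ∈ (⊥ : Subgroup G) := by
            rw [← h1]
            exact Subgroup.subset_closure (d_order h 0)
          exact h.d_ne_one 0 (Subgroup.mem_bot.mp h3)
        · exact hne (top_le_iff.mp (h1 ▸ hcl))
    have hconj := hall (h.d 0) (h.d 1 * h.d 2) (d_order h 0) (dd_order h (by decide))
    obtain ⟨c, hc⟩ := isConj_iff.mp hconj
    exact dd_not_mem_D F (i := 1) (j := 2) (by decide) ⟨c, hc.symm⟩
  -- so `W` is normal of odd order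
  have hnormal : (Classification.NonComponent.W V).Normal := Subgroup.normalizer_eq_top_iff.mp htop
  rcases hnormal.eq_bot_or_eq_top with h1 | h1
  · rw [eq_bot_iff, ← h1, hWeq]
    exact Classification.NonComponent.le_W ha ha1
  · exfalso
    have h3 := Classification.NonComponent.not_dvd_W hsolv hL hEE hE3
    rw [← hWeq, h1, Subgroup.card_top] at h3
    apply h3
    rw [← d_order h 0]
    exact orderOf_dvd_natCard _

include F in
/-- the centralizer of an involution of `E` has characteristic two -/
theorem char_two [IsSimpleGroup G] (hZ : Cfsg.Agent.R01.Closing.ZStar.{u}) (hFT : OddOrder.{u})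
    {a : G} (ha : a ∈ h.E) (ha1 : a ≠ 1) :
    Subgroup.centralizer (pCore 2 ↥(Subgroup.centralizer ({a} : Set G)) :
      Set ↥(Subgroup.centralizer ({a} : Set G))) ≤ pCore 2 ↥(Subgroup.centralizer ({a} : Set G)) := by
  haveI h2 : Fact (Nat.Prime 2) := ⟨Nat.prime_two⟩
  haveI := solvable_invol F hZ hFT (h.E_sq a ha) ha1
  apply Classification.LocalCore.centralizer_pCore_le
  exact (Subgroup.map_eq_bot_iff_of_injective _ (Subgroup.subtype_injective _)).1
    (core_eq_bot F hZ hFT ha ha1)

end Cfsg.Agent.SylowU5.Cores
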