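import Mathlib
import Cfsg.Agent.SylowU5.Cores
import Cfsg.Agent.S0015

/-! Step (4), first half: `O_2(C(z)) = Q`, `E` normal in `C(t)`. -/

set_option autoImplicit false
set_option linter.style.haveILetI false

namespace Cfsg.Agent.SylowU5.CharTwo

universe u

open Cfsg
open Cfsg.Agent.SylowU5.Basic Cfsg.Agent.SylowU5.Elem Cfsg.Agent.SylowU5.SolvT
  Cfsg.Agent.SylowU5.Fus Cfsg.Agent.SylowU5.Cores

section general

variable {G : Type u} [Group G] [Finite G]

/-- `O_2(C_G(a))` as a subgroup of `G` -/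
def OC (a : G) : Subgroup G :=
  (pCore 2 ↥(Subgroup.centralizer ({a} : Set G))).map (Subgroup.centralizer ({a} : Set G)).subtype

omit [Finite G] in
theorem OC_le (a : G) : OC a ≤ Subgroup.centralizer ({a} : Set G) := by
  rintro _ ⟨x, -, rfl⟩
  exact x.2

theorem isPGroup_OC (a : G) : IsPGroup 2 (OC a) :=
  (Cfsg.Agent.Lib.Cores.pCore_isPGroup 2).map _

omit [Finite G] in
theorem conj_mem_OC {a c x : G} (hc : c ∈ Subgroup.centralizer ({a} : Set G)) (hx : x ∈ OC a) :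
    c * x * c⁻¹ ∈ OC a := by
  obtain ⟨y, hy, rfl⟩ := hx
  haveI := Cfsg.Agent.Lib.Cores.pCore_normal (G := ↥(Subgroup.centralizer ({a} : Set G))) 2
  refine ⟨⟨c, hc⟩ * y * (⟨c, hc⟩)⁻¹, ?_, rfl⟩
  exact Subgroup.Normal.conj_mem this y hy ⟨c, hc⟩

omit [Finite G] in
/-- characteristic two: elements of `C(a)` commuting with `O_2(C(a))` lie in it -/
theorem mem_OC {a : G} (hc2 : Subgroup.centralizer (pCore 2 ↥(Subgroup.centralizer ({a} : Set G)) :
      Set ↥(Subgroup.centralizer ({a} : Set G))) ≤ pCore 2 ↥(Subgroup.centralizer ({a} : Set G)))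
    {x : G} (hx : x ∈ Subgroup.centralizer ({a} : Set G)) (hcomm : ∀ y ∈ OC a, y * x = x * y) :
    x ∈ OC a := by
  refine ⟨⟨x, hx⟩, hc2 ?_, rfl⟩
  rw [Subgroup.mem_centralizer_iff]
  intro y hy
  apply Subtype.ext
  exact hcomm y ⟨y, hy, rfl⟩

/-- a 2-group normalized by a Sylow 2-subgroup of `G` is contained in it -/
theorem le_of_normalized (T : Sylow 2 G) {X : Subgroup G} (hX : IsPGroup 2 X)
    (hn : ∀ g ∈ (T : Subgroup G), ∀ x ∈ X, g * x * g⁻¹ ∈ X) : X ≤ (T : Subgroup G) := by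
  have hle : (T : Subgroup G) ≤ Subgroup.normalizer (X : Set G) := by
    intro g hg
    rw [Subgroup.mem_normalizer_iff]
    intro x
    constructor
    · exact hn g hg x
    · intro hx
      have := hn g⁻¹ (inv_mem hg) _ hx
      have h2 : g⁻¹ * (g * x * g⁻¹) * g⁻¹⁻¹ = x := by group
      rwa [h2] at this
  have hp : IsPGroup 2 ↥((T : Subgroup G) ⊔ X) := IsPGroup.to_sup_of_normal_right' T.isPGroup' hX hle
  have := T.is_maximal' hp le_sup_left
  exact le_sup_right.trans (le_of_eq this)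

end general

variable {G : Type u} [Group G] [Finite G] [IsSimpleGroup G] {T : Sylow 2 G}
  {h : U5T (T : Subgroup G)}

omit [Finite G] [IsSimpleGroup G] in
theorem T_le_z (h : U5T (T : Subgroup G)) :
    (T : Subgroup G) ≤ Subgroup.centralizer ({h.d 0} : Set G) := fun g hg =>
  Subgroup.mem_centralizer_singleton_iff.mpr (h.z_comm g hg)

omit [Finite G] [IsSimpleGroup G] in
theorem exists_u_type (h : U5T (T : Subgroup G)) : ∃ u ∈ h.Q, u * u = 1 ∧ u ∉ h.E := by
  have hne : ¬ (T : Subgroup G) ≤ h.V := by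
    intro hle
    have h1 : h.V = (T : Subgroup G) := le_antisymm h.V_le hle
    have h2 := h.card_V
    rw [h1, h.card_T] at h2
    norm_num at h2
  obtain ⟨g, hg, hgV⟩ := SetLike.not_le_iff_exists.mp hne
  obtain ⟨u, huQ, hu2, hu⟩ := h.exists_u g hg hgV
  refine ⟨u, huQ, hu2, fun huE => hgV ?_⟩
  have h3 : g = (u * g⁻¹)⁻¹ * u := by group
  rw [h3]
  exact h.V.mul_mem (h.V.inv_mem hu) (h.E_le huE)

variable (F : U5Fus T h)

include F in
theorem OC_z_eq (hZ : Cfsg.Agent.R01.Closing.ZStar.{u}) (hFT : OddOrder.{u}) :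
    OC (h.d 0) = h.Q := by
  classical
  haveI h2 : Fact (Nat.Prime 2) := ⟨Nat.prime_two⟩
  have hc2 := char_two F hZ hFT (h.d_mem 0) (h.d_ne_one 0)
  have hzC : h.d 0 ∈ Subgroup.centralizer ({h.d 0} : Set G) :=
    Subgroup.mem_centralizer_singleton_iff.mpr rfl
  have hXT : OC (h.d 0) ≤ (T : Subgroup G) :=
    le_of_normalized T (isPGroup_OC _) (fun g hg x hx => conj_mem_OC (T_le_z h hg) hx)
  have hzX : h.d 0 ∈ OC (h.d 0) := by
    apply mem_OC hc2 hzC
    intro y hy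
    exact Subgroup.mem_centralizer_singleton_iff.mp (OC_le _ hy)
  -- `OC z` is not contained in `<z>`
  have hbig : ∃ y ∈ OC (h.d 0), y ≠ 1 ∧ y ≠ h.d 0 := by
    by_contra hcon
    push Not at hcon
    have hT1 : ∀ g ∈ (T : Subgroup G), g = 1 ∨ g = h.d 0 := by
      intro g hg
      by_cases hg1 : g = 1
      · exact Or.inl hg1
      · right
        apply hcon g _ hg1
        apply mem_OC hc2 (T_le_z h hg)
        intro y hy
        by_cases hy1 : y = 1
        · rw [hy1, one_mul, mul_one]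
        · rw [hcon y hy hy1]
          exact (h.z_comm g hg).symm
    have h3 := hT1 _ (d_mem_T h 1)
    rcases h3 with h3 | h3
    · exact h.d_ne_one 1 h3
    · exact absurd (h.d_inj 1 0 h3) (by decide)
  -- an element of the second centre
  have hsec : ∃ y ∈ OC (h.d 0), y ≠ 1 ∧ y ≠ h.d 0 ∧
      ∀ g ∈ (T : Subgroup G), g * y = y * g ∨ g * y = y * g * h.d 0 := by
    set Z : Subgroup (T : Subgroup G) := Subgroup.center (T : Subgroup G) with hZdef
    have hZmem : ∀ x : (T : Subgroup G), x ∈ Z ↔ (x : G) = 1 ∨ (x : G) = h.d 0 := by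
      intro x
      constructor
      · intro hx
        apply h.center_T x x.2
        intro g hg
        exact congrArg Subtype.val (Subgroup.mem_center_iff.mp hx ⟨g, hg⟩)
      · intro hx
        rw [hZdef, Subgroup.mem_center_iff]
        intro g
        apply Subtype.ext
        rcases hx with hx | hx
        · change (g : G) * (x : G) = (x : G) * (g : G)
          rw [hx, one_mul, mul_one]
        · change (g : G) * (x : G) = (x : G) * (g : G)
          rw [hx]
          exact h.z_comm g g.2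
    haveI hnil : Group.IsNilpotent ((T : Subgroup G) ⧸ Z) := by
      haveI : Group.IsNilpotent (T : Subgroup G) := T.isPGroup'.isNilpotent
      exact Group.nilpotent_of_surjective (QuotientGroup.mk' Z) (QuotientGroup.mk'_surjective Z)
    set X₁ : Subgroup (T : Subgroup G) := (OC (h.d 0)).subgroupOf (T : Subgroup G) with hX₁
    haveI hX₁n : X₁.Normal := by
      constructor
      intro x hx g
      rw [hX₁, Subgroup.mem_subgroupOf] at hx ⊢
      exact conj_mem_OC (T_le_z h g.2) hx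
    haveI hN : (X₁.map (QuotientGroup.mk' Z)).Normal := hX₁n.map _ (QuotientGroup.mk'_surjective Z)
    have hNbot : X₁.map (QuotientGroup.mk' Z) ≠ ⊥ := by
      intro hbot
      obtain ⟨y, hy, hy1, hyz⟩ := hbig
      have h4 : (QuotientGroup.mk' Z) ⟨y, hXT hy⟩ ∈ X₁.map (QuotientGroup.mk' Z) :=
        ⟨⟨y, hXT hy⟩, hy, rfl⟩
      rw [hbot, Subgroup.mem_bot] at h4
      have h5 : (⟨y, hXT hy⟩ : (T : Subgroup G)) ∈ Z := (QuotientGroup.eq_one_iff _).mp h4
      rcases (hZmem _).mp h5 with h6 | h6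
      · exact hy1 h6
      · exact hyz h6
    obtain ⟨w, hw, hw1, hwc⟩ := Cfsg.Agent.S0015.exists_mem_center_of_normal _ hNbot
    obtain ⟨y, hy, rfl⟩ := hw
    have hy' : (y : G) ∈ OC (h.d 0) := hy
    have hyZ : y ∉ Z := fun h5 => hw1 ((QuotientGroup.eq_one_iff y).mpr h5)
    rw [hZmem] at hyZ
    push Not at hyZ
    refine ⟨y, hy', hyZ.1, hyZ.2, ?_⟩
    intro g hg
    have h6 := Subgroup.mem_center_iff.mp hwc ((QuotientGroup.mk' Z) ⟨g, hg⟩)
    rw [← map_mul, ← map_mul] at h6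
    have h7 : (⟨g, hg⟩ * y)⁻¹ * (y * ⟨g, hg⟩) ∈ Z := QuotientGroup.eq.mp h6
    have h8 : ((y : G) * g)⁻¹ * (g * (y : G)) = 1 ∨ ((y : G) * g)⁻¹ * (g * (y : G)) = h.d 0 := by
      have h9 : ((y : G) * g)⁻¹ * (g * (y : G)) =
          (((⟨g, hg⟩ * y)⁻¹ * (y * ⟨g, hg⟩) : (T : Subgroup G)) : G)⁻¹ := by
        simp only [Subgroup.coe_mul, Subgroup.coe_inv]
        group
      rw [h9]
      rcases (hZmem _).mp h7 with h10 | h10
      · left; rw [h10, inv_one]
      · right; rw [h10, d_inv h 0]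
    rcases h8 with h9 | h9
    · left
      exact (inv_mul_eq_one.mp h9).symm
    · right
      rw [← h9]; group
  obtain ⟨y, hyX, hy1, hyz, hyc⟩ := hsec
  obtain ⟨hyE, hyQ⟩ := h.center_two y (hXT hyX) hyc
  -- all noncentral involutions of `Q` lie in `OC z`
  have ht : h.d 1 * h.d 2 ∈ OC (h.d 0) := by
    obtain ⟨c, hc, hc2⟩ := F.u_fus y hyQ (h.E_sq y hyE) hy1 hyz
    rw [← hc2]
    exact conj_mem_OC (Subgroup.mem_centralizer_singleton_iff.mpr hc) hyX
  have hu : ∀ u ∈ h.Q, u * u = 1 → u ∈ OC (h.d 0) := by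
    intro u hu hu2
    by_cases hu1 : u = 1
    · rw [hu1]; exact Subgroup.one_mem _
    by_cases huz : u = h.d 0
    · rw [huz]; exact hzX
    obtain ⟨c, hc, hc2⟩ := F.u_fus u hu hu2 hu1 huz
    have h3 : u = c⁻¹ * (h.d 1 * h.d 2) * c⁻¹⁻¹ := by rw [← hc2]; group
    rw [h3]
    exact conj_mem_OC (Subgroup.inv_mem _ (Subgroup.mem_centralizer_singleton_iff.mpr hc)) ht
  have hQX : h.Q ≤ OC (h.d 0) := by
    apply h.Q_gen.trans
    rw [Subgroup.closure_le]
    rintro u ⟨hu1, hu2, -⟩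
    exact hu u hu1 hu2
  apply le_antisymm _ hQX
  by_contra hcon
  obtain ⟨g, hgX, hgQ⟩ := SetLike.not_le_iff_exists.mp hcon
  have hd1 : h.d 1 ∈ OC (h.d 0) := by
    rcases h.T_mod_Q g (hXT hgX) hgQ with h3 | h3
    · have h4 : h.d 1 = g⁻¹ * (g * h.d 1) := by group
      rw [h4]
      exact Subgroup.mul_mem _ (Subgroup.inv_mem _ hgX) (hQX h3)
    · have h4 : h.d 1 = (g * g)⁻¹ * (g * g * h.d 1) := by group
      rw [h4]
      exact Subgroup.mul_mem _ (Subgroup.inv_mem _ (Subgroup.mul_mem _ hgX hgX)) (hQX h3)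
  have hd : ∀ i, h.d i ∈ OC (h.d 0) := by
    intro i
    by_cases hi : i = 0
    · rw [hi]; exact hzX
    · have h4 : h.d i = h.d 1 * (h.d 1 * h.d i) := by rw [← mul_assoc, d_sq h 1, one_mul]
      rw [h4]
      exact Subgroup.mul_mem _ hd1 (hQX (h.dd_mem_Q 1 i (by decide) hi))
  have hEconj : ∀ c ∈ Subgroup.centralizer ({h.d 0} : Set G), ∀ x ∈ h.E, c * x * c⁻¹ ∈ h.E := by
    intro c hc x hx
    have key : ∀ i, ∃ j, c * h.d i * c⁻¹ = h.d j := by
      intro i
      have h5 := hXT (conj_mem_OC hc (hd i))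
      obtain ⟨k, hk⟩ := d_mem_D F i
      have h6 : c * h.d i * c⁻¹ = (c * k) * h.d 0 * (c * k)⁻¹ := by rw [hk]; group
      rw [h6]
      apply F.z_fus
      rw [← h6]; exact h5
    rcases h.E_cases x hx with h1 | ⟨i, hi⟩ | ⟨i, j, hij, hx1⟩
    · rw [h1, mul_one, mul_inv_cancel]; exact h.E.one_mem
    · obtain ⟨j, hj⟩ := key i
      rw [hi, hj]; exact h.d_mem j
    · obtain ⟨k, hk⟩ := key i
      obtain ⟨l, hl⟩ := key j
      have : c * x * c⁻¹ = (c * h.d i * c⁻¹) * (c * h.d j * c⁻¹) := by rw [hx1]; group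
      rw [this, hk, hl]
      exact dd_mem h k l
  obtain ⟨u, huQ, hu2, huE⟩ := exists_u_type h
  have hu1 : u ≠ 1 := fun h3 => huE (h3 ▸ h.E.one_mem)
  have huz : u ≠ h.d 0 := fun h3 => huE (h3 ▸ h.d_mem 0)
  obtain ⟨c, hc, hct⟩ := F.u_fus u huQ hu2 hu1 huz
  apply huE
  have h3 : u = c⁻¹ * (h.d 1 * h.d 2) * c⁻¹⁻¹ := by rw [← hct]; group
  rw [h3]
  exact hEconj _ (Subgroup.inv_mem _ (Subgroup.mem_centralizer_singleton_iff.mpr hc)) _ (dd_mem h 1 2)

include F in
/-- `Q` is normal in `C(z)` -/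
theorem hQn (hZ : Cfsg.Agent.R01.Closing.ZStar.{u}) (hFT : OddOrder.{u}) (c : G)
    (hc : c * h.d 0 = h.d 0 * c) (q : G) (hq : q ∈ h.Q) : c * q * c⁻¹ ∈ h.Q := by
  rw [← OC_z_eq F hZ hFT] at hq ⊢
  exact conj_mem_OC (Subgroup.mem_centralizer_singleton_iff.mpr hc) hq

end Cfsg.Agent.SylowU5.CharTwo
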