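import Mathlib
import Cfsg.Agent.SylowU5.CharTwo

/-! Step (4), first half: `E` is normal in `C(t)`, `D ∩ C(t) = {d 0, ..., d 4}`. -/

set_option autoImplicit false
set_option linter.style.haveILetI false
set_option linter.unusedSectionVars false

namespace Cfsg.Agent.SylowU5.CharTwoT

universe u

open Cfsg
open Cfsg.Agent.SylowU5.Basic Cfsg.Agent.SylowU5.Elem Cfsg.Agent.SylowU5.SolvT
  Cfsg.Agent.SylowU5.Fus Cfsg.Agent.SylowU5.Cores Cfsg.Agent.SylowU5.CharTwo

section general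

variable {G : Type u} [Group G] {T : Subgroup G} (h : U5T T)

theorem conj_inj {g x y : G} (hxy : g * x * g⁻¹ = g * y * g⁻¹) : x = y :=
  mul_left_cancel (mul_right_cancel hxy)

/-- `T` moves `t = d 1 * d 2` only to `t` and `d 3 * d 4` -/
theorem conj_t {g : G} (hg : g ∈ T) :
    g * (h.d 1 * h.d 2) * g⁻¹ = h.d 1 * h.d 2 ∨ g * (h.d 1 * h.d 2) * g⁻¹ = h.d 3 * h.d 4 := by
  have hmul : g * (h.d 1 * h.d 2) * g⁻¹ = (g * h.d 1 * g⁻¹) * (g * h.d 2 * g⁻¹) := by group
  obtain ⟨i, hi⟩ := h.conj_d g hg 1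
  obtain ⟨j, hj⟩ := h.conj_d g hg 2
  have hz : g * h.d 0 * g⁻¹ = h.d 0 := by rw [h.z_comm g hg, mul_inv_cancel_right]
  have hi0 : i ≠ 0 := by
    rintro rfl
    exact absurd (h.d_inj 1 0 (conj_inj (hi.trans hz.symm))) (by decide)
  have hj0 : j ≠ 0 := by
    rintro rfl
    exact absurd (h.d_inj 2 0 (conj_inj (hj.trans hz.symm))) (by decide)
  have hij : i ≠ j := by
    rintro rfl
    exact absurd (h.d_inj 1 2 (conj_inj (hi.trans hj.symm))) (by decide)
  have hsq : ∀ k, g * (g * h.d k * g⁻¹) * g⁻¹ = h.d k := by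
    intro k
    have h1 := V_comm h (h.sq_mem_V g hg) (h.d_mem k)
    calc g * (g * h.d k * g⁻¹) * g⁻¹ = (g * g * h.d k) * (g * g)⁻¹ := by group
      _ = h.d k := by rw [h1, mul_inv_cancel_right]
  have hfix : ∀ k, k ≠ 0 → g * h.d k * g⁻¹ = h.d k → ∀ l, g * h.d l * g⁻¹ = h.d l := by
    intro k hk hgk l
    have h1 : g ∈ h.V := by
      apply h.cent_d k hk g hg
      rw [mul_inv_eq_iff_eq_mul] at hgk
      exact hgk
    rw [V_comm h h1 (h.d_mem l), mul_inv_cancel_right]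
  have hi' := hsq 1
  rw [hi] at hi'
  have hj' := hsq 2
  rw [hj] at hj'
  -- `hi' : g * d i * g⁻¹ = d 1`, `hj' : g * d j * g⁻¹ = d 2`
  have e1 : i = 1 → j = 2 := by
    intro e
    rw [e] at hi
    exact h.d_inj _ _ (hj.symm.trans (hfix 1 (by decide) hi 2))
  have e2 : j = 2 → i = 1 := by
    intro e
    rw [e] at hj
    exact h.d_inj _ _ (hi.symm.trans (hfix 2 (by decide) hj 1))
  have e3 : i = 2 → j = 1 := by
    intro e
    rw [e] at hi'
    exact h.d_inj _ _ (hj.symm.trans hi')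
  have e4 : j = 1 → i = 2 := by
    intro e
    rw [e] at hj'
    exact h.d_inj _ _ (hi.symm.trans hj')
  rw [hmul, hi, hj]
  have hcase : ∀ i j : Fin 5, i ≠ 0 → j ≠ 0 → i ≠ j → (i = 1 → j = 2) → (j = 2 → i = 1) →
      (i = 2 → j = 1) → (j = 1 → i = 2) → (i = 1 ∧ j = 2) ∨ (i = 2 ∧ j = 1) ∨ (i = 3 ∧ j = 4) ∨
      (i = 4 ∧ j = 3) := by decide
  rcases hcase i j hi0 hj0 hij e1 e2 e3 e4 with ⟨h1, h2⟩ | ⟨h1, h2⟩ | ⟨h1, h2⟩ | ⟨h1, h2⟩
  · rw [h1, h2]; exact Or.inl rfl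
  · rw [h1, h2]; left; exact d_comm h 2 1
  · rw [h1, h2]; exact Or.inr rfl
  · rw [h1, h2]; right; exact d_comm h 4 3

theorem card_cent_t [Finite G] :
    512 ≤ Nat.card ↥(T ⊓ Subgroup.centralizer ({h.d 1 * h.d 2} : Set G)) := by
  classical
  set t := h.d 1 * h.d 2 with ht
  set T₁ : Subgroup G := T ⊓ Subgroup.centralizer ({t} : Set G) with hT₁
  have hmem : ∀ g ∈ T, g * t * g⁻¹ = t → g ∈ T₁ := by
    intro g hg h1
    refine ⟨hg, Subgroup.mem_centralizer_singleton_iff.mpr ?_⟩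
    rw [mul_inv_eq_iff_eq_mul] at h1
    exact h1
  obtain ⟨s, hs⟩ : ∃ s : G, ∀ g ∈ T, g ∈ T₁ ∨ s⁻¹ * g ∈ T₁ := by
    by_cases hex : ∃ s ∈ T, s * t * s⁻¹ = h.d 3 * h.d 4
    · obtain ⟨s, hsT, hs⟩ := hex
      refine ⟨s, fun g hg => ?_⟩
      rcases conj_t h hg with h1 | h1
      · exact Or.inl (hmem g hg h1)
      · right
        apply hmem _ (T.mul_mem (T.inv_mem hsT) hg)
        calc s⁻¹ * g * t * (s⁻¹ * g)⁻¹ = s⁻¹ * (g * t * g⁻¹) * s := by group
          _ = s⁻¹ * (s * t * s⁻¹) * s := by rw [h1, hs]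
          _ = t := by group
    · push Not at hex
      refine ⟨1, fun g hg => Or.inl (hmem g hg ?_)⟩
      rcases conj_t h hg with h1 | h1
      · exact h1
      · exact absurd h1 (hex g hg)
  have hinj : Nat.card T ≤ Nat.card (Bool × T₁) := by
    apply Nat.card_le_card_of_injective
      (fun g : T => if hg : (g : G) ∈ T₁ then (true, (⟨g, hg⟩ : T₁)) else
        (false, ⟨s⁻¹ * g, (hs g g.2).resolve_left hg⟩))
    intro a b hab
    simp only at hab
    split_ifs at hab with h1 h2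
    · apply Subtype.ext
      have h3 : (⟨(a : G), h1⟩ : T₁) = ⟨(b : G), h2⟩ := congrArg Prod.snd hab
      exact congrArg (fun x : T₁ => (x : G)) h3
    · exact absurd (congrArg Prod.fst hab) (by simp)
    · exact absurd (congrArg Prod.fst hab) (by simp)
    · apply Subtype.ext
      rename_i h2
      have h3 : (⟨s⁻¹ * (a : G), (hs a a.2).resolve_left h1⟩ : T₁) =
          ⟨s⁻¹ * (b : G), (hs b b.2).resolve_left h2⟩ := congrArg Prod.snd hab
      exact mul_left_cancel (congrArg (fun x : T₁ => (x : G)) h3)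
  rw [h.card_T, Nat.card_prod, Nat.card_eq_fintype_card, Fintype.card_bool] at hinj
  omega

end general

variable {G : Type u} [Group G] [Finite G] [IsSimpleGroup G] {T : Sylow 2 G}
  {h : U5T (T : Subgroup G)} (F : U5Fus T h)

include F in
theorem OC_t_le : OC (h.d 1 * h.d 2) ≤ (T : Subgroup G) := by
  classical
  haveI h2 : Fact (Nat.Prime 2) := ⟨Nat.prime_two⟩
  set t := h.d 1 * h.d 2 with ht
  set T₁ : Subgroup G := (T : Subgroup G) ⊓ Subgroup.centralizer ({t} : Set G) with hT₁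
  have hT₁p : IsPGroup 2 T₁ := T.isPGroup'.to_le inf_le_left
  have hle : T₁ ≤ Subgroup.normalizer (OC t : Set G) := by
    intro g hg
    rw [Subgroup.mem_normalizer_iff]
    intro x
    constructor
    · exact fun hx => conj_mem_OC hg.2 hx
    · intro hx
      have := conj_mem_OC (Subgroup.inv_mem _ hg.2) hx
      have h2 : g⁻¹ * (g * x * g⁻¹) * g⁻¹⁻¹ = x := by group
      rwa [h2] at this
  have hRp : IsPGroup 2 ↥(T₁ ⊔ OC t) := IsPGroup.to_sup_of_normal_right' hT₁p (isPGroup_OC t) hle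
  set R := T₁ ⊔ OC t with hR
  have hRt : R ≤ Subgroup.centralizer ({t} : Set G) := sup_le inf_le_right (OC_le t)
  obtain ⟨g, hg⟩ := exists_conj_mem T R hRp
  have hcardR : Nat.card R ∣ 1024 := by
    have h1 : R.map (MulAut.conj g).toMonoidHom ≤ (T : Subgroup G) := by
      rintro _ ⟨x, hx, rfl⟩
      exact hg x hx
    have h3 : Nat.card (R.map (MulAut.conj g).toMonoidHom) = Nat.card R :=
      (Nat.card_congr (R.equivMapOfInjective _ (MulAut.conj g).injective).toEquiv).symm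
    rw [← h3, ← h.card_T]
    exact Subgroup.card_dvd_of_le h1
  have hne : Nat.card R ≠ 1024 := by
    intro hcard
    have h1 : R.map (MulAut.conj g).toMonoidHom ≤ (T : Subgroup G) := by
      rintro _ ⟨x, hx, rfl⟩
      exact hg x hx
    have h3 : Nat.card (R.map (MulAut.conj g).toMonoidHom) = Nat.card R :=
      (Nat.card_congr (R.equivMapOfInjective _ (MulAut.conj g).injective).toEquiv).symm
    have h4 : R.map (MulAut.conj g).toMonoidHom = (T : Subgroup G) := by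
      apply Subgroup.eq_of_le_of_card_ge h1
      rw [h3, hcard, h.card_T]
    have htR : t ∈ R := by
      apply Subgroup.mem_sup_left
      exact ⟨E_le_T h (dd_mem h 1 2), Subgroup.mem_centralizer_singleton_iff.mpr rfl⟩
    have h5 := h.center_T (g * t * g⁻¹) (hg t htR) (by
      intro k hk
      rw [← h4] at hk
      obtain ⟨x, hx, rfl⟩ := hk
      have hxt : x * t = t * x := Subgroup.mem_centralizer_singleton_iff.mp (hRt hx)
      change g * x * g⁻¹ * (g * t * g⁻¹) = g * t * g⁻¹ * (g * x * g⁻¹)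
      calc g * x * g⁻¹ * (g * t * g⁻¹) = g * (x * t) * g⁻¹ := by group
        _ = g * (t * x) * g⁻¹ := by rw [hxt]
        _ = g * t * g⁻¹ * (g * x * g⁻¹) := by group)
    rcases h5 with h5 | h5
    · apply h.dd_ne_one 1 2 (by decide)
      have : h.d 1 * h.d 2 = g⁻¹ * (g * t * g⁻¹) * g := by rw [ht]; group
      rw [this, h5]; group
    · apply dd_not_mem_D F (i := 1) (j := 2) (by decide)
      refine ⟨g⁻¹, ?_⟩
      rw [← h5, ht]; group
  have hT₁R : T₁ ≤ R := le_sup_left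
  have h512 : 512 ≤ Nat.card T₁ := card_cent_t h
  have hR512 : Nat.card R ≤ 512 := by
    have hd : Nat.card R ∣ 2 ^ 10 := by simpa using hcardR
    obtain ⟨k, hk, hk2⟩ := (Nat.dvd_prime_pow Nat.prime_two).mp hd
    rw [hk2] at hne ⊢
    interval_cases k <;> simp_all
  have hEq : T₁ = R := Subgroup.eq_of_le_of_card_ge hT₁R (hR512.trans h512)
  calc OC t ≤ R := le_sup_right
    _ = T₁ := hEq.symm
    _ ≤ (T : Subgroup G) := inf_le_left

include F in
theorem E_le_OC_t (hZ : Cfsg.Agent.R01.Closing.ZStar.{u}) (hFT : OddOrder.{u}) :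
    h.E ≤ OC (h.d 1 * h.d 2) := by
  have hc2 := char_two F hZ hFT (dd_mem h 1 2) (h.dd_ne_one 1 2 (by decide))
  set t := h.d 1 * h.d 2 with ht
  have hEC : ∀ x ∈ h.E, x ∈ Subgroup.centralizer ({t} : Set G) := fun x hx =>
    Subgroup.mem_centralizer_singleton_iff.mpr (E_comm h hx (dd_mem h 1 2))
  have hXT : OC t ≤ (T : Subgroup G) := OC_t_le F
  -- `z` commutes with `OC t`
  have hz : ∀ y ∈ OC t, y * h.d 0 = h.d 0 * y := fun y hy => h.z_comm y (hXT hy)
  -- hence `d 3` too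
  obtain ⟨π, hπ, h0, h1, h2, -, -⟩ := exists_perm_three
  obtain ⟨n, -, hn⟩ := F.E_alt π (Equiv.Perm.mem_alternatingGroup.mpr hπ)
  have hnt : n * t = t * n := by
    have : n * t * n⁻¹ = t := by
      calc n * t * n⁻¹ = (n * h.d 1 * n⁻¹) * (n * h.d 2 * n⁻¹) := by rw [ht]; group
        _ = t := by rw [hn, hn, h1, h2]
    rw [mul_inv_eq_iff_eq_mul] at this
    exact this
  have hnC : n ∈ Subgroup.centralizer ({t} : Set G) := Subgroup.mem_centralizer_singleton_iff.mpr hnt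
  have hd3 : ∀ y ∈ OC t, y * h.d 3 = h.d 3 * y := by
    intro y hy
    have h3 : n * h.d 0 * n⁻¹ = h.d 3 := by rw [hn, h0]
    have h4 : n⁻¹ * y * n⁻¹⁻¹ ∈ OC t := conj_mem_OC (Subgroup.inv_mem _ hnC) hy
    have h5 := hz _ h4
    rw [← h3]
    calc y * (n * h.d 0 * n⁻¹) = n * ((n⁻¹ * y * n⁻¹⁻¹) * h.d 0) * n⁻¹ := by group
      _ = n * (h.d 0 * (n⁻¹ * y * n⁻¹⁻¹)) * n⁻¹ := by rw [h5]
      _ = n * h.d 0 * n⁻¹ * y := by group
  intro x hx
  apply mem_OC hc2 (hEC x hx)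
  intro y hy
  exact V_comm h (h.cent_d 3 (by decide) y (hXT hy) (hd3 y hy)) hx

include F in
/-- `C(t)` permutes the `d i` -/
theorem conj_d_t (hZ : Cfsg.Agent.R01.Closing.ZStar.{u}) (hFT : OddOrder.{u}) {c : G}
    (hc : c ∈ Subgroup.centralizer ({h.d 1 * h.d 2} : Set G)) (i : Fin 5) :
    ∃ j, c * h.d i * c⁻¹ = h.d j := by
  have h1 := OC_t_le F (conj_mem_OC hc (E_le_OC_t F hZ hFT (h.d_mem i)))
  obtain ⟨k, hk⟩ := d_mem_D F i
  have h6 : c * h.d i * c⁻¹ = (c * k) * h.d 0 * (c * k)⁻¹ := by rw [hk]; group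
  rw [h6]
  apply F.z_fus
  rw [← h6]; exact h1

include F in
theorem hEt (hZ : Cfsg.Agent.R01.Closing.ZStar.{u}) (hFT : OddOrder.{u}) :
    Subgroup.centralizer ({h.d 1 * h.d 2} : Set G) ≤ Subgroup.normalizer (h.E : Set G) := by
  have key : ∀ c ∈ Subgroup.centralizer ({h.d 1 * h.d 2} : Set G), ∀ x ∈ h.E, c * x * c⁻¹ ∈ h.E := by
    intro c hc x hx
    rcases h.E_cases x hx with h1 | ⟨i, hi⟩ | ⟨i, j, hij, hx1⟩
    · rw [h1, mul_one, mul_inv_cancel]; exact h.E.one_mem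
    · obtain ⟨j, hj⟩ := conj_d_t F hZ hFT hc i
      rw [hi, hj]; exact h.d_mem j
    · obtain ⟨k, hk⟩ := conj_d_t F hZ hFT hc i
      obtain ⟨l, hl⟩ := conj_d_t F hZ hFT hc j
      have : c * x * c⁻¹ = (c * h.d i * c⁻¹) * (c * h.d j * c⁻¹) := by rw [hx1]; group
      rw [this, hk, hl]
      exact dd_mem h k l
  intro c hc
  rw [Subgroup.mem_normalizer_iff]
  intro x
  constructor
  · exact key c hc x
  · intro hx
    have := key c⁻¹ (Subgroup.inv_mem _ hc) _ hx
    have h2 : c⁻¹ * (c * x * c⁻¹) * c⁻¹⁻¹ = x := by group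
    rwa [h2] at this

include F in
theorem hDt (hZ : Cfsg.Agent.R01.Closing.ZStar.{u}) (hFT : OddOrder.{u}) (x : G) (hx : x ∈ D h)
    (hxt : x * (h.d 1 * h.d 2) = h.d 1 * h.d 2 * x) : ∃ i, x = h.d i := by
  classical
  haveI h2 : Fact (Nat.Prime 2) := ⟨Nat.prime_two⟩
  set t := h.d 1 * h.d 2 with ht
  have hxC : x ∈ Subgroup.centralizer ({t} : Set G) := Subgroup.mem_centralizer_singleton_iff.mpr hxt
  have hxp : IsPGroup 2 (Subgroup.zpowers x) := by
    rintro ⟨y, hy⟩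
    obtain ⟨k, rfl⟩ := Subgroup.mem_zpowers_iff.mp hy
    refine ⟨1, ?_⟩
    apply Subtype.ext
    simp only [pow_one, Subgroup.coe_pow, Subgroup.coe_one]
    rw [← zpow_natCast, ← zpow_mul, mul_comm, zpow_mul]
    have : x ^ ((2 : ℕ) : ℤ) = 1 := by rw [zpow_natCast, sq, D_sq h hx]
    rw [this, one_zpow]
  have hle : Subgroup.zpowers x ≤ Subgroup.normalizer (OC t : Set G) := by
    rw [Subgroup.zpowers_le, Subgroup.mem_normalizer_iff]
    intro w
    constructor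
    · exact fun hw => conj_mem_OC hxC hw
    · intro hw
      have := conj_mem_OC (Subgroup.inv_mem _ hxC) hw
      have h2 : x⁻¹ * (x * w * x⁻¹) * x⁻¹⁻¹ = w := by group
      rwa [h2] at this
  have hRp : IsPGroup 2 ↥(Subgroup.zpowers x ⊔ OC t) :=
    IsPGroup.to_sup_of_normal_right' hxp (isPGroup_OC t) hle
  obtain ⟨g, -, hg⟩ := exists_conj_d F hRp
  obtain ⟨j, hj⟩ := hg x (Subgroup.mem_sup_left (Subgroup.mem_zpowers x)) hx
  have hall : ∀ i, ∃ k, g * h.d i * g⁻¹ = h.d k := fun i =>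
    hg _ (Subgroup.mem_sup_right (E_le_OC_t F hZ hFT (h.d_mem i))) (d_mem_D F i)
  choose f hf using hall
  have hfinj : Function.Injective f := by
    intro a b hab
    apply h.d_inj
    apply conj_inj (g := g)
    rw [hf a, hf b, hab]
  have hfsurj := Finite.injective_iff_surjective.mp hfinj
  obtain ⟨i, hi⟩ := hfsurj j
  refine ⟨i, conj_inj (g := g) ?_⟩
  rw [hj, hf i, hi]

end Cfsg.Agent.SylowU5.CharTwoT
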