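import Cfsg.Agent.SylowU5.FormAvg
import Cfsg.Agent.R15.NormalElem
import Cfsg.Agent.TwoFusion.IsolatedCenter
import Cfsg.Agent.SylowTypes.NormalCore
import Cfsg.Agent.S0018
import Cfsg.Agent.S0205
import Cfsg.Agent.S0215

/-!
# A solvability criterion: elementary abelian Sylow 2-subgroup of order 64 with a quadratic form

(theorem T2 in the proof of S0513 by helper330 and helper445)
-/

set_option autoImplicit false

namespace Cfsg.Agent.SylowU5.FormSolvable

open Subgroup Cfsg

theorem zadd : ∀ a : ZMod 2, a + a = 0 := by decide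

theorem zmul : ∀ a b c d e f : ZMod 2, (a + b + c + d + e + f) + a + f = (b + d + f) + (c + e + f) := by decide

theorem zsol : ∀ x y z : ZMod 2, 0 = x + y + z → x = y + z := by decide

theorem zone : ∀ a : ZMod 2, a ≠ 0 → a = 1 := by decide

theorem z11 : (1 : ZMod 2) + 1 = 0 := by decide

theorem z01 : (0 : ZMod 2) ≠ 1 := by decide

/-- A subgroup on which a quadratic form is anisotropic has order at most four. -/
theorem card_le_four {N : Type*} [Group N] [Finite N] {V A : Subgroup N} (hAV : A ≤ V)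
    (hV2 : ∀ a ∈ V, a * a = 1) (q : N → ZMod 2)
    (hquad : ∀ x ∈ V, ∀ y ∈ V, ∀ w ∈ V, q (x * y * w) = q (x * y) + q (x * w) + q (y * w) + q x + q y + q w)
    (hq : ∀ a ∈ A, a ≠ 1 → q a = 1) : Nat.card A ≤ 4 := by
  classical
  by_contra hcard
  push Not at hcard
  have hinv : ∀ a ∈ A, a⁻¹ = a := fun a ha => inv_eq_of_mul_eq_one_left (hV2 a (hAV ha))
  have hfin : Fintype A := Fintype.ofFinite A
  rw [Nat.card_eq_fintype_card] at hcard
  -- choose elements outside small sets
  have hex : ∀ s : Finset A, s.card ≤ 4 → ∃ c : A, c ∉ s := by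
    intro s hs
    by_contra hall
    push Not at hall
    have : s = Finset.univ := by ext c; simp [hall c]
    rw [this, Finset.card_univ] at hs
    omega
  obtain ⟨a, ha⟩ := hex {1} (by simp)
  obtain ⟨b, hb⟩ := hex {1, a} (Finset.card_le_two.trans (by norm_num))
  obtain ⟨c, hc⟩ := hex {1, a, b, a * b} Finset.card_le_four
  simp only [Finset.mem_singleton, Finset.mem_insert, not_or] at ha hb hc
  have hone : ∀ x : A, x ≠ 1 → q x = 1 := fun x hx => hq x x.2 fun h => hx (Subtype.ext h)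
  have hself : ∀ x : A, x⁻¹ = x := fun x => Subtype.ext (hinv x x.2)
  have h1 := hquad a (hAV a.2) b (hAV b.2) c (hAV c.2)
  have e1 : a * b * c ≠ 1 := by
    intro h
    exact hc.2.2.2 (by rw [← hself c]; exact (mul_eq_one_iff_eq_inv.1 h).symm)
  have e2 : a * b ≠ 1 := by
    intro h
    exact hb.2 (by rw [← hself b]; exact (mul_eq_one_iff_eq_inv.1 h).symm)
  have e3 : a * c ≠ 1 := by
    intro h
    exact hc.2.1 (by rw [← hself c]; exact (mul_eq_one_iff_eq_inv.1 h).symm)
  have e4 : b * c ≠ 1 := by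
    intro h
    exact hc.2.2.1 (by rw [← hself c]; exact (mul_eq_one_iff_eq_inv.1 h).symm)
  have f1 := hone _ e1
  have f2 := hone _ e2
  have f3 := hone _ e3
  have f4 := hone _ e4
  simp only [coe_mul] at f1 f2 f3 f4
  rw [f1, f2, f3, f4, hone a ha, hone b hb.1, hone c hc.1] at h1
  revert h1
  decide

/-- Elementary abelian Sylow 2-subgroup `P`, `a ∈ P` with solvable centralizer. -/
theorem le_core_sup_normalizer {X : Type*} [Group X] [Finite X] (P : Sylow 2 X)
    (hPc : ∀ a ∈ (P : Subgroup X), ∀ b ∈ (P : Subgroup X), a * b = b * a)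
    (hP2 : ∀ a ∈ (P : Subgroup X), a * a = 1) {a : X} (ha : a ∈ (P : Subgroup X))
    (hs : Group.IsSolvable ↥(centralizer ({a} : Set X))) :
    centralizer ({a} : Set X) ≤ centralizerPPrimeCore 2 a ⊔ normalizer ((P : Subgroup X) : Set X) := by
  have : Fact (Nat.Prime 2) := ⟨Nat.prime_two⟩
  set C := centralizer ({a} : Set X) with hC
  have hPC : (P : Subgroup X) ≤ C := fun b hb => mem_centralizer_singleton_iff.2 (hPc b hb a ha)
  have h1 : IsMulCommutative (P.subtype hPC : Subgroup C) :=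
    ⟨⟨fun x y => Subtype.ext (Subtype.ext (hPc _ x.2 _ y.2))⟩⟩
  have h2 := Cfsg.Agent.S0018.result 2 (P.subtype hPC) h1
  have h3 := Cfsg.Agent.Lib.LocalCore.le_normalizer_map_subtype C _ h2
  have h4 : ((P.subtype hPC : Subgroup C) ⊔ pPrimeCore 2 C).map C.subtype =
      (P : Subgroup X) ⊔ Cfsg.Agent.SignalizersComponents.PLayerAut.relCore 2 C := by
    rw [Subgroup.map_sup]
    congr 1
    change ((P : Subgroup X).subgroupOf C).map C.subtype = _
    exact map_subgroupOf_eq_of_le hPC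
  rw [h4] at h3
  exact Cfsg.Agent.SylowTypes.NormalCore.le_sup_normalizer P.2 hPC h3

/-- Abelian Sylow 2-subgroup, `X = O(X) N(P)`. -/
theorem isSolvable_of_sup_normalizer {X : Type*} [Group X] [Finite X] (P : Sylow 2 X)
    (hPc : ∀ a ∈ (P : Subgroup X), ∀ b ∈ (P : Subgroup X), a * b = b * a)
    (hX : pPrimeCore 2 X ⊔ normalizer ((P : Subgroup X) : Set X) = ⊤) : Group.IsSolvable X := by
  have : Fact (Nat.Prime 2) := ⟨Nat.prime_two⟩
  have hOn : (pPrimeCore 2 X).Normal := Cfsg.Agent.Lib.Cores.pPrimeCore_normal 2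
  have hOodd : Odd (Nat.card (pPrimeCore 2 X)) :=
    Nat.coprime_two_right.1 (Cfsg.Agent.Lib.Cores.pPrimeCore_coprime 2)
  have hOsol : Group.IsSolvable ↥(pPrimeCore 2 X) := Cfsg.Agent.S0205.result hOodd
  set L := normalizer ((P : Subgroup X) : Set X) with hL
  have hPL : (P : Subgroup X) ≤ L := le_normalizer
  have hn : ((P : Subgroup X).subgroupOf L).Normal := (normal_subgroupOf_iff_le_normalizer hPL).2 le_rfl
  have hPs : Group.IsSolvable ↥((P : Subgroup X).subgroupOf L) :=
    Group.isSolvable_of_comm fun a b => Subtype.ext (Subtype.ext (hPc _ a.2 _ b.2))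
  have hLq : Group.IsSolvable (↥L ⧸ (P : Subgroup X).subgroupOf L) := by
    apply Cfsg.Agent.S0205.result
    have h1 : ¬ 2 ∣ (P : Subgroup X).index := P.not_dvd_index
    have h2 : (P : Subgroup X).relIndex L ∣ (P : Subgroup X).index := relIndex_dvd_index_of_le hPL
    have h3 : ¬ 2 ∣ (P : Subgroup X).relIndex L := fun h => h1 (h.trans h2)
    change Odd ((P : Subgroup X).relIndex L)
    rw [Nat.odd_iff]; omega
  have hLs : Group.IsSolvable ↥L :=
    (Group.isSolvable_iff_subgroup_quotient ((P : Subgroup X).subgroupOf L)).mpr ⟨hPs, hLq⟩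
  have hq : Group.IsSolvable (X ⧸ pPrimeCore 2 X) := by
    refine Group.isSolvable_of_surjective (f := (QuotientGroup.mk' (pPrimeCore 2 X)).comp L.subtype) ?_
    intro x
    obtain ⟨g, rfl⟩ := QuotientGroup.mk'_surjective _ x
    have hg : g ∈ pPrimeCore 2 X ⊔ L := by rw [hX]; exact mem_top g
    obtain ⟨o, ho, l, hl, rfl⟩ := Subgroup.mem_sup_of_normal_left.1 hg
    refine ⟨⟨l, hl⟩, ?_⟩
    have h5 : QuotientGroup.mk' (pPrimeCore 2 X) o = 1 := (QuotientGroup.eq_one_iff o).2 ho
    change QuotientGroup.mk' (pPrimeCore 2 X) l = QuotientGroup.mk' (pPrimeCore 2 X) (o * l)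
    rw [map_mul, h5, one_mul]
  exact (Group.isSolvable_iff_subgroup_quotient (pPrimeCore 2 X)).mpr ⟨hOsol, hq⟩

set_option maxHeartbeats 1000000 in
theorem isSolvable_of_form {N : Type*} [Group N] [Finite N] (V : Sylow 2 N)
    (hVc : ∀ a ∈ V, ∀ b ∈ V, a * b = b * a) (hV2 : ∀ a ∈ V, a * a = 1) (hcard : Nat.card V = 64)
    (q : N → ZMod 2) (hq1 : q 1 = 0)
    (hquad : ∀ x ∈ V, ∀ y ∈ V, ∀ w ∈ V, q (x*y*w) = q (x*y) + q (x*w) + q (y*w) + q x + q y + q w)
    (hnd : ∀ x ∈ V, x ≠ 1 → ∃ y ∈ V, q (x*y) ≠ q x + q y)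
    (hinv : ∀ g : N, ∀ x ∈ V, g*x*g⁻¹ ∈ V → q (g*x*g⁻¹) = q x) (n : N) (hn : n ∈ V)
    (hnc : ∀ g, g*n = n*g) (hqn : q n = 1)
    (hsolv : ∀ u ∈ V, u ≠ 1 → q u = 0 → Group.IsSolvable ↥(Subgroup.centralizer ({u} : Set N))) :
    Group.IsSolvable N := by
  classical
  have : Fact (Nat.Prime 2) := ⟨Nat.prime_two⟩
  obtain ⟨e, he_fus, he_idem, he_iso, he_cent, he_chi⟩ := FormAvg.exists_retraction V hVc hV2
  have hself : ∀ a ∈ (V : Subgroup N), a⁻¹ = a := fun a ha => inv_eq_of_mul_eq_one_left (hV2 a ha)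
  -- the fixed points, as a subgroup of `N`
  let F : Subgroup N := e.range.map (V : Subgroup N).subtype
  have hFV : F ≤ (V : Subgroup N) := map_subtype_le _
  have hFfix : ∀ f (hf : f ∈ (V : Subgroup N)), e ⟨f, hf⟩ = ⟨f, hf⟩ → f ∈ F := fun f hf h =>
    ⟨⟨f, hf⟩, ⟨⟨f, hf⟩, h⟩, rfl⟩
  have hFmem : ∀ f ∈ F, ∃ hf : f ∈ (V : Subgroup N), e ⟨f, hf⟩ = ⟨f, hf⟩ := by
    rintro _ ⟨f, ⟨v, rfl⟩, rfl⟩
    exact ⟨(e v).2, he_idem v⟩
  have hFiso : ∀ x ∈ F, ∀ g : N, g * x * g⁻¹ ∈ (V : Subgroup N) → g * x * g⁻¹ = x := by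
    intro x hx g hg
    obtain ⟨hxV, hx1⟩ := hFmem x hx
    exact congrArg Subtype.val (he_iso _ hx1 g ⟨_, hg⟩ rfl)
  -- orthogonality
  have horth : ∀ (u f : (V : Subgroup N)), e u = 1 → e f = f → q ((u : N) * f) = q u + q f := by
    intro u f hu hf
    let χ : (V : Subgroup N) →* Multiplicative (ZMod 2) :=
      { toFun := fun v => Multiplicative.ofAdd (q ((v : N) * f) + q v + q f)
        map_one' := by
          rw [← ofAdd_zero]
          congr 1
          simp only [coe_one, one_mul, hq1, add_zero, zadd]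
        map_mul' := fun v w => by
          rw [← ofAdd_add]
          congr 1
          have := hquad v v.2 w w.2 f f.2
          simp only [coe_mul]
          rw [this]
          exact zmul _ _ _ _ _ _ }
    have h1 := he_chi χ (by
      intro g hg v w hvw
      have hgf : g * (f : N) * g⁻¹ = f := by
        have h2 : g * (f : N) * g⁻¹ ∈ (V : Subgroup N) := (mem_normalizer_iff.1 hg f).1 f.2
        exact congrArg Subtype.val (he_iso f hf g ⟨_, h2⟩ rfl)
      change Multiplicative.ofAdd (q ((w : N) * f) + q w + q f) = Multiplicative.ofAdd (q ((v : N) * f) + q v + q f)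
      congr 1
      have h3 : q (w : N) = q v := by rw [← hvw]; exact hinv g v v.2 (by rw [hvw]; exact w.2)
      have h4 : (w : N) * f = g * ((v : N) * f) * g⁻¹ := by
        calc (w : N) * f = (g * v * g⁻¹) * (g * f * g⁻¹) := by rw [hvw, hgf]
          _ = g * ((v : N) * f) * g⁻¹ := by group
      have h5 : q ((w : N) * f) = q ((v : N) * f) := by
        rw [h4]
        apply hinv g _ (mul_mem v.2 f.2)
        rw [← h4]
        exact mul_mem w.2 f.2
      rw [h3, h5]) u
    rw [hu, map_one] at h1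
    have h2 : (0 : ZMod 2) = q ((u : N) * f) + q u + q f := h1
    exact zsol _ _ _ h2
  -- `Z*`
  have hZs : ∀ x ∈ F, ∀ g : N, x * g * x⁻¹ * g⁻¹ ∈ Cfsg.oddCore N :=
    Cfsg.Agent.TwoFusion.IsolatedCenter.commutator_mem_oddCore
      (fun G _ _ P u h1 h2 h3 => Cfsg.Agent.S0215.result P u h1 h2 h3) (Nat.card N) N le_rfl V F hFV hFiso
  have hOodd : Odd (Nat.card (Cfsg.oddCore N)) :=
    Nat.coprime_two_right.1 (Cfsg.Agent.Lib.Cores.pPrimeCore_coprime 2)
  have hOsol : Group.IsSolvable ↥(Cfsg.oddCore N) := Cfsg.Agent.S0205.result hOodd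
  by_cases hA : ∃ f ∈ F, f ≠ 1 ∧ q f = 0
  · obtain ⟨f, hf, hf1, hqf⟩ := hA
    have hCf := hsolv f (hFV hf) hf1 hqf
    have hN := Cfsg.Agent.TwoFusion.IsolatedCenter.exists_eq_mul F (V.2.to_le hFV) hZs
    have hquot : Group.IsSolvable (N ⧸ Cfsg.oddCore N) := by
      refine Group.isSolvable_of_surjective (f := (QuotientGroup.mk' (Cfsg.oddCore N)).comp
        (centralizer ({f} : Set N)).subtype) ?_
      intro x
      obtain ⟨h, rfl⟩ := QuotientGroup.mk'_surjective _ x
      obtain ⟨o, ho, c, hc, rfl⟩ := hN h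
      refine ⟨⟨c, mem_centralizer_singleton_iff.2 (mem_centralizer_iff.1 hc f hf).symm⟩, ?_⟩
      change QuotientGroup.mk' (Cfsg.oddCore N) c = QuotientGroup.mk' (Cfsg.oddCore N) (o * c)
      rw [map_mul, (QuotientGroup.eq_one_iff o).2 ho |> (fun h => (h : QuotientGroup.mk' (Cfsg.oddCore N) o = 1)), one_mul]
    exact (Group.isSolvable_iff_subgroup_quotient (Cfsg.oddCore N)).mpr ⟨hOsol, hquot⟩
  · push Not at hA
    have hF1 : ∀ f ∈ F, f ≠ 1 → q f = 1 := by
      intro f hf hf1
      exact zone _ (hA f hf hf1)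
    -- the normal subgroup `O(N) F`
    set O := Cfsg.oddCore N with hO
    have hOn : O.Normal := Cfsg.Agent.Lib.Cores.pPrimeCore_normal 2
    let M₀ : Subgroup N := O ⊔ F
    have hM₀ : M₀.Normal := by
      rw [← normalizer_eq_top_iff, eq_top_iff]
      intro g _
      have key : ∀ g : N, M₀ ≤ M₀.comap (MulAut.conj g).toMonoidHom := by
        intro g
        refine sup_le ?_ ?_
        · intro o ho
          exact (le_sup_left : O ≤ M₀) (hOn.conj_mem o ho g)
        · intro f hf
          have h1 : g * f * g⁻¹ = (f * g * f⁻¹ * g⁻¹)⁻¹ * f := by group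
          change g * f * g⁻¹ ∈ M₀
          rw [h1]
          exact mul_mem ((le_sup_left : O ≤ M₀) (inv_mem (hZs f hf g))) ((le_sup_right : F ≤ M₀) hf)
      rw [mem_normalizer_iff]
      intro x
      refine ⟨fun hx => key g hx, fun hx => ?_⟩
      have := key g⁻¹ hx
      change g⁻¹ * (g * x * g⁻¹) * (g⁻¹)⁻¹ ∈ M₀ at this
      have h1 : g⁻¹ * (g * x * g⁻¹) * (g⁻¹)⁻¹ = x := by group
      rwa [h1] at this
    have hOV : ∀ x ∈ O, x ∈ (V : Subgroup N) → x = 1 := by
      intro x hxO hxV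
      have h1 : orderOf x ∣ Nat.card O := by
        have := orderOf_dvd_natCard (⟨x, hxO⟩ : O)
        rwa [Subgroup.orderOf_mk] at this
      have h2 : orderOf x ∣ 2 := orderOf_dvd_of_pow_eq_one (by rw [pow_two]; exact hV2 x hxV)
      have h3 : Odd (orderOf x) := hOodd.of_dvd_nat h1
      rcases (Nat.dvd_prime Nat.prime_two).1 h2 with h4 | h4
      · exact orderOf_eq_one_iff.1 h4
      · rw [h4] at h3; exact absurd h3 (by decide)
    have hM₀V : ∀ x ∈ M₀, x ∈ (V : Subgroup N) → x ∈ F := by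
      intro x hx hxV
      obtain ⟨o, ho, f, hf, rfl⟩ := Subgroup.mem_sup_of_normal_left.1 hx
      have h1 : o = 1 := hOV o ho (by
        have := mul_mem hxV (inv_mem (hFV hf))
        rwa [mul_inv_cancel_right] at this)
      rw [h1, one_mul]; exact hf
    have hM₀le : M₀ ≤ (V : Subgroup N) ⊔ O := sup_le le_sup_right (hFV.trans le_sup_left)
    set π := QuotientGroup.mk' M₀ with hπ
    have hπeq : ∀ x y : N, π x = π y ↔ x⁻¹ * y ∈ M₀ := fun x y => QuotientGroup.eq
    -- lifting of fusion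
    have hlift : ∀ (g : N) (x y : (V : Subgroup N)), e x = 1 → e y = 1 → π (g * x * g⁻¹) = π y →
        ∃ o ∈ O, (o * g) * x * (o * g)⁻¹ = y := by
      intro g x y hx hy hg
      have h1 : g * x * g⁻¹ ∈ (V : Subgroup N) ⊔ O := by
        have h2 := (hπeq _ _).1 hg.symm
        have h3 : g * x * g⁻¹ = y * ((y : N)⁻¹ * (g * x * g⁻¹)) := by group
        rw [h3]
        exact mul_mem ((le_sup_left : (V : Subgroup N) ≤ _) y.2) (hM₀le h2)
      obtain ⟨o, ho, h2⟩ := Cfsg.Agent.TwoFusion.IsolatedCenter.exists_conj_mem V O (g * x * g⁻¹)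
        ⟨1, by
          rw [pow_one, pow_two]
          calc g * x * g⁻¹ * (g * x * g⁻¹) = g * ((x : N) * x) * g⁻¹ := by group
            _ = 1 := by rw [hV2 x x.2]; group⟩ h1
      refine ⟨o, ho, ?_⟩
      have h3 : (o * g) * x * (o * g)⁻¹ = o * (g * x * g⁻¹) * o⁻¹ := by group
      rw [h3]
      have h4 : (y : N)⁻¹ * (o * (g * x * g⁻¹) * o⁻¹) ∈ M₀ := by
        rw [← hπeq, map_mul, map_mul, hg]
        have h5 : π o = 1 := (QuotientGroup.eq_one_iff o).2 ((le_sup_left : O ≤ M₀) ho)
        rw [map_inv, h5, one_mul, inv_one, mul_one]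
      have h5 := hM₀V _ h4 (mul_mem (inv_mem y.2) h2)
      obtain ⟨h6, h7⟩ := hFmem _ h5
      have h8 : e ⟨_, h2⟩ = e x := he_fus (o * g) x ⟨_, h2⟩ h3
      have h9 : (⟨_, h6⟩ : (V : Subgroup N)) = y⁻¹ * ⟨_, h2⟩ := rfl
      have h10 : e ⟨_, h6⟩ = 1 := by rw [h9, map_mul, map_inv, h8, hx, hy, inv_one, one_mul]
      rw [h7] at h10
      have h11 : (y : N)⁻¹ * (o * (g * x * g⁻¹) * o⁻¹) = 1 := congrArg Subtype.val h10
      exact (inv_mul_eq_one.1 h11).symm
    -- elements of the kernel of `e`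
    have hdec : ∀ v : (V : Subgroup N), e (v * (e v)⁻¹) = 1 := fun v => by
      rw [map_mul, map_inv, he_idem, mul_inv_cancel]
    have hπF : ∀ v : (V : Subgroup N), π v = π ((v * (e v)⁻¹ : (V : Subgroup N)) : N) := by
      intro v
      rw [hπeq]
      have h1 : (v : N)⁻¹ * ((v * (e v)⁻¹ : (V : Subgroup N)) : N) = ((e v)⁻¹ : (V : Subgroup N)) := by
        simp only [coe_mul, inv_mul_cancel_left]
      rw [h1]
      exact (le_sup_right : F ≤ M₀) (inv_mem (hFfix _ (e v).2 (he_idem v)))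
    have hπ1 : ∀ u : (V : Subgroup N), e u = 1 → π u = 1 → u = 1 := by
      intro u hu h1
      have h2 : (u : N) ∈ M₀ := (QuotientGroup.eq_one_iff (u : N)).1 h1
      obtain ⟨h3, h4⟩ := hFmem _ (hM₀V _ h2 u.2)
      have h5 : e u = u := h4
      rw [← h5, hu]
    have hnfix : e ⟨n, hn⟩ = ⟨n, hn⟩ := he_cent ⟨n, hn⟩ hnc
    -- the order of the kernel
    have hcard_ker : 16 ≤ Nat.card e.ker := by
      have h1 : Nat.card F ≤ 4 := card_le_four hFV hV2 q hquad hF1
      have h2 : Nat.card F = Nat.card e.range := Subgroup.card_map_of_injective (V : Subgroup N).subtype_injective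
      have h3 : Nat.card e.ker * e.ker.index = Nat.card (V : Subgroup N) := card_mul_index e.ker
      rw [index_ker, ← h2] at h3
      have h4 : Nat.card (V : Subgroup N) = 64 := hcard
      rw [h4] at h3
      by_contra h5
      push Not at h5
      have h6 : Nat.card e.ker * Nat.card F ≤ 15 * 4 := Nat.mul_le_mul (by omega) h1
      omega
    let U : Subgroup N := e.ker.map (V : Subgroup N).subtype
    have hUcard : Nat.card U = Nat.card e.ker := Subgroup.card_map_of_injective (V : Subgroup N).subtype_injective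
    have hUV : U ≤ (V : Subgroup N) := map_subtype_le _
    -- a singular element
    obtain ⟨s, hs1, hse, hsq⟩ : ∃ s : (V : Subgroup N), s ≠ 1 ∧ e s = 1 ∧ q s = 0 := by
      by_contra hno
      push Not at hno
      have h1 : Nat.card U ≤ 4 := card_le_four hUV hV2 q hquad (by
        rintro _ ⟨u, hu, rfl⟩ hu1
        exact zone _ (hno u (fun h => hu1 (by rw [h]; rfl)) hu))
      omega
    -- a nonsingular element
    obtain ⟨k, hke, hkq⟩ : ∃ k : (V : Subgroup N), e k = 1 ∧ q k = 1 := by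
      by_contra hno
      push Not at hno
      have hall : ∀ u : (V : Subgroup N), e u = 1 → q u = 0 := by
        intro u hu
        by_contra h0
        exact hno u hu (zone _ h0)
      obtain ⟨y, hy, hne⟩ := hnd s s.2 (fun h => hs1 (Subtype.ext h))
      apply hne
      set y' : (V : Subgroup N) := ⟨y, hy⟩ with hy'
      have hyd : (y : N) = ((y' * (e y')⁻¹ : (V : Subgroup N)) : N) * (e y' : (V : Subgroup N)) := by
        rw [← coe_mul, inv_mul_cancel_right]
      have h1 := horth _ _ (hdec y') (he_idem y')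
      have h2 : q ((s : N) * y) = q ((s * (y' * (e y')⁻¹) : (V : Subgroup N)) : N) + q ((e y' : (V : Subgroup N)) : N) := by
        rw [← horth _ _ (by rw [map_mul, hse, hdec, one_mul]) (he_idem y')]
        congr 1
        rw [coe_mul, mul_assoc, ← hyd]
      rw [h2, hall _ (by rw [map_mul, hse, hdec, one_mul]), hsq, hyd, h1, hall _ (hdec y')]
      ring
    -- centralizers of the elements of the kernel
    have hCu : ∀ u : (V : Subgroup N), e u = 1 → u ≠ 1 → Group.IsSolvable ↥(centralizer ({(u : N)} : Set N)) := by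
      intro u hu hu1
      by_cases hqu : q u = 0
      · exact hsolv u u.2 (fun h => hu1 (Subtype.ext h)) hqu
      · have h1 : q ((u : N) * n) = 0 := by
          rw [horth u ⟨n, hn⟩ hu hnfix, zone _ hqu, hqn]; exact z11
        have h2 : (u : N) * n ≠ 1 := by
          intro h
          have h3 : u * ⟨n, hn⟩ = 1 := Subtype.ext h
          have h4 := congrArg e h3
          rw [map_mul, hu, hnfix, map_one, one_mul] at h4
          have h5 : n = 1 := congrArg Subtype.val h4
          rw [h5, hq1] at hqn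
          exact z01 hqn
        have h3 := hsolv _ (mul_mem u.2 hn) h2 h1
        have h4 : centralizer ({(u : N)} : Set N) ≤ centralizer ({(u : N) * n} : Set N) := by
          intro g hg
          rw [mem_centralizer_singleton_iff] at hg ⊢
          calc g * (u * n) = (g * u) * n := by rw [mul_assoc]
            _ = u * (g * n) := by rw [hg, mul_assoc]
            _ = u * n * g := by rw [hnc, mul_assoc]
        exact Group.isSolvable_of_isSolvable_injective (inclusion_injective h4)
    -- the quotient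
    have hπs : Function.Surjective π := QuotientGroup.mk'_surjective M₀
    let P : Sylow 2 (N ⧸ M₀) := V.mapSurjective hπs
    have hP : (P : Subgroup (N ⧸ M₀)) = (V : Subgroup N).map π := rfl
    have hPmem : ∀ x ∈ (P : Subgroup (N ⧸ M₀)), ∃ u : (V : Subgroup N), e u = 1 ∧ π u = x := by
      rintro _ ⟨v, hv, rfl⟩
      exact ⟨⟨v, hv⟩ * (e ⟨v, hv⟩)⁻¹, hdec _, (hπF ⟨v, hv⟩).symm⟩
    have hPc : ∀ a ∈ (P : Subgroup (N ⧸ M₀)), ∀ b ∈ (P : Subgroup (N ⧸ M₀)), a * b = b * a := by
      rintro _ ⟨a, ha, rfl⟩ _ ⟨b, hb, rfl⟩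
      rw [← map_mul, ← map_mul, hVc a ha b hb]
    have hP2 : ∀ a ∈ (P : Subgroup (N ⧸ M₀)), a * a = 1 := by
      rintro _ ⟨a, ha, rfl⟩
      rw [← map_mul, hV2 a ha, map_one]
    have hP8 : 8 ≤ Nat.card (P : Subgroup (N ⧸ M₀)) := by
      have h1 : Nat.card e.ker ≤ Nat.card (P : Subgroup (N ⧸ M₀)) := by
        refine Nat.card_le_card_of_injective
          (fun u : e.ker => (⟨π ((u : (V : Subgroup N)) : N), ⟨_, (u : (V : Subgroup N)).2, rfl⟩⟩ :
            (P : Subgroup (N ⧸ M₀)))) ?_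
        intro a b hab
        have h2 : π ((a : (V : Subgroup N)) : N) = π ((b : (V : Subgroup N)) : N) := congrArg Subtype.val hab
        have h3 : (a : (V : Subgroup N))⁻¹ * b = 1 := by
          apply hπ1
          · rw [map_mul, map_inv, a.2, b.2, inv_one, one_mul]
          · rw [coe_mul, coe_inv, map_mul, map_inv, h2, inv_mul_cancel]
        exact Subtype.ext (inv_mul_eq_one.1 h3)
      omega
    have hCsol : ∀ a ∈ (P : Subgroup (N ⧸ M₀)), a ≠ 1 →
        Group.IsSolvable ↥(centralizer ({a} : Set (N ⧸ M₀))) := by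
      intro a ha ha1
      obtain ⟨u, hu, rfl⟩ := hPmem a ha
      have hu1 : u ≠ 1 := by rintro rfl; exact ha1 (by simp)
      have h1 := hCu u hu hu1
      have h2 : centralizer ({π u} : Set (N ⧸ M₀)) ≤ (centralizer ({(u : N)} : Set N)).map π := by
        intro x hx
        obtain ⟨g, rfl⟩ := hπs x
        rw [mem_centralizer_singleton_iff] at hx
        obtain ⟨o, ho, h3⟩ := hlift g u u hu hu (by
          rw [map_mul, map_mul, map_inv, hx, mul_inv_cancel_right])
        refine ⟨o * g, mem_centralizer_singleton_iff.2 (mul_inv_eq_iff_eq_mul.1 h3), ?_⟩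
        have h5 : π o = 1 := (QuotientGroup.eq_one_iff o).2 ((le_sup_left : O ≤ M₀) ho)
        rw [map_mul, h5, one_mul]
      have h3 : Group.IsSolvable ↥((centralizer ({(u : N)} : Set N)).map π) :=
        Group.isSolvable_of_surjective (π.subgroupMap_surjective (centralizer ({(u : N)} : Set N)))
      exact Group.isSolvable_of_isSolvable_injective (inclusion_injective h2)
    have hT1 := Cfsg.Agent.R15.NormalElem.sup_normalizer_eq_top P (P : Subgroup (N ⧸ M₀))
      ⟨le_rfl, fun g hg => Subgroup.eq_of_le_of_card_ge hg (by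
        rw [Subgroup.card_map_of_injective (MulAut.conj g).injective])⟩ hPc hP2 hP8
      (fun x _ _ _ g hg => hg) (z := π s) (v := π k) ⟨s, s.2, rfl⟩
      (fun p hp => mem_centralizer_singleton_iff.2 (hPc _ hp _ ⟨s, s.2, rfl⟩))
      (hP2 _ ⟨s, s.2, rfl⟩) (fun h => hs1 (hπ1 s hse h)) ⟨k, k.2, rfl⟩
      (fun h => by
        rw [hπ1 k hke h, coe_one, hq1] at hkq
        exact z01 hkq)
      (fun x hx => by
        obtain ⟨g, rfl⟩ := hπs x
        obtain ⟨o, ho, h3⟩ := hlift g s k hse hke (by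
          rw [map_mul, map_mul, map_inv, hx])
        have h4 := hinv (o * g) s s.2 (by rw [h3]; exact k.2)
        rw [h3, hkq, hsq] at h4
        exact z01 h4.symm)
      hCsol (fun a ha ha1 => le_core_sup_normalizer P hPc hP2 ha (hCsol a ha ha1))
    -- solvability of the quotient
    have hX : Group.IsSolvable (N ⧸ M₀) := isSolvable_of_sup_normalizer P hPc hT1
    have hM₀s : Group.IsSolvable ↥M₀ := by
      have h1 : (O.subgroupOf M₀).Normal := hOn.subgroupOf M₀
      have h2 : Group.IsSolvable ↥(O.subgroupOf M₀) :=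
        Group.isSolvable_of_isSolvable_injective (f := (subgroupOfEquivOfLe (le_sup_left : O ≤ M₀)).toMonoidHom)
          (subgroupOfEquivOfLe (le_sup_left : O ≤ M₀)).injective
      have h3 : Group.IsSolvable (↥M₀ ⧸ O.subgroupOf M₀) := by
        apply Group.isSolvable_of_comm
        intro a b
        obtain ⟨⟨a, ha⟩, rfl⟩ := QuotientGroup.mk_surjective a
        obtain ⟨⟨b, hb⟩, rfl⟩ := QuotientGroup.mk_surjective b
        rw [← QuotientGroup.mk_mul, ← QuotientGroup.mk_mul, QuotientGroup.eq]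
        rw [mem_subgroupOf]
        change (a * b)⁻¹ * (b * a) ∈ O
        obtain ⟨o, ho, f, hf, rfl⟩ := Subgroup.mem_sup_of_normal_left.1 ha
        obtain ⟨o', ho', f', hf', rfl⟩ := Subgroup.mem_sup_of_normal_left.1 hb
        have key : ∀ x y : N, (QuotientGroup.mk x : N ⧸ O) = QuotientGroup.mk y ↔ x⁻¹ * y ∈ O :=
          fun x y => QuotientGroup.eq
        rw [← key]
        have e1 : (QuotientGroup.mk o : N ⧸ O) = 1 := (QuotientGroup.eq_one_iff o).2 ho
        have e2 : (QuotientGroup.mk o' : N ⧸ O) = 1 := (QuotientGroup.eq_one_iff o').2 ho'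
        simp only [QuotientGroup.mk_mul, e1, e2, one_mul]
        rw [← QuotientGroup.mk_mul, ← QuotientGroup.mk_mul, hVc f (hFV hf) f' (hFV hf')]
      exact (Group.isSolvable_iff_subgroup_quotient (O.subgroupOf M₀)).mpr ⟨h2, h3⟩
    exact (Group.isSolvable_iff_subgroup_quotient M₀).mpr ⟨hM₀s, hX⟩

end Cfsg.Agent.SylowU5.FormSolvable
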