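import Cfsg.Agent.LargeExtra.EndUFive
import Cfsg.Agent.LieClassical.FieldTransfer

/-!
# Last step of S0513 (helper881)

The conclusion of S1614 together with `1024 ∣ |G|` leaves only `PSU 5 F 2`, for any field `F` with
four elements in any universe.
-/

set_option autoImplicit false

namespace Cfsg.Agent.SylowU5.Last

theorem last {G : Type*} [Group G] [Finite G] (hG : 1024 ∣ Nat.card G)
    (h : Nonempty (G ≃* Equiv.Perm (Fin 5)) ∨ Nonempty (G ≃* Equiv.Perm (Fin 6)) ∨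
      ∃ (F : Type) (_ : Field F) (_ : Fintype F), Fintype.card F = 4 ∧
        (Nonempty (G ≃* Cfsg.PSU 4 F 2) ∨ Nonempty (G ≃* Cfsg.PSU 5 F 2)))
    {F : Type*} [Field F] [Fintype F] (hF : Fintype.card F = 4) : Nonempty (G ≃* Cfsg.PSU 5 F 2) := by
  obtain ⟨K, i1, i2, hK, ⟨e⟩⟩ := LargeExtra.EndUFive.psu5_of_disj (dvd_trans (by norm_num) hG) h
  obtain ⟨φ⟩ : Nonempty (K ≃+* F) := ⟨FiniteField.ringEquivOfCardEq (K := K) (K' := F) (by rw [hK, hF])⟩
  exact ⟨e.trans (LieClassical.FieldTransfer.psuCongr 5 2 φ)⟩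

end Cfsg.Agent.SylowU5.Last
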