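import Mathlib
import Cfsg.Agent.SylowU5.Assemble
import Cfsg.Agent.SylowU5.CharTwoT
import Cfsg.Agent.SylowU5.Last
import Cfsg.Agent.SylowU5.CentSolvCore
import Cfsg.Agent.SylowU5.FormSolvable
import Cfsg.Agent.S1614
import Cfsg.Agent.S0215
import Cfsg.Agent.S0205

/-! The end of the proof of S0513. -/

set_option autoImplicit false

namespace Cfsg.Agent.SylowU5.Final

universe u

open Cfsg
open Cfsg.Agent.SylowU5.Basic Cfsg.Agent.SylowU5.Elem Cfsg.Agent.SylowU5.SolvT
  Cfsg.Agent.SylowU5.Fus Cfsg.Agent.SylowU5.Assemble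

theorem zstar : Cfsg.Agent.R01.Closing.ZStar.{u} := by
  intro K _ _ P u hu huP hiso
  exact Cfsg.Agent.S0215.result P u hu huP hiso

theorem oddOrder : OddOrder.{u} := by
  intro K _ _ hK
  exact Cfsg.Agent.S0205.result hK

theorem formSolv : CentSolvCore.FormSolv.{u} := by
  intro N _ _ V h1 h2 h3 q h4 h5 h6 h7 n h8 h9 h10 h11
  exact FormSolvable.isSolvable_of_form V h1 h2 h3 q h4 h5 h6 h7 n h8 h9 h10 h11

/-- from the 3-transposition property to the unitary group -/
theorem final {G : Type u} [Group G] [Finite G] [IsSimpleGroup G] {T : Sylow 2 G}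
    {h : U5T (T : Subgroup G)} (F : U5Fus T h)
    (hgeo : ∀ x ∈ D h, ∀ y ∈ D h, x * y = y * x ∨ orderOf (x * y) = 3)
    {K : Type*} [Field K] [Fintype K] (hK : Fintype.card K = 4) :
    Nonempty (G ≃* Cfsg.PSU 5 K 2) :=
  Last.last (dvd_card h)
    (Cfsg.Agent.S1614.result (fun N hN hs => hsol h N hN hs) hperf (isThreeTranspositionClass hgeo)
      (h.d 0) (z_mem_D h) (solvable_closure F)) hK

end Cfsg.Agent.SylowU5.Final
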