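import Mathlib
import Cfsg.Agent.SylowU5.Fus

/-!
# S0513: noncommuting elements of `D` have a product of order three

`D` is the class of `z = d 0`.  From `U5Fus` and the three hypotheses `hQn` (`Q` is normal in
`C_G(z)`), `hEt` and `hDt` (`D ∩ C_G(d 1 * d 2) = {d 0, ..., d 4}`), the elements `x, y` of `D` commute or
`x * y` has order three.
-/

set_option autoImplicit false
set_option linter.style.haveILetI false

namespace Cfsg.Agent.SylowU5.Geometry

universe u

open Cfsg.Agent.SylowU5.Basic Cfsg.Agent.SylowU5.Elem Cfsg.Agent.SylowU5.SolvT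
  Cfsg.Agent.SylowU5.Fus

section General

variable {K : Type*} [Group K]

theorem conj_pow_inv {x y : K} (hx : x * x = 1) (hy : y * y = 1) (m : ℕ) :
    x * (x * y) ^ m * x⁻¹ = ((x * y) ^ m)⁻¹ := by
  have hx' : x⁻¹ = x := inv_eq_of_mul_eq_one_left hx
  have hy' : y⁻¹ = y := inv_eq_of_mul_eq_one_left hy
  have h1 : x * (x * y) * x⁻¹ = (x * y)⁻¹ := by
    rw [mul_inv_rev, hx', hy', ← mul_assoc, hx, one_mul]
  rw [← conj_pow, h1, inv_pow]

/-- the central involution of a dihedral group of order `4 * k` -/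
theorem exists_central {x y : K} (hx : x * x = 1) (hy : y * y = 1) (k : ℕ)
    (hk : 0 < k) (ho : orderOf (x * y) = 2 * k) :
    ((x * y) ^ k * (x * y) ^ k = 1 ∧ (x * y) ^ k ≠ 1) ∧
      x * (x * y) ^ k = (x * y) ^ k * x ∧ y * (x * y) ^ k = (x * y) ^ k * y := by
  have h1 : (x * y) ^ k * (x * y) ^ k = 1 := by
    rw [← pow_add, ← two_mul, ← ho, pow_orderOf_eq_one]
  have h2 : (x * y) ^ k ≠ 1 := by
    intro h
    have := orderOf_dvd_of_pow_eq_one h
    have := Nat.le_of_dvd hk this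
    omega
  have h3 : x * (x * y) ^ k = (x * y) ^ k * x := by
    have := conj_pow_inv hx hy k
    rw [inv_eq_of_mul_eq_one_left h1, mul_inv_eq_iff_eq_mul] at this
    exact this
  refine ⟨⟨h1, h2⟩, h3, ?_⟩
  have h4 : x * y * (x * y) ^ k = (x * y) ^ k * (x * y) := by
    rw [← pow_succ, ← pow_succ']
  have h5 : y = x * (x * y) := by rw [← mul_assoc, hx, one_mul]
  calc y * (x * y) ^ k = x * (x * y * (x * y) ^ k) := by rw [← mul_assoc, ← h5]
    _ = x * (x * y) ^ k * (x * y) := by rw [h4, ← mul_assoc]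
    _ = (x * y) ^ k * (x * (x * y)) := by rw [h3, mul_assoc]
    _ = (x * y) ^ k * y := by rw [← h5]

/-- involutions with a product of odd order are conjugate -/
theorem conj_of_odd {x y : K} (hx : x * x = 1) (hy : y * y = 1) (ho : Odd (orderOf (x * y))) :
    ∃ g : K, g * x * g⁻¹ = y := by
  obtain ⟨k, hk⟩ := ho
  have hx' : x⁻¹ = x := inv_eq_of_mul_eq_one_left hx
  have hy' : y⁻¹ = y := inv_eq_of_mul_eq_one_left hy
  have h1 : (x * y) ^ k * (x * y) ^ k * (x * y) = 1 := by
    rw [← pow_add, ← two_mul, ← pow_succ, ← hk, pow_orderOf_eq_one]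
  have h2 := conj_pow_inv hx hy k
  have h3 : x * ((x * y) ^ k)⁻¹ = (x * y) ^ k * x := by
    rw [← h2, hx']
    calc x * (x * (x * y) ^ k * x) = (x * x) * (x * y) ^ k * x := by simp only [mul_assoc]
      _ = (x * y) ^ k * x := by rw [hx, one_mul]
  refine ⟨(x * y) ^ k, ?_⟩
  calc (x * y) ^ k * x * ((x * y) ^ k)⁻¹ = (x * y) ^ k * (x * ((x * y) ^ k)⁻¹) := mul_assoc _ _ _
    _ = (x * y) ^ k * (x * y) ^ k * x := by rw [h3, mul_assoc]
    _ = (x * y)⁻¹ * x := by rw [eq_inv_of_mul_eq_one_left h1]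
    _ = y := by rw [mul_inv_rev, hx', hy', mul_assoc, hx, mul_one]

end General

section Local

variable {G : Type u} [Group G] [Finite G] {T : Sylow 2 G} {h : U5T (T : Subgroup G)}

omit [Finite G] in
theorem D_mul_pow {x y : G} (hx : x ∈ D h) (hy : y ∈ D h) (m : ℕ) : x * (x * y) ^ m ∈ D h := by
  induction m using Nat.twoStepInduction with
  | zero => simpa using hx
  | one => rw [pow_one, ← mul_assoc, D_sq h hx, one_mul]; exact hy
  | more m ih _ =>
    have h1 : x * (x * y) ^ (m + 2) = (x * y)⁻¹ * (x * (x * y) ^ m) * (x * y)⁻¹⁻¹ := by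
      have h2 : (x * y)⁻¹ * x = x * (x * y) := by
        rw [mul_inv_rev, D_inv h hx, D_inv h hy, mul_assoc, D_sq h hx, mul_one, ← mul_assoc, D_sq h hx,
          one_mul]
      calc x * (x * y) ^ (m + 2) = x * (x * y) * (x * y) ^ m * (x * y) := by
            rw [pow_succ, pow_succ']; simp only [mul_assoc]
        _ = _ := by rw [← h2, inv_inv]; simp only [mul_assoc]
    rw [h1]
    exact D_conj h ih _

variable (F : U5Fus T h)

omit [Finite G] in
include F in
theorem dd_conj {i j : Fin 5} (hij : i ≠ j) : ∃ g : G, g * (h.d i * h.d j) * g⁻¹ = h.d 1 * h.d 2 := by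
  obtain ⟨π, hπ, h1, h2⟩ := exists_perm_two i j hij
  obtain ⟨n, -, hn⟩ := F.E_alt π (Equiv.Perm.mem_alternatingGroup.mpr hπ)
  refine ⟨n, ?_⟩
  calc n * (h.d i * h.d j) * n⁻¹ = (n * h.d i * n⁻¹) * (n * h.d j * n⁻¹) := by group
    _ = h.d 1 * h.d 2 := by rw [hn, hn, h1, h2]

include F in
/-- every involution is conjugate to `d 0` or to `d 1 * d 2` -/
theorem invol_cases {s : G} (hs : s * s = 1) (hs1 : s ≠ 1) :
    s ∈ D h ∨ ∃ g : G, g * s * g⁻¹ = h.d 1 * h.d 2 := by
  have hp : IsPGroup 2 ↥(Subgroup.zpowers s ⊔ Subgroup.zpowers s) := isPGroup_pair hs hs rfl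
  obtain ⟨g, hg⟩ := exists_conj_mem T _ hp
  have h1 := hg s (Subgroup.mem_sup_left (Subgroup.mem_zpowers s))
  set s' := g * s * g⁻¹ with hs'
  have hs'2 : s' * s' = 1 := by
    calc s' * s' = g * (s * s) * g⁻¹ := by rw [hs']; group
      _ = 1 := by rw [hs]; group
  have hs'1 : s' ≠ 1 := by
    intro h2
    apply hs1
    have : s = g⁻¹ * s' * g := by rw [hs']; group
    rw [this, h2]; group
  rcases h.invol s' h1 hs'2 with hE | hQ
  · rcases h.E_cases s' hE with h2 | ⟨i, hi⟩ | ⟨i, j, hij, hx⟩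
    · exact absurd h2 hs'1
    · left
      apply D_of_conj h g
      rw [← hs', hi]
      exact d_mem_D F i
    · right
      obtain ⟨k, hk⟩ := dd_conj F hij
      exact ⟨k * g, by rw [conj_mul_eq, ← hs', hx, hk]⟩
  · by_cases h2 : s' = h.d 0
    · left
      apply D_of_conj h g
      rw [← hs', h2]
      exact z_mem_D h
    · right
      obtain ⟨c, -, hc⟩ := F.u_fus s' hQ hs'2 hs'1 h2
      exact ⟨c * g, by rw [conj_mul_eq, ← hs', hc]⟩

variable (hDt : ∀ x ∈ D h, x * (h.d 1 * h.d 2) = h.d 1 * h.d 2 * x → ∃ i, x = h.d i)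

omit [Finite G] in
include hDt in
/-- the elements of `D` centralizing a conjugate of `d 1 * d 2` -/
theorem mem_cent {g i : G} (hg : g * i * g⁻¹ = h.d 1 * h.d 2) {x : G} (hx : x ∈ D h)
    (hxi : x * i = i * x) : ∃ k, x = g⁻¹ * h.d k * g := by
  obtain ⟨k, hk⟩ := hDt (g * x * g⁻¹) (D_conj h hx g) (by
    rw [← hg]
    calc g * x * g⁻¹ * (g * i * g⁻¹) = g * (x * i) * g⁻¹ := by group
      _ = g * i * g⁻¹ * (g * x * g⁻¹) := by rw [hxi]; group)
  exact ⟨k, by rw [← hk]; group⟩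

omit [Finite G] in
include hDt in
theorem cent_comm {g i : G} (hg : g * i * g⁻¹ = h.d 1 * h.d 2) {x y : G} (hx : x ∈ D h)
    (hxi : x * i = i * x) (hy : y ∈ D h) (hyi : y * i = i * y) : x * y = y * x := by
  obtain ⟨k, hk⟩ := mem_cent hDt hg hx hxi
  obtain ⟨l, hl⟩ := mem_cent hDt hg hy hyi
  rw [hk, hl]
  calc g⁻¹ * h.d k * g * (g⁻¹ * h.d l * g) = g⁻¹ * (h.d k * h.d l) * g := by group
    _ = g⁻¹ * h.d l * g * (g⁻¹ * h.d k * g) := by rw [d_comm h k l]; group

include F hDt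

/-- two elements of `D` which centralize the product of two distinct commuting elements of `D` commute -/
theorem cent_pair_comm {a b : G} (ha : a ∈ D h) (hb : b ∈ D h) (hab : a * b = b * a) (hne : a ≠ b)
    {x y : G} (hx : x ∈ D h) (hxi : x * (a * b) = a * b * x) (hy : y ∈ D h)
    (hyi : y * (a * b) = a * b * y) : x * y = y * x := by
  obtain ⟨g, h1, h2⟩ := exists_conj_pair F ha hb hab hne
  have hg : g * (a * b) * g⁻¹ = h.d 1 * h.d 2 := by rw [← h1, ← h2]; group
  exact cent_comm hDt hg hx hxi hy hyi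

/-- (i) noncommuting elements of `D` have a product of odd order -/
theorem odd_order {x y : G} (hx : x ∈ D h) (hy : y ∈ D h) (hxy : x * y ≠ y * x) :
    Odd (orderOf (x * y)) := by
  by_contra hodd
  rw [Nat.not_odd_iff_even] at hodd
  obtain ⟨k, hk⟩ := hodd
  rw [← two_mul] at hk
  have hk0 : 0 < k := by
    have := orderOf_pos (x * y)
    omega
  obtain ⟨⟨h1, h2⟩, h3, h4⟩ := exists_central (D_sq h hx) (D_sq h hy) k hk0 hk
  set i := (x * y) ^ k with hi
  have hxi : x * i ∈ D h := D_mul_pow hx hy k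
  have hcomm : x * (x * i) = x * i * x := by rw [mul_assoc, ← h3]
  have hne : x ≠ x * i := by
    intro h5
    exact h2 (mul_eq_left.mp h5.symm)
  have hprod : x * (x * i) = i := by rw [← mul_assoc, D_sq h hx, one_mul]
  apply hxy
  exact cent_pair_comm F hDt hx hxi hcomm hne hx (by rw [hprod]; exact h3) hy
    (by rw [hprod]; exact h4)

/-- (ii) an element of `D` commutes with one of `d 1, ..., d 4` -/
theorem exists_comm {x : G} (hx : x ∈ D h) (hxz : x * h.d 0 ≠ h.d 0 * x) :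
    ∃ i, i ≠ 0 ∧ x * h.d i = h.d i * x := by
  classical
  -- `t' = d 0 * d 1`
  obtain ⟨r, hr⟩ := dd_conj F (i := 0) (j := 1) (by decide)
  set t := h.d 0 * h.d 1 with ht
  have htt : t * t = 1 := h.E_sq _ (dd_mem h 0 1)
  have htD : t ∉ D h := dd_not_mem_D F (by decide)
  have hcent : ∀ y ∈ D h, y * t = t * y → ∃ k, y = h.d k := by
    intro y hy hyt
    have h0 : h.d 0 * t = t * h.d 0 := E_comm h (h.d_mem 0) (dd_mem h 0 1)
    obtain ⟨k, hk⟩ := mem_cent hDt hr hy hyt
    -- the five elements `r⁻¹ * d k * r` are the five `d k`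
    have hall : ∀ l, ∃ m, h.d l = r⁻¹ * h.d m * r := fun l =>
      mem_cent hDt hr (d_mem_D F l) (E_comm h (h.d_mem l) (dd_mem h 0 1))
    choose f hf using hall
    have hfi : Function.Injective f := by
      intro a b hab
      exact h.d_inj _ _ (by rw [hf a, hf b, hab])
    obtain ⟨l, hl⟩ := (Finite.injective_iff_surjective.mp hfi) k
    exact ⟨l, by rw [hk, ← hl, ← hf l]⟩
  clear_value t
  have heven : ¬ Odd (orderOf (t * x)) := by
    intro hodd
    obtain ⟨g, hg⟩ := conj_of_odd htt (D_sq h hx) hodd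
    exact htD (D_of_conj h g (by rw [hg]; exact hx))
  rw [Nat.not_odd_iff_even] at heven
  obtain ⟨k, hk⟩ := heven
  rw [← two_mul] at hk
  have hk0 : 0 < k := by
    have := orderOf_pos (t * x)
    omega
  obtain ⟨⟨h1, h2⟩, h3, h4⟩ := exists_central htt (D_sq h hx) k hk0 hk
  set i := (t * x) ^ k with hi
  clear_value i
  rcases invol_cases F h1 h2 with hiD | ⟨g, hg⟩
  · obtain ⟨l, hl⟩ := hcent i hiD h3.symm
    rw [hl] at h4
    refine ⟨l, ?_, h4⟩
    rintro rfl
    exact hxz h4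
  · -- `t` acts on the five elements of `D` in the centralizer of `i`
    have hmemD : ∀ l, g⁻¹ * h.d l * g ∈ D h := fun l => by
      have := D_conj h (d_mem_D F l) g⁻¹
      rwa [inv_inv] at this
    have hmemi : ∀ l, g⁻¹ * h.d l * g * i = i * (g⁻¹ * h.d l * g) := fun l => by
      have h5 : i = g⁻¹ * (h.d 1 * h.d 2) * g := by rw [← hg]; group
      rw [h5]
      calc g⁻¹ * h.d l * g * (g⁻¹ * (h.d 1 * h.d 2) * g) = g⁻¹ * (h.d l * (h.d 1 * h.d 2)) * g := by
            group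
        _ = g⁻¹ * (h.d 1 * h.d 2) * g * (g⁻¹ * h.d l * g) := by
            rw [E_comm h (h.d_mem l) (dd_mem h 1 2)]; group
    have hti : t⁻¹ = t := inv_eq_of_mul_eq_one_left htt
    have hall : ∀ l, ∃ m, t * (g⁻¹ * h.d l * g) * t⁻¹ = g⁻¹ * h.d m * g := fun l =>
      mem_cent hDt hg (D_conj h (hmemD l) t) (by
        calc t * (g⁻¹ * h.d l * g) * t⁻¹ * i = t * (g⁻¹ * h.d l * g) * (t * i) := by
              rw [hti]; simp only [mul_assoc]
          _ = t * (g⁻¹ * h.d l * g * i) * t := by rw [h3]; simp only [mul_assoc]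
          _ = t * i * (g⁻¹ * h.d l * g) * t := by rw [hmemi]; simp only [mul_assoc]
          _ = i * (t * (g⁻¹ * h.d l * g) * t⁻¹) := by
              rw [h3, hti]; simp only [mul_assoc])
    choose f hf using hall
    have hinv : Function.Involutive f := by
      intro l
      have h5 := hf (f l)
      rw [← hf l] at h5
      have h6 : t * (t * (g⁻¹ * h.d l * g) * t⁻¹) * t⁻¹ = g⁻¹ * h.d l * g := by
        rw [hti]
        calc t * (t * (g⁻¹ * h.d l * g) * t) * t = (t * t) * (g⁻¹ * h.d l * g) * (t * t) := by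
              simp only [mul_assoc]
          _ = _ := by rw [htt, one_mul, mul_one]
      rw [h6] at h5
      exact (h.d_inj _ _ (mul_left_cancel (mul_right_cancel h5))).symm
    obtain ⟨l, hl⟩ : ∃ l, f l = l := by
      haveI : Fact (Nat.Prime 2) := ⟨Nat.prime_two⟩
      have := Equiv.Perm.exists_fixed_point_of_prime (p := 2) (n := 1) (α := Fin 5)
        (by decide) (σ := hinv.toPerm) (by
          ext a
          simp [sq, Equiv.Perm.mul_apply, hinv a])
      exact this
    have h5 := hf l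
    rw [hl] at h5
    have h6 : g⁻¹ * h.d l * g * t = t * (g⁻¹ * h.d l * g) := (mul_inv_eq_iff_eq_mul.mp h5).symm
    obtain ⟨m, hm⟩ := hcent _ (hmemD l) h6
    have h7 : x * (g⁻¹ * h.d l * g) = g⁻¹ * h.d l * g * x :=
      cent_comm hDt hg hx h4 (hmemD l) (hmemi l)
    rw [hm] at h7
    refine ⟨m, ?_, h7⟩
    rintro rfl
    exact hxz h7

omit F hDt

variable (h) in
/-- the elements of `D` different from `y` which commute with `y` -/
def Dc (y : G) : Set G := {w | w ∈ D h ∧ w ≠ y ∧ w * y = y * w}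

variable (hQn : ∀ c, c * h.d 0 = h.d 0 * c → ∀ q ∈ h.Q, c * q * c⁻¹ ∈ h.Q)

theorem card_U (h : U5T (T : Subgroup G)) :
    {u : G | u ∈ h.Q ∧ u * u = 1 ∧ u ≠ 1 ∧ u ≠ h.d 0}.ncard = 54 := by
  classical
  set U : Set G := {u | u ∈ h.Q ∧ u * u = 1 ∧ u ≠ 1 ∧ u ≠ h.d 0} with hU
  have h1 : {x : G | x ∈ h.Q ∧ x * x = 1} = insert 1 (insert (h.d 0) U) := by
    ext x
    simp only [Set.mem_ofPred_eq, Set.mem_insert_iff, hU]
    constructor
    · rintro ⟨h1, h2⟩
      by_cases h3 : x = 1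
      · exact Or.inl h3
      by_cases h4 : x = h.d 0
      · exact Or.inr (Or.inl h4)
      exact Or.inr (Or.inr ⟨h1, h2, h3, h4⟩)
    · rintro (rfl | rfl | ⟨h1, h2, -, -⟩)
      · exact ⟨h.Q.one_mem, mul_one 1⟩
      · exact ⟨h.z_mem_Q, d_sq h 0⟩
      · exact ⟨h1, h2⟩
  have h2 : {x : G | x ∈ h.Q ∧ x * x = 1}.ncard = 56 := h.Q_card_invol
  rw [h1, Set.ncard_insert_of_notMem, Set.ncard_insert_of_notMem] at h2
  · omega
  · intro h3
    exact h3.2.2.2 rfl
  · intro h3
    rcases h3 with h3 | h3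
    · exact h.d_ne_one 0 h3.symm
    · exact h3.2.2.1 rfl

include F hDt hQn

/-- (iii) `z` commutes with 36 further elements of `D` -/
theorem card_Dz : (Dc h (h.d 0)).ncard = 36 := by
  classical
  set U : Set G := {u | u ∈ h.Q ∧ u * u = 1 ∧ u ≠ 1 ∧ u ≠ h.d 0} with hU
  have hUcard : U.ncard = 54 := card_U h
  set s := (Set.toFinite U).toFinset with hs
  set t := (Set.toFinite (Dc h (h.d 0))).toFinset with ht
  have hscard : s.card = 54 := by rw [← hUcard, Set.ncard_eq_toFinset_card U]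
  have htcard : t.card = (Dc h (h.d 0)).ncard := by
    rw [Set.ncard_eq_toFinset_card (Dc h (h.d 0))]
  have key := Finset.card_mul_eq_card_mul (s := s) (t := t) (m := 4) (n := 6)
    (fun u w : G => w * u = u * w) ?_ ?_
  · rw [hscard, htcard] at key
    omega
  · intro u hu
    have hu' : u ∈ U := (Set.Finite.mem_toFinset _).mp hu
    obtain ⟨c, hc1, hc2⟩ := F.u_fus u hu'.1 hu'.2.1 hu'.2.2.1 hu'.2.2.2
    have hc0 : c⁻¹ * h.d 0 * c = h.d 0 := by
      rw [mul_assoc, ← hc1, ← mul_assoc, inv_mul_cancel, one_mul]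
    have himg : t.bipartiteAbove (fun u w : G => w * u = u * w) u =
        Finset.image (fun k => c⁻¹ * h.d k * c) ({1, 2, 3, 4} : Finset (Fin 5)) := by
      ext w
      rw [Finset.mem_bipartiteAbove, Finset.mem_image]
      constructor
      · rintro ⟨hw, hwu⟩
        have hw' : w ∈ Dc h (h.d 0) := (Set.Finite.mem_toFinset _).mp hw
        obtain ⟨k, hk⟩ := mem_cent hDt hc2 hw'.1 hwu
        refine ⟨k, ?_, hk.symm⟩
        have hk0 : k ≠ 0 := by
          rintro rfl
          exact hw'.2.1 (hk.trans hc0)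
        revert hk0
        clear hk
        revert k
        decide
      · rintro ⟨k, hk, rfl⟩
        have hk0 : k ≠ 0 := by
          rintro rfl
          revert hk
          decide
        refine ⟨(Set.Finite.mem_toFinset _).mpr ⟨?_, ?_, ?_⟩, ?_⟩
        · have := D_conj h (d_mem_D F k) c⁻¹
          rwa [inv_inv] at this
        · intro h1
          rw [← hc0] at h1
          exact hk0 (h.d_inj _ _ (mul_left_cancel (mul_right_cancel h1)))
        · calc c⁻¹ * h.d k * c * h.d 0 = c⁻¹ * h.d k * c * (c⁻¹ * h.d 0 * c) := by rw [hc0]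
            _ = c⁻¹ * (h.d k * h.d 0) * c := by group
            _ = c⁻¹ * h.d 0 * c * (c⁻¹ * h.d k * c) := by rw [d_comm h k 0]; group
            _ = h.d 0 * (c⁻¹ * h.d k * c) := by rw [hc0]
        · have h5 : u = c⁻¹ * (h.d 1 * h.d 2) * c := by rw [← hc2]; group
          rw [h5]
          calc c⁻¹ * h.d k * c * (c⁻¹ * (h.d 1 * h.d 2) * c) = c⁻¹ * (h.d k * (h.d 1 * h.d 2)) * c := by
                group
            _ = c⁻¹ * (h.d 1 * h.d 2) * c * (c⁻¹ * h.d k * c) := by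
                rw [E_comm h (h.d_mem k) (dd_mem h 1 2)]; group
    rw [himg, Finset.card_image_of_injective]
    · decide
    · intro a b hab
      exact h.d_inj _ _ (mul_left_cancel (mul_right_cancel hab))
  · intro w hw
    have hw' : w ∈ Dc h (h.d 0) := (Set.Finite.mem_toFinset _).mp hw
    obtain ⟨g, hg1, hg2⟩ := exists_conj_pair' F (z_mem_D h) hw'.1 hw'.2.2.symm (Ne.symm hw'.2.1)
    have hgz : g * h.d 0 = h.d 0 * g := mul_inv_eq_iff_eq_mul.mp hg1
    have hgz' : g⁻¹ * h.d 0 = h.d 0 * g⁻¹ := by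
      rw [inv_mul_eq_iff_eq_mul, ← mul_assoc, hgz, mul_inv_cancel_right]
    have hw1 : w = g⁻¹ * h.d 1 * g := by rw [← hg2]; group
    have himg : s.bipartiteBelow (fun u w : G => w * u = u * w) w =
        Finset.image (fun p : Fin 5 × Fin 5 => g⁻¹ * (h.d p.1 * h.d p.2) * g)
          (Finset.univ.filter fun p : Fin 5 × Fin 5 => p.1 ≠ 0 ∧ p.1 < p.2) := by
      ext u
      rw [Finset.mem_bipartiteBelow, Finset.mem_image]
      constructor
      · rintro ⟨hu, hwu⟩
        have hu' : u ∈ U := (Set.Finite.mem_toFinset _).mp hu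
        set u' := g * u * g⁻¹ with hu1
        have huu : u = g⁻¹ * u' * g := by rw [hu1]; group
        have hu'Q : u' ∈ h.Q := hQn g hgz u hu'.1
        have hu'2 : u' * u' = 1 := by
          calc u' * u' = g * (u * u) * g⁻¹ := by rw [hu1]; group
            _ = 1 := by rw [hu'.2.1]; group
        have hu'd : u' * h.d 1 = h.d 1 * u' := by
          rw [← hg2, hu1]
          calc g * u * g⁻¹ * (g * w * g⁻¹) = g * (u * w) * g⁻¹ := by group
            _ = g * w * g⁻¹ * (g * u * g⁻¹) := by rw [← hwu]; group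
        have hu'V := h.cent_d 1 (by decide) u' (h.Q_le hu'Q) hu'd
        have hu'E := h.V_invol u' hu'V hu'2
        rcases mem_E_inter_Q h hu'E hu'Q with h1 | h1 | ⟨i, j, hi, hj, hij, h1⟩
        · exfalso
          apply hu'.2.2.1
          rw [huu, h1]; group
        · exfalso
          apply hu'.2.2.2
          rw [huu, h1, hgz']; group
        · rcases lt_or_gt_of_ne hij with hlt | hlt
          · exact ⟨(i, j), by simp [hi, hlt], by rw [huu, h1]⟩
          · exact ⟨(j, i), by simp [hj, hlt], by rw [huu, h1, d_comm h i j]⟩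
      · rintro ⟨⟨i, j⟩, hp, rfl⟩
        simp only [Finset.mem_filter, Finset.mem_univ, true_and] at hp
        obtain ⟨hi, hlt⟩ := hp
        have hj : j ≠ 0 := by
          rintro rfl
          exact absurd hlt (by simp)
        have hij : i ≠ j := hlt.ne
        refine ⟨(Set.Finite.mem_toFinset _).mpr ⟨?_, ?_, ?_, ?_⟩, ?_⟩
        · have := hQn g⁻¹ hgz' _ (h.dd_mem_Q i j hi hj)
          rwa [inv_inv] at this
        · calc g⁻¹ * (h.d i * h.d j) * g * (g⁻¹ * (h.d i * h.d j) * g)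
              = g⁻¹ * ((h.d i * h.d j) * (h.d i * h.d j)) * g := by group
            _ = 1 := by rw [h.E_sq _ (dd_mem h i j)]; group
        · intro h1
          apply h.dd_ne_one i j hij
          have : h.d i * h.d j = g * (g⁻¹ * (h.d i * h.d j) * g) * g⁻¹ := by group
          rw [this, h1]; group
        · intro h1
          apply h.dd_ne_d i j 0 hij
          have : h.d i * h.d j = g * (g⁻¹ * (h.d i * h.d j) * g) * g⁻¹ := by group
          rw [this, h1, hgz]; group
        · rw [hw1]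
          calc g⁻¹ * h.d 1 * g * (g⁻¹ * (h.d i * h.d j) * g) = g⁻¹ * (h.d 1 * (h.d i * h.d j)) * g := by
                group
            _ = g⁻¹ * (h.d i * h.d j) * g * (g⁻¹ * h.d 1 * g) := by
                rw [E_comm h (h.d_mem 1) (dd_mem h i j)]; group
    rw [himg, Finset.card_image_of_injOn]
    · decide
    · rintro ⟨i, j⟩ hp ⟨k, l⟩ hq hpq
      simp only [Finset.coe_filter, Finset.mem_univ, true_and, Set.mem_ofPred_eq] at hp hq
      have h1 : h.d i * h.d j = h.d k * h.d l := mul_left_cancel (mul_right_cancel hpq)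
      rcases h.dd_inj i j k l hp.2.ne hq.2.ne h1 with ⟨h2, h3⟩ | ⟨h2, h3⟩
      · rw [h2, h3]
      · exfalso
        subst h2 h3
        exact absurd hp.2 (not_lt.mpr hq.2.le)

omit hQn
omit [Finite G] in
/-- the elements of `D` commuting with `z` and `d 1` -/
theorem eq_d_of_comm {x : G} (hx : x ∈ D h) (h0 : x * h.d 0 = h.d 0 * x)
    (h1 : x * h.d 1 = h.d 1 * x) : ∃ k, x = h.d k := by
  by_contra hne
  push Not at hne
  obtain ⟨r, hr⟩ := dd_conj F (i := 0) (j := 1) (by decide)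
  have hx01 : x * (h.d 0 * h.d 1) = h.d 0 * h.d 1 * x := by
    rw [← mul_assoc, h0, mul_assoc, h1, mul_assoc]
  obtain ⟨k, hk⟩ := mem_cent hDt hr hx hx01
  have hall : ∀ l, ∃ m, h.d l = r⁻¹ * h.d m * r := fun l =>
    mem_cent hDt hr (d_mem_D F l) (E_comm h (h.d_mem l) (dd_mem h 0 1))
  choose f hf using hall
  have hfi : Function.Injective f := by
    intro a b hab
    exact h.d_inj _ _ (by rw [hf a, hf b, hab])
  obtain ⟨l, hl⟩ := (Finite.injective_iff_surjective.mp hfi) k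
  exact hne l (by rw [hk, ← hl, ← hf l])

omit F hDt in
omit [Finite G] in
/-- `Dc` is compatible with conjugation -/
theorem Dc_conj (h : U5T (T : Subgroup G)) (g y : G) :
    (Dc h (g * y * g⁻¹)).ncard = (Dc h y).ncard := by
  have h1 : Dc h (g * y * g⁻¹) = (fun w => g * w * g⁻¹) '' Dc h y := by
    ext w
    constructor
    · rintro ⟨h1, h2, h3⟩
      refine ⟨g⁻¹ * w * g, ⟨?_, ?_, ?_⟩, ?_⟩
      · have := D_conj h h1 g⁻¹
        rwa [inv_inv] at this
      · intro h4
        apply h2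
        rw [← h4]; group
      · calc g⁻¹ * w * g * y = g⁻¹ * (w * (g * y * g⁻¹)) * g := by group
          _ = y * (g⁻¹ * w * g) := by rw [h3]; group
      · group
    · rintro ⟨v, ⟨h1, h2, h3⟩, rfl⟩
      refine ⟨D_conj h h1 g, ?_, ?_⟩
      · intro h4
        exact h2 (mul_left_cancel (mul_right_cancel h4))
      · calc g * v * g⁻¹ * (g * y * g⁻¹) = g * (v * y) * g⁻¹ := by group
          _ = g * y * g⁻¹ * (g * v * g⁻¹) := by rw [h3]; group
  rw [h1]
  apply Set.ncard_image_of_injective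
  intro a b hab
  exact mul_left_cancel (mul_right_cancel hab)

include hQn in
/-- `d 1` commutes with 32 elements of `D` not commuting with `z` -/
theorem card_X : {w : G | w ∈ D h ∧ w * h.d 1 = h.d 1 * w ∧ w * h.d 0 ≠ h.d 0 * w}.ncard = 32 := by
  set X := {w : G | w ∈ D h ∧ w * h.d 1 = h.d 1 * w ∧ w * h.d 0 ≠ h.d 0 * w} with hX
  have h36 : (Dc h (h.d 1)).ncard = 36 := by
    obtain ⟨g, hg⟩ := d_mem_D F 1
    rw [hg, Dc_conj h]
    exact card_Dz F hDt hQn
  have h1 : Dc h (h.d 1) = insert (h.d 0) (insert (h.d 2) (insert (h.d 3) (insert (h.d 4) X))) := by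
    ext w
    simp only [Set.mem_insert_iff]
    constructor
    · rintro ⟨h1, h2, h3⟩
      by_cases h4 : w * h.d 0 = h.d 0 * w
      · obtain ⟨k, hk⟩ := eq_d_of_comm F hDt h1 h4 h3
        subst hk
        fin_cases k
        · exact Or.inl rfl
        · exact absurd rfl h2
        · exact Or.inr (Or.inl rfl)
        · exact Or.inr (Or.inr (Or.inl rfl))
        · exact Or.inr (Or.inr (Or.inr (Or.inl rfl)))
      · exact Or.inr (Or.inr (Or.inr (Or.inr ⟨h1, h3, h4⟩)))
    · have hd : ∀ k, k ≠ 1 → h.d k ∈ Dc h (h.d 1) := fun k hk =>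
        ⟨d_mem_D F k, fun h5 => hk (h.d_inj _ _ h5), d_comm h k 1⟩
      rintro (rfl | rfl | rfl | rfl | ⟨h1, h2, h3⟩)
      · exact hd 0 (by decide)
      · exact hd 2 (by decide)
      · exact hd 3 (by decide)
      · exact hd 4 (by decide)
      · refine ⟨h1, ?_, h2⟩
        rintro rfl
        exact h3 (d_comm h 1 0)
  have hXd : ∀ k, h.d k ∉ X := fun k hk => hk.2.2 (d_comm h k 0)
  have hne : ∀ k l, k ≠ l → h.d k ≠ h.d l := fun k l hkl h5 => hkl (h.d_inj _ _ h5)
  rw [h1, Set.ncard_insert_of_notMem, Set.ncard_insert_of_notMem, Set.ncard_insert_of_notMem,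
    Set.ncard_insert_of_notMem] at h36
  · omega
  · exact hXd 4
  · rintro (h5 | h5)
    · exact hne 3 4 (by decide) h5
    · exact hXd 3 h5
  · rintro (h5 | h5 | h5)
    · exact hne 2 3 (by decide) h5
    · exact hne 2 4 (by decide) h5
    · exact hXd 2 h5
  · rintro (h5 | h5 | h5 | h5)
    · exact hne 0 2 (by decide) h5
    · exact hne 0 3 (by decide) h5
    · exact hne 0 4 (by decide) h5
    · exact hXd 0 h5

omit [Finite G] in
/-- nontrivial elements of `Q` commute with no element of `D` outside the centralizer of `z` -/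
theorem semiregular {q x : G} (hq : q ∈ h.Q) (hq1 : q ≠ 1) (hx : x ∈ D h)
    (hxz : x * h.d 0 ≠ h.d 0 * x) : q * x ≠ x * q := by
  intro hqx
  rcases h.Q_sq q hq with h2 | h2
  · have hqz : q ≠ h.d 0 := by
      rintro rfl
      exact hxz hqx.symm
    obtain ⟨c, hc1, hc2⟩ := F.u_fus q hq h2 hq1 hqz
    apply hxz
    exact cent_comm hDt hc2 hx hqx.symm (z_mem_D h) (h.z_comm q (h.Q_le hq)).symm
  · apply hxz
    rw [← h2, ← mul_assoc, ← hqx, mul_assoc, ← hqx, ← mul_assoc]

omit F hDt in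
omit [Finite G] in
/-- `Q` is transitive on `d 1, ..., d 4` -/
theorem Q_trans (h : U5T (T : Subgroup G)) {j : Fin 5} (hj : j ≠ 0) :
    ∃ q ∈ h.Q, q * h.d 1 * q⁻¹ = h.d j := by
  obtain ⟨g, hg, hgd⟩ := h.conj_d_trans j hj
  by_cases hgV : g ∈ h.V
  · refine ⟨1, h.Q.one_mem, ?_⟩
    rw [← hgd, V_comm h hgV (h.d_mem 1)]; group
  · obtain ⟨u, huQ, -, huV⟩ := h.exists_u g hg hgV
    refine ⟨u, huQ, ?_⟩
    have h1 : u * h.d 1 * u⁻¹ = (u * g⁻¹) * (g * h.d 1 * g⁻¹) * (u * g⁻¹)⁻¹ := by group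
    rw [h1, hgd, V_comm h huV (h.d_mem j)]; group

omit F hDt in
/-- the centralizer of `d 1` in `Q` has at least 32 elements -/
theorem card_CQ (h : U5T (T : Subgroup G)) :
    32 ≤ {q : G | q ∈ h.Q ∧ q * h.d 1 = h.d 1 * q}.ncard := by
  classical
  haveI := Fintype.ofFinite G
  have hall : ∀ g : G, ∃ k : Fin 5, g ∈ h.Q → g * h.d 1 * g⁻¹ = h.d k := by
    intro g
    by_cases hg : g ∈ h.Q
    · obtain ⟨k, hk⟩ := h.conj_d g (h.Q_le hg) 1
      exact ⟨k, fun _ => hk⟩
    · exact ⟨0, fun h => absurd h hg⟩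
  choose f hf using hall
  have hbound := Finset.card_le_mul_card_image_of_maps_to
    (s := Finset.univ.filter fun g : G => g ∈ h.Q) (t := ({1, 2, 3, 4} : Finset (Fin 5))) (f := f)
    (fun g hg => by
      have hg' := (Finset.mem_filter.mp hg).2
      have h1 := hf g hg'
      have h2 : f g ≠ 0 := by
        intro h3
        rw [h3, mul_inv_eq_iff_eq_mul, ← h.z_comm g (h.Q_le hg')] at h1
        exact absurd (h.d_inj 1 0 (mul_left_cancel h1)) (by decide)
      revert h2
      generalize f g = k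
      revert k
      decide)
    ({q : G | q ∈ h.Q ∧ q * h.d 1 = h.d 1 * q}.ncard) (fun k _ => by
      by_cases hne : ((Finset.univ.filter fun g : G => g ∈ h.Q).filter fun g => f g = k).Nonempty
      · obtain ⟨r, hr⟩ := hne
        rw [Finset.mem_filter, Finset.mem_filter] at hr
        rw [Set.ncard_eq_toFinset_card']
        apply Finset.card_le_card_of_injOn (fun g => r⁻¹ * g)
        · intro g hg
          rw [Finset.mem_coe, Finset.mem_filter, Finset.mem_filter] at hg
          simp only [Finset.mem_coe, Set.mem_toFinset, Set.mem_ofPred_eq]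
          refine ⟨h.Q.mul_mem (h.Q.inv_mem hr.1.2) hg.1.2, ?_⟩
          have h1 := hf g hg.1.2
          have h2 := hf r hr.1.2
          rw [hg.2] at h1
          rw [hr.2, ← h1] at h2
          have h3 : g * h.d 1 = r * h.d 1 * r⁻¹ * g := by rw [h2]; group
          calc r⁻¹ * g * h.d 1 = r⁻¹ * (g * h.d 1) := by group
            _ = h.d 1 * (r⁻¹ * g) := by rw [h3]; group
        · intro a _ b _ hab
          exact mul_left_cancel hab
      · rw [Finset.not_nonempty_iff_eq_empty] at hne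
        rw [hne, Finset.card_empty]
        exact Nat.zero_le _)
  have hQ : (Finset.univ.filter fun g : G => g ∈ h.Q).card = 128 := by
    rw [← h.card_Q, Nat.card_eq_fintype_card, Fintype.card_subtype]
  rw [hQ] at hbound
  have h4 : ({1, 2, 3, 4} : Finset (Fin 5)).card = 4 := by decide
  rw [h4] at hbound
  omega

include hQn in
/-- `Q` is transitive on the elements of `D` not commuting with `z` -/
theorem trans_D {x y : G} (hx : x ∈ D h) (hxz : x * h.d 0 ≠ h.d 0 * x) (hy : y ∈ D h)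
    (hyz : y * h.d 0 ≠ h.d 0 * y) : ∃ q ∈ h.Q, q * x * q⁻¹ = y := by
  classical
  -- reduction to elements commuting with `d 1`
  have hred : ∀ w ∈ D h, w * h.d 0 ≠ h.d 0 * w → ∃ q ∈ h.Q, q * w * q⁻¹ ∈
      {w : G | w ∈ D h ∧ w * h.d 1 = h.d 1 * w ∧ w * h.d 0 ≠ h.d 0 * w} := by
    intro w hw hwz
    obtain ⟨i, hi, hwi⟩ := exists_comm F hDt hw hwz
    obtain ⟨q, hq, hqi⟩ := Q_trans h hi
    have hqz : q⁻¹ * h.d 0 = h.d 0 * q⁻¹ := h.z_comm _ (h.Q_le (h.Q.inv_mem hq))
    have hqz' : q * h.d 0 = h.d 0 * q := h.z_comm _ (h.Q_le hq)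
    refine ⟨q⁻¹, h.Q.inv_mem hq, D_conj h hw _, ?_, ?_⟩
    · have h1 : h.d 1 = q⁻¹ * h.d i * q := by rw [← hqi]; group
      rw [h1, inv_inv]
      calc q⁻¹ * w * q * (q⁻¹ * h.d i * q) = q⁻¹ * (w * h.d i) * q := by group
        _ = q⁻¹ * h.d i * q * (q⁻¹ * w * q) := by rw [hwi]; group
    · intro h1
      apply hwz
      have h2 : h.d 0 = q * h.d 0 * q⁻¹ := by rw [hqz']; group
      rw [inv_inv] at h1
      calc w * h.d 0 = q * (q⁻¹ * w * q * (q⁻¹ * h.d 0 * q)) * q⁻¹ := by group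
        _ = q * (q⁻¹ * w * q * h.d 0) * q⁻¹ := by rw [hqz]; group
        _ = q * (h.d 0 * (q⁻¹ * w * q)) * q⁻¹ := by rw [h1]
        _ = q * h.d 0 * q⁻¹ * w := by group
        _ = h.d 0 * w := by rw [← h2]
  obtain ⟨q1, hq1, hx1⟩ := hred x hx hxz
  obtain ⟨q2, hq2, hy1⟩ := hred y hy hyz
  set X := {w : G | w ∈ D h ∧ w * h.d 1 = h.d 1 * w ∧ w * h.d 0 ≠ h.d 0 * w} with hX
  set C := {q : G | q ∈ h.Q ∧ q * h.d 1 = h.d 1 * q} with hC
  set x' := q1 * x * q1⁻¹ with hx'
  have hsurj : X ⊆ (fun q => q * x' * q⁻¹) '' C := by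
    have hmaps : (fun q => q * x' * q⁻¹) '' C ⊆ X := by
      rintro _ ⟨q, ⟨hqQ, hqd⟩, rfl⟩
      have hqz : q * h.d 0 = h.d 0 * q := h.z_comm _ (h.Q_le hqQ)
      have hqd' : q⁻¹ * h.d 1 = h.d 1 * q⁻¹ := by
        rw [inv_mul_eq_iff_eq_mul, ← mul_assoc, hqd, mul_inv_cancel_right]
      have hqz' : q⁻¹ * h.d 0 = h.d 0 * q⁻¹ := h.z_comm _ (h.Q_le (h.Q.inv_mem hqQ))
      refine ⟨D_conj h hx1.1 q, ?_, ?_⟩
      · calc q * x' * q⁻¹ * h.d 1 = q * x' * (q⁻¹ * h.d 1) := by group
          _ = q * (x' * h.d 1) * q⁻¹ := by rw [hqd']; group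
          _ = q * h.d 1 * x' * q⁻¹ := by rw [hx1.2.1]; group
          _ = h.d 1 * (q * x' * q⁻¹) := by rw [hqd]; group
      · intro h1
        apply hx1.2.2
        have h2 : x' * h.d 0 = q⁻¹ * (q * x' * q⁻¹ * h.d 0) * q := by
          calc x' * h.d 0 = x' * (h.d 0 * q⁻¹) * q := by group
            _ = x' * (q⁻¹ * h.d 0) * q := by rw [hqz']
            _ = _ := by group
        rw [h2, h1]
        calc q⁻¹ * (h.d 0 * (q * x' * q⁻¹)) * q = q⁻¹ * h.d 0 * q * x' := by group
          _ = h.d 0 * x' := by rw [hqz']; group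
    have hinj : Set.InjOn (fun q => q * x' * q⁻¹) C := by
      intro a ha b hb hab
      by_contra hne
      have hab' : a * x' * a⁻¹ = b * x' * b⁻¹ := hab
      refine semiregular F hDt (q := b⁻¹ * a) (x := x') (h.Q.mul_mem (h.Q.inv_mem hb.1) ha.1) ?_ hx1.1
        hx1.2.2 ?_
      · intro h1
        exact hne (inv_mul_eq_one.mp h1).symm
      · calc b⁻¹ * a * x' = b⁻¹ * (a * x' * a⁻¹) * a := by group
          _ = x' * (b⁻¹ * a) := by rw [hab']; group
    have hcard : X.ncard ≤ ((fun q => q * x' * q⁻¹) '' C).ncard := by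
      rw [Set.InjOn.ncard_image hinj, card_X F hDt hQn]
      exact card_CQ h
    exact (Set.eq_of_subset_of_ncard_le hmaps hcard (Set.toFinite _)).symm.subset
  obtain ⟨q, ⟨hq, -⟩, hqq⟩ := hsurj hy1
  refine ⟨q2⁻¹ * q * q1, h.Q.mul_mem (h.Q.mul_mem (h.Q.inv_mem hq2) hq) hq1, ?_⟩
  calc q2⁻¹ * q * q1 * x * (q2⁻¹ * q * q1)⁻¹ = q2⁻¹ * (q * x' * q⁻¹) * q2 := by rw [hx']; group
    _ = q2⁻¹ * (q2 * y * q2⁻¹) * q2 := by rw [← hqq]
    _ = y := by group

include hQn in
/-- (iv) the products of noncommuting elements of `D` have the same order, an odd prime -/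
theorem exists_prime : ∃ p : ℕ, p.Prime ∧ Odd p ∧
    ∀ x ∈ D h, ∀ y ∈ D h, x * y ≠ y * x → orderOf (x * y) = p := by
  obtain ⟨x0, hx0, -, hx0z⟩ : {w : G | w ∈ D h ∧ w * h.d 1 = h.d 1 * w ∧
      w * h.d 0 ≠ h.d 0 * w}.Nonempty := by
    rw [Set.nonempty_iff_ne_empty]
    intro h1
    have h2 := card_X F hDt hQn
    rw [h1, Set.ncard_empty] at h2
    omega
  set n := orderOf (h.d 0 * x0) with hn
  have hconst : ∀ x ∈ D h, h.d 0 * x ≠ x * h.d 0 → orderOf (h.d 0 * x) = n := by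
    intro x hx hxz
    obtain ⟨q, hq, hqx⟩ := trans_D F hDt hQn hx0 hx0z hx (Ne.symm hxz)
    have hqz : q * h.d 0 = h.d 0 * q := h.z_comm _ (h.Q_le hq)
    have h1 : h.d 0 * x = (MulAut.conj q) (h.d 0 * x0) := by
      rw [MulAut.conj_apply, ← hqx]
      calc h.d 0 * (q * x0 * q⁻¹) = h.d 0 * q * x0 * q⁻¹ := by group
        _ = q * (h.d 0 * x0) * q⁻¹ := by rw [← hqz]; group
    rw [h1, hn]
    exact orderOf_injective (MulAut.conj q).toMonoidHom (MulAut.conj q).injective _
  have hodd : Odd n := odd_order F hDt (z_mem_D h) hx0 (Ne.symm hx0z)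
  have hn1 : n ≠ 1 := by
    intro h1
    rw [hn, orderOf_eq_one_iff] at h1
    apply hx0z
    have h2 : x0 = (h.d 0)⁻¹ := (inv_eq_of_mul_eq_one_right h1).symm
    rw [h2]; group
  obtain ⟨p, hp, m, hm⟩ := Nat.exists_prime_and_dvd hn1
  have hm0 : m ≠ 0 := by
    rintro rfl
    have := orderOf_pos (h.d 0 * x0)
    omega
  have hp2 : Odd p := (Nat.odd_mul.mp (hm ▸ hodd)).1
  have hx' : h.d 0 * (h.d 0 * x0) ^ m ∈ D h := D_mul_pow (z_mem_D h) hx0 m
  have hzx' : h.d 0 * (h.d 0 * (h.d 0 * x0) ^ m) = (h.d 0 * x0) ^ m := by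
    rw [← mul_assoc, d_sq h 0, one_mul]
  have ho : orderOf ((h.d 0 * x0) ^ m) = p := by
    rw [orderOf_pow_of_dvd hm0 ⟨p, by rw [← hn, hm, mul_comm]⟩, ← hn, hm]
    exact Nat.mul_div_cancel _ (Nat.pos_of_ne_zero hm0)
  have hpn : n = p := by
    rw [← ho, ← hzx']
    refine (hconst _ hx' ?_).symm
    intro h1
    have h2 : (h.d 0 * x0) ^ m * (h.d 0 * x0) ^ m = 1 := by
      calc (h.d 0 * x0) ^ m * (h.d 0 * x0) ^ m
          = h.d 0 * (h.d 0 * (h.d 0 * x0) ^ m) * (h.d 0 * (h.d 0 * (h.d 0 * x0) ^ m)) := by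
            rw [hzx']
        _ = h.d 0 * (h.d 0 * (h.d 0 * x0) ^ m) * ((h.d 0 * (h.d 0 * x0) ^ m) * h.d 0) := by
            rw [← h1]
        _ = h.d 0 * ((h.d 0 * (h.d 0 * x0) ^ m) * (h.d 0 * (h.d 0 * x0) ^ m)) * h.d 0 := by
            simp only [mul_assoc]
        _ = 1 := by rw [D_sq h hx', mul_one, d_sq h 0]
    have h3 : orderOf ((h.d 0 * x0) ^ m) ∣ 2 := orderOf_dvd_of_pow_eq_one (by rw [sq, h2])
    rw [ho, Nat.dvd_prime Nat.prime_two] at h3
    rcases h3 with h3 | h3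
    · exact hp.one_lt.ne' h3
    · rw [h3] at hp2
      exact absurd hp2 (by decide)
  refine ⟨p, hp, hp2, ?_⟩
  intro x hx y hy hxy
  obtain ⟨g, rfl⟩ := hx
  have hy' : g⁻¹ * y * g ∈ D h := by
    have := D_conj h hy g⁻¹
    rwa [inv_inv] at this
  have h1 : g * h.d 0 * g⁻¹ * y = (MulAut.conj g) (h.d 0 * (g⁻¹ * y * g)) := by
    rw [MulAut.conj_apply]; group
  have h2 : orderOf (g * h.d 0 * g⁻¹ * y) = orderOf (h.d 0 * (g⁻¹ * y * g)) := by
    rw [h1]
    exact orderOf_injective (MulAut.conj g).toMonoidHom (MulAut.conj g).injective _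
  rw [h2, ← hpn]
  apply hconst _ hy'
  intro h3
  apply hxy
  calc g * h.d 0 * g⁻¹ * y = g * (h.d 0 * (g⁻¹ * y * g)) * g⁻¹ := by group
    _ = y * (g * h.d 0 * g⁻¹) := by rw [h3]; group

include hQn in
/-- **the geometry of `D`**: two elements of `D` commute or their product has order three -/
theorem comm_or_three : ∀ x ∈ D h, ∀ y ∈ D h, x * y = y * x ∨ orderOf (x * y) = 3 := by
  classical
  obtain ⟨p, hp, hp2, hall⟩ := exists_prime F hDt hQn
  haveI : Fact p.Prime := ⟨hp⟩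
  suffices hp3 : p = 3 by
    intro x hx y hy
    by_cases hxy : x * y = y * x
    · exact Or.inl hxy
    · exact Or.inr ((hall x hx y hy hxy).trans hp3)
  -- an element of `D` commuting with `z` but not with `d 1`
  obtain ⟨y, hy, hyd⟩ : ∃ y ∈ Dc h (h.d 0), h.d 1 * y ≠ y * h.d 1 := by
    by_contra hne
    push Not at hne
    have hsub : Dc h (h.d 0) ⊆ Set.range h.d := by
      intro w hw
      obtain ⟨k, hk⟩ := eq_d_of_comm F hDt hw.1 hw.2.2 (hne w hw).symm
      exact ⟨k, hk.symm⟩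
    have h1 := Set.ncard_le_ncard hsub (Set.toFinite _)
    rw [card_Dz F hDt hQn, ← Set.image_univ] at h1
    have h2 := Set.ncard_image_le (f := h.d) (s := Set.univ) (Set.toFinite _)
    rw [Set.ncard_univ, Nat.card_fin] at h2
    omega
  set w := h.d 1 * y with hw
  have hwo : orderOf w = p := hall _ (d_mem_D F 1) _ hy.1 hyd
  have hdz : h.d 0 * h.d 1 = h.d 1 * h.d 0 := d_comm h 0 1
  have hyz : y * h.d 0 = h.d 0 * y := hy.2.2
  have hwz : w * h.d 0 = h.d 0 * w := by rw [hw, mul_assoc, hyz, ← mul_assoc, ← hdz, mul_assoc]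
  have hnofix : ∀ v ∈ Dc h (h.d 0), w * v * w⁻¹ ≠ v := by
    intro v hv hvw
    have hvw' : w * v = v * w := mul_inv_eq_iff_eq_mul.mp hvw
    have hyw : y = h.d 1 * w := by rw [hw, ← mul_assoc, d_sq h 1, one_mul]
    by_cases hvd : h.d 1 * v = v * h.d 1
    · -- `d 1` and `y` commute with `z * v`
      apply hyd
      have hvy : y * v = v * y := by rw [hyw, mul_assoc, hvw', ← mul_assoc, hvd, mul_assoc]
      apply cent_pair_comm F hDt (z_mem_D h) hv.1 hv.2.2.symm (Ne.symm hv.2.1) (d_mem_D F 1) _ hy.1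
      · rw [← mul_assoc, hyz, mul_assoc, hvy, mul_assoc]
      · rw [← mul_assoc, ← hdz, mul_assoc, hvd, mul_assoc]
    · have hodd := odd_order F hDt hv.1 (d_mem_D F 1) (Ne.symm hvd)
      have hdw : h.d 1 * w * h.d 1 = w⁻¹ := by
        rw [hw, mul_inv_rev, D_inv h hy.1, d_inv h 1, ← mul_assoc, d_sq h 1, one_mul]
      set g := v * h.d 1 with hg
      have hgw : g * w * g⁻¹ = w⁻¹ := by
        rw [hg, mul_inv_rev, d_inv h 1, D_inv h hv.1]
        calc v * h.d 1 * w * (h.d 1 * v) = v * (h.d 1 * w * h.d 1) * v := by simp only [mul_assoc]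
          _ = v * w⁻¹ * v := by rw [hdw]
          _ = w⁻¹ * (v * v) := by
              have h5 : v * w⁻¹ = w⁻¹ * v := by
                rw [eq_inv_mul_iff_mul_eq, ← mul_assoc, hvw', mul_inv_cancel_right]
              rw [h5, mul_assoc]
          _ = w⁻¹ := by rw [D_sq h hv.1, mul_one]
      have hgg : Commute (g ^ 2) w := by
        have h6 : g ^ 2 * w * (g ^ 2)⁻¹ = w := by
          have h7 : (g * w * g⁻¹)⁻¹ = g * w⁻¹ * g⁻¹ := by group
          calc g ^ 2 * w * (g ^ 2)⁻¹ = g * (g * w * g⁻¹) * g⁻¹ := by rw [sq]; group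
            _ = (g * w * g⁻¹)⁻¹ := by rw [h7, hgw]
            _ = w := by rw [hgw, inv_inv]
        exact mul_inv_eq_iff_eq_mul.mp h6
      have hgc : Commute g w := by
        obtain ⟨k, hk⟩ := hodd
        have h7 : g = (g ^ 2) ^ (k + 1) := by
          rw [← pow_mul]
          have h8 : 2 * (k + 1) = orderOf g + 1 := by omega
          rw [h8, pow_succ, pow_orderOf_eq_one, one_mul]
        rw [h7]
        exact hgg.pow_left _
      have hww : w = w⁻¹ := by
        rw [← hgw, hgc.eq]; group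
      have h9 : orderOf w ∣ 2 := orderOf_dvd_of_pow_eq_one (by
        rw [sq]; nth_rewrite 1 [hww]; exact inv_mul_cancel w)
      rw [hwo, Nat.dvd_prime Nat.prime_two] at h9
      rcases h9 with h9 | h9
      · exact hp.one_lt.ne' h9
      · rw [h9] at hp2
        exact absurd hp2 (by decide)
  -- `w` permutes the 36 elements of `Dc z`
  have hmem : ∀ v, (MulAut.conj w).toEquiv v ∈ Dc h (h.d 0) ↔ v ∈ Dc h (h.d 0) := by
    intro v
    have hz1 : w * h.d 0 * w⁻¹ = h.d 0 := by rw [hwz]; group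
    change w * v * w⁻¹ ∈ Dc h (h.d 0) ↔ _
    constructor
    · rintro ⟨h1, h2, h3⟩
      refine ⟨D_of_conj h w h1, ?_, ?_⟩
      · rintro rfl
        exact h2 hz1
      · rw [← hz1] at h3
        have h4 : w * (v * h.d 0) * w⁻¹ = w * (h.d 0 * v) * w⁻¹ := by
          calc w * (v * h.d 0) * w⁻¹ = w * v * w⁻¹ * (w * h.d 0 * w⁻¹) := by group
            _ = w * (h.d 0 * v) * w⁻¹ := by rw [h3]; group
        exact mul_left_cancel (mul_right_cancel h4)
    · rintro ⟨h1, h2, h3⟩
      refine ⟨D_conj h h1 w, ?_, ?_⟩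
      · intro h4
        rw [← hz1] at h4
        exact h2 (mul_left_cancel (mul_right_cancel h4))
      · calc w * v * w⁻¹ * h.d 0 = w * v * w⁻¹ * (w * h.d 0 * w⁻¹) := by rw [hz1]
          _ = w * (v * h.d 0) * w⁻¹ := by group
          _ = w * h.d 0 * w⁻¹ * (w * v * w⁻¹) := by rw [h3]; group
          _ = h.d 0 * (w * v * w⁻¹) := by rw [hz1]
  haveI : Fintype ↥(Dc h (h.d 0)) := Fintype.ofFinite _
  have hdvd : p ∣ 36 := by
    by_contra hndvd
    have hcard : Fintype.card ↥(Dc h (h.d 0)) = 36 := by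
      rw [← Nat.card_eq_fintype_card]
      exact card_Dz F hDt hQn
    obtain ⟨v, hv⟩ := Equiv.Perm.exists_fixed_point_of_prime (p := p) (n := 1)
      (α := ↥(Dc h (h.d 0))) (by rw [hcard]; exact hndvd)
      (σ := Equiv.Perm.subtypePerm (MulAut.conj w).toEquiv hmem) (by
        rw [pow_one, Equiv.Perm.subtypePerm_pow]
        ext v
        have h5 : ∀ n : ℕ, (((MulAut.conj w).toEquiv : Equiv.Perm G) ^ n) v = w ^ n * v * (w ^ n)⁻¹ := by
          intro n
          induction n with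
          | zero => simp
          | succ n ih =>
            rw [pow_succ', Equiv.Perm.mul_apply, ih]
            change w * (w ^ n * v * (w ^ n)⁻¹) * w⁻¹ = _
            rw [pow_succ']; group
        have h6 := h5 p
        have h7 : w ^ p = 1 := by rw [← hwo]; exact pow_orderOf_eq_one w
        rw [h7, one_mul, inv_one, mul_one] at h6
        exact h6)
    exact hnofix v v.2 (congrArg Subtype.val hv)
  have h36 : (36 : ℕ) = 2 * 2 * (3 * 3) := by norm_num
  rw [h36] at hdvd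
  rcases (Nat.Prime.dvd_mul hp).mp hdvd with h1 | h1
  · exfalso
    have h2 : p ∣ 2 := by
      rcases (Nat.Prime.dvd_mul hp).mp h1 with h2 | h2 <;> exact h2
    rw [Nat.prime_dvd_prime_iff_eq hp Nat.prime_two] at h2
    rw [h2] at hp2
    exact absurd hp2 (by decide)
  · have h2 : p ∣ 3 := by
      rcases (Nat.Prime.dvd_mul hp).mp h1 with h2 | h2 <;> exact h2
    exact (Nat.prime_dvd_prime_iff_eq hp Nat.prime_three).mp h2

end Local

end Cfsg.Agent.SylowU5.Geometry
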