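import Cfsg.Agent.SylowTypes.NormalCore
import Cfsg.Agent.TwoFusion.IsolatedCenter
import Cfsg.Agent.Lib.HallHigman

/-!
# Strongly closed abelian 2-subgroups of solvable groups

If `Z` is a finite solvable group, `R` a Sylow 2-subgroup and `E ≤ R` an abelian subgroup which is strongly closed in
`R`, then `Z = O(Z) N_Z(E)` (lemma SC of the project S0513).
-/

set_option autoImplicit false

namespace Cfsg.Agent.SylowU5.SC

open Subgroup Cfsg

/-- The case `O(Z) = 1`: `E` is normal. -/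
theorem normal_of_core_eq_bot {Z : Type*} [Group Z] [Finite Z] [Group.IsSolvable Z] (R : Sylow 2 Z) (E : Subgroup Z)
    (hER : E ≤ (R : Subgroup Z)) (hEc : ∀ a ∈ E, ∀ b ∈ E, a * b = b * a)
    (hsc : ∀ e ∈ E, ∀ g : Z, g * e * g⁻¹ ∈ (R : Subgroup Z) → g * e * g⁻¹ ∈ E)
    (hO : pPrimeCore 2 Z = ⊥) : E.Normal := by
  have : Fact (Nat.Prime 2) := ⟨Nat.prime_two⟩
  set T := pCore 2 Z with hT
  have hTn : T.Normal := Cfsg.Agent.Lib.Cores.pCore_normal 2
  have hT2 : IsPGroup 2 T := Cfsg.Agent.Lib.Cores.pCore_isPGroup 2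
  have hTR : T ≤ (R : Subgroup Z) := Cfsg.Agent.Lib.Cores.pCore_le_sylow R
  have hCT : centralizer (T : Set Z) ≤ T := Cfsg.Agent.Lib.HallHigman.centralizer_pCore_le_of_solvable 2 hO
  -- `B = E ∩ O₂(Z)` is normal
  set B := E ⊓ T with hB
  have hBn : B.Normal := ⟨fun b hb g => by
    have h1 : g * b * g⁻¹ ∈ T := hTn.conj_mem b hb.2 g
    exact ⟨hsc b hb.1 g (hTR h1), h1⟩⟩
  -- the stabiliser of the chain `O₂(Z) ≥ B ≥ 1`
  let D : Subgroup Z :=
    { carrier := {d | (∀ x ∈ T, d * x * d⁻¹ * x⁻¹ ∈ B) ∧ ∀ b ∈ B, d * b = b * d}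
      one_mem' := ⟨fun x _ => by simp, fun b _ => by simp⟩
      mul_mem' := by
        rintro a c ⟨ha1, ha2⟩ ⟨hc1, hc2⟩
        refine ⟨fun x hx => ?_, fun b hb => ?_⟩
        · have h1 := ha1 _ (hTn.conj_mem x hx c)
          have h2 := hc1 x hx
          have h3 : a * c * x * (a * c)⁻¹ * x⁻¹ = (a * (c * x * c⁻¹) * a⁻¹ * (c * x * c⁻¹)⁻¹) * (c * x * c⁻¹ * x⁻¹) := by
            group
          rw [h3]; exact mul_mem h1 h2
        · rw [mul_assoc, hc2 b hb, ← mul_assoc, ha2 b hb, mul_assoc]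
      inv_mem' := by
        rintro a ⟨ha1, ha2⟩
        refine ⟨fun x hx => ?_, fun b hb => ?_⟩
        · have h0 : a⁻¹ * x * a ∈ T := by
            have := hTn.conj_mem x hx a⁻¹
            rwa [inv_inv] at this
          have h1 := ha1 _ h0
          have h3 : a⁻¹ * x * a⁻¹⁻¹ * x⁻¹ = (a * (a⁻¹ * x * a) * a⁻¹ * (a⁻¹ * x * a)⁻¹)⁻¹ := by group
          rw [h3]; exact inv_mem h1
        · have := ha2 b hb
          calc a⁻¹ * b = a⁻¹ * (b * a) * a⁻¹ := by group
            _ = a⁻¹ * (a * b) * a⁻¹ := by rw [this]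
            _ = b * a⁻¹ := by group }
  have hDn : D.Normal := ⟨by
    rintro d ⟨hd1, hd2⟩ g
    refine ⟨fun x hx => ?_, fun b hb => ?_⟩
    · have h0 : g⁻¹ * x * g ∈ T := by
        have := hTn.conj_mem x hx g⁻¹
        rwa [inv_inv] at this
      have h1 := hBn.conj_mem _ (hd1 _ h0) g
      have h3 : g * d * g⁻¹ * x * (g * d * g⁻¹)⁻¹ * x⁻¹ = g * (d * (g⁻¹ * x * g) * d⁻¹ * (g⁻¹ * x * g)⁻¹) * g⁻¹ := by
        group
      rw [h3]; exact h1
    · have h0 : g⁻¹ * b * g ∈ B := by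
        have := hBn.conj_mem b hb g⁻¹
        rwa [inv_inv] at this
      have h1 := hd2 _ h0
      calc g * d * g⁻¹ * b = g * (d * (g⁻¹ * b * g)) * g⁻¹ := by group
        _ = g * (g⁻¹ * b * g * d) * g⁻¹ := by rw [h1]
        _ = b * (g * d * g⁻¹) := by group⟩
  -- `E ≤ D`
  have hED : E ≤ D := by
    intro e he
    refine ⟨fun x hx => ?_, fun b hb => hEc e he b hb.1⟩
    have h1 : x * e⁻¹ * x⁻¹ ∈ E :=
      hsc e⁻¹ (inv_mem he) x ((R : Subgroup Z).mul_mem ((R : Subgroup Z).mul_mem (hTR hx)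
        (hER (E.inv_mem he))) ((R : Subgroup Z).inv_mem (hTR hx)))
    refine ⟨?_, ?_⟩
    · have h2 : e * x * e⁻¹ * x⁻¹ = e * (x * e⁻¹ * x⁻¹) := by group
      rw [h2]; exact mul_mem he h1
    · exact T.mul_mem (hTn.conj_mem x hx e) (T.inv_mem hx)
  -- `D` is a 2-group
  have hD2 : IsPGroup 2 D := by
    -- an element of odd order of `D` is trivial
    have hodd : ∀ d ∈ D, Odd (orderOf d) → d = 1 := by
      intro d hd hdo
      have h1 : d ∈ centralizer (T : Set Z) := by
        rw [mem_centralizer_iff]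
        intro x hx
        -- `d^m x d^-m = b^m x`
        set b := d * x * d⁻¹ * x⁻¹ with hb
        have hbB : b ∈ B := hd.1 x hx
        have hdb : d * b = b * d := hd.2 b hbB
        have hstep : ∀ m : ℕ, d ^ m * x * (d ^ m)⁻¹ = b ^ m * x := by
          intro m
          induction m with
          | zero => simp
          | succ m ih =>
            have hc : Commute d (b ^ m) := (show Commute d b from hdb).pow_right m
            calc d ^ (m + 1) * x * (d ^ (m + 1))⁻¹ = d * (d ^ m * x * (d ^ m)⁻¹) * d⁻¹ := by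
                  rw [pow_succ']; group
              _ = d * (b ^ m * x) * d⁻¹ := by rw [ih]
              _ = b ^ m * (d * x * d⁻¹) := by rw [← mul_assoc, hc.eq]; group
              _ = b ^ m * (b * x) := by rw [hb]; group
              _ = b ^ (m + 1) * x := by rw [pow_succ]; group
        have h2 := hstep (orderOf d)
        rw [pow_orderOf_eq_one, one_mul, inv_one, mul_one] at h2
        have h3 : b ^ orderOf d = 1 := by
          have := mul_right_cancel (a := b ^ orderOf d) (b := x) (c := 1) (by rw [one_mul]; exact h2.symm)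
          exact this
        obtain ⟨k, hk⟩ := hT2 ⟨b, hbB.2⟩
        have hk' : b ^ 2 ^ k = 1 := congrArg Subtype.val hk
        have h4 : orderOf b ∣ orderOf d := orderOf_dvd_of_pow_eq_one h3
        have h5 : orderOf b ∣ 2 ^ k := orderOf_dvd_of_pow_eq_one hk'
        have h6 : Nat.Coprime (orderOf d) (2 ^ k) := Nat.Coprime.pow_right k (Nat.coprime_two_right.2 hdo)
        have h7 : orderOf b = 1 := Nat.eq_one_of_dvd_coprimes h6 h4 h5
        have h8 : b = 1 := orderOf_eq_one_iff.1 h7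
        have h9 : d * x * d⁻¹ = x := by
          have : d * x * d⁻¹ = b * x := by rw [hb]; group
          rw [this, h8, one_mul]
        exact (mul_inv_eq_iff_eq_mul.1 h9).symm
      have h2 : d ∈ T := hCT h1
      obtain ⟨k, hk⟩ := hT2 ⟨d, h2⟩
      have hk' : d ^ 2 ^ k = 1 := congrArg Subtype.val hk
      have h5 : orderOf d ∣ 2 ^ k := orderOf_dvd_of_pow_eq_one hk'
      have h6 : Nat.Coprime (orderOf d) (2 ^ k) := Nat.Coprime.pow_right k (Nat.coprime_two_right.2 hdo)
      exact orderOf_eq_one_iff.1 (Nat.eq_one_of_dvd_coprimes h6 dvd_rfl h5)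
    rintro ⟨d, hd⟩
    have hpos : orderOf d ≠ 0 := (orderOf_pos d).ne'
    obtain ⟨k, m, hm, hkm⟩ := Nat.exists_eq_two_pow_mul_odd hpos
    refine ⟨k, Subtype.ext ?_⟩
    change d ^ 2 ^ k = 1
    apply hodd _ (pow_mem hd _)
    rw [orderOf_pow' d (by positivity), hkm, Nat.gcd_eq_right (Dvd.intro _ rfl), Nat.mul_div_cancel_left _ (by positivity)]
    exact hm
  have hDT : D ≤ T := Cfsg.Agent.Lib.Cores.le_pCore hDn hD2
  have hEB : B = E := inf_eq_left.2 (hED.trans hDT)
  rw [← hEB]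
  exact hBn

theorem sup_normalizer_eq_top {Z : Type*} [Group Z] [Finite Z] [Group.IsSolvable Z] (R : Sylow 2 Z) (E : Subgroup Z)
    (hER : E ≤ (R : Subgroup Z)) (hEc : ∀ a ∈ E, ∀ b ∈ E, a * b = b * a)
    (hsc : ∀ e ∈ E, ∀ g : Z, g * e * g⁻¹ ∈ (R : Subgroup Z) → g * e * g⁻¹ ∈ E) :
    pPrimeCore 2 Z ⊔ normalizer (E : Set Z) = ⊤ := by
  have : Fact (Nat.Prime 2) := ⟨Nat.prime_two⟩
  set O := pPrimeCore 2 Z with hO
  have hOn : O.Normal := Cfsg.Agent.Lib.Cores.pPrimeCore_normal 2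
  set π := QuotientGroup.mk' O with hπ
  have hπs : Function.Surjective π := QuotientGroup.mk'_surjective O
  have hker : ∀ o ∈ O, π o = 1 := fun o ho => (QuotientGroup.eq_one_iff o).2 ho
  have hn : (E.map π).Normal := by
    refine normal_of_core_eq_bot (R.mapSurjective hπs) (E.map π) (map_mono hER) ?_ ?_ ?_
    · rintro _ ⟨a, ha, rfl⟩ _ ⟨b, hb, rfl⟩
      rw [← map_mul, ← map_mul, hEc a ha b hb]
    · rintro _ ⟨e, he, rfl⟩ g hg
      obtain ⟨g, rfl⟩ := hπs g
      have hg' : π (g * e * g⁻¹) ∈ (R : Subgroup Z).map π := by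
        rw [map_mul, map_mul, map_inv]; exact hg
      obtain ⟨r, hr, hr'⟩ := hg'
      have h1 : g * e * g⁻¹ ∈ (R : Subgroup Z) ⊔ O := by
        have h2 : r⁻¹ * (g * e * g⁻¹) ∈ O := QuotientGroup.eq.1 hr'
        have h3 : g * e * g⁻¹ = r * (r⁻¹ * (g * e * g⁻¹)) := by group
        rw [h3]
        exact mul_mem ((le_sup_left : (R : Subgroup Z) ≤ _) hr) ((le_sup_right : O ≤ _) h2)
      obtain ⟨k, hk⟩ := R.2 ⟨e, hER he⟩
      have hk' : e ^ 2 ^ k = 1 := congrArg Subtype.val hk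
      obtain ⟨o, ho, h2⟩ := Cfsg.Agent.TwoFusion.IsolatedCenter.exists_conj_mem R O (g * e * g⁻¹)
        ⟨k, by rw [conj_pow, hk']; group⟩ h1
      have h3 : o * (g * e * g⁻¹) * o⁻¹ = (o * g) * e * (o * g)⁻¹ := by group
      rw [h3] at h2
      refine ⟨_, hsc e he (o * g) h2, ?_⟩
      rw [map_mul, map_mul, map_inv, map_mul, hker o ho, one_mul]
    · exact Cfsg.Agent.Lib.Cores.pPrimeCore_quotient_pPrimeCore 2
  -- `E O(Z)` is normal
  have hEO : (E ⊔ O).Normal := by
    have h1 : (E.map π).comap π = E ⊔ O := by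
      rw [comap_map_eq, QuotientGroup.ker_mk']
    rw [← h1]
    exact hn.comap π
  have hrel : Cfsg.Agent.SignalizersComponents.PLayerAut.relCore 2 (⊤ : Subgroup Z) = O := by
    apply le_antisymm
    · apply Cfsg.Agent.Lib.Cores.le_pPrimeCore
      · rw [← normalizer_eq_top_iff, eq_top_iff]
        exact Cfsg.Agent.SignalizersComponents.CoreBalance.le_normalizer_relCore 2 ⊤
      · exact Cfsg.Agent.SignalizersComponents.PLayerAut.relCore_coprime 2 _
    · apply Cfsg.Agent.SignalizersComponents.CoreBalance.le_relCore le_top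
      · exact Cfsg.Agent.Lib.Cores.pPrimeCore_coprime 2
      · exact le_normalizer_of_normal
  have h2 := Cfsg.Agent.SylowTypes.NormalCore.le_sup_normalizer (V := E) (C := ⊤) (R.2.to_le hER) le_top (by
    rw [hrel]; exact le_normalizer_of_normal)
  rw [hrel] at h2
  exact eq_top_iff.2 h2

end Cfsg.Agent.SylowU5.SC
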