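import Mathlib
import Cfsg.Agent.SylowU5.Prime
import Cfsg.Agent.SylowU5.SC
import Cfsg.Agent.R15.NormalElem

/-!
# Case B of S0513: no involution of `Q \ E` is fused into `E`

Then `E` is strongly closed, all the centralizers of its involutions are solvable, and theorem T1
shows that `E` is normal.
-/

set_option autoImplicit false
set_option linter.unusedVariables false
set_option linter.unusedSectionVars false
open Cfsg

namespace Cfsg.Agent.SylowU5.CaseB

universe u

open Subgroup Cfsg.Agent.SylowU5.Basic Cfsg.Agent.SylowU5.SolvT Cfsg.Agent.SylowU5.Fusion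

section

variable {G : Type u} [Group G] [Finite G] {T : Sylow 2 G} (h : U5T (T : Subgroup G))
include h

/-- `E` is strongly closed in `T` -/
theorem sc_T (hB : ∀ u ∈ h.Q, u * u = 1 → u ∉ h.E → ∀ g : G, g * u * g⁻¹ ∉ h.E) {e g : G}
    (he : e ∈ h.E) (hg : g * e * g⁻¹ ∈ (T : Subgroup G)) : g * e * g⁻¹ ∈ h.E := by
  by_contra hne
  have hyy : g * e * g⁻¹ * (g * e * g⁻¹) = 1 := by
    calc g * e * g⁻¹ * (g * e * g⁻¹) = g * (e * e) * g⁻¹ := by group
      _ = 1 := by rw [h.E_sq e he]; group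
  rcases h.invol _ hg hyy with h1 | h1
  · exact hne h1
  · refine hB _ h1 hyy hne g⁻¹ ?_
    have e1 : g⁻¹ * (g * e * g⁻¹) * g⁻¹⁻¹ = e := by group
    rw [e1]; exact he

/-- `E` is strongly closed in every 2-group containing it -/
theorem sc_R (hB : ∀ u ∈ h.Q, u * u = 1 → u ∉ h.E → ∀ g : G, g * u * g⁻¹ ∉ h.E) {R : Subgroup G}
    (hR : IsPGroup 2 R) (hER : h.E ≤ R) {e g : G} (he : e ∈ h.E) (hg : g * e * g⁻¹ ∈ R) :
    g * e * g⁻¹ ∈ h.E := by
  obtain ⟨k, hk, hkR⟩ := exists_conj_T h hR hER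
  have h1 := hkR _ hg
  have e1 : k⁻¹ * (g * e * g⁻¹) * k = (k⁻¹ * g) * e * (k⁻¹ * g)⁻¹ := by group
  rw [e1] at h1
  have h2 := sc_T h hB he h1
  have h3 := norm_conj h hk h2
  have e2 : k * (k⁻¹ * g * e * (k⁻¹ * g)⁻¹) * k⁻¹ = g * e * g⁻¹ := by group
  rwa [e2] at h3

/-- an element of `C` normalizing `E` in `C` normalizes `E` -/
theorem norm_aux {C : Subgroup G} (hEC : h.E ≤ C) {n : C}
    (hn : n ∈ normalizer ((h.E.subgroupOf C : Subgroup C) : Set C)) :
    C.subtype n ∈ normalizer (h.E : Set G) := by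
  rw [mem_normalizer_iff]
  intro y
  have hn' := (mem_normalizer_iff.1 hn)
  constructor
  · intro hy
    have := (hn' ⟨y, hEC hy⟩).1 hy
    exact this
  · intro hy
    have hyC : y ∈ C := by
      have h3 := hEC hy
      have h4 : (n : G)⁻¹ * ((n : G) * y * (n : G)⁻¹) * (n : G) ∈ C :=
        C.mul_mem (C.mul_mem (C.inv_mem n.2) h3) n.2
      have e4 : (n : G)⁻¹ * ((n : G) * y * (n : G)⁻¹) * (n : G) = y := by group
      rwa [e4] at h4
    exact (hn' ⟨y, hyC⟩).2 hy

/-- `C(e) = O(C(e)) (C(e) ∩ N(E))` -/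
theorem centralizer_le (hB : ∀ u ∈ h.Q, u * u = 1 → u ∉ h.E → ∀ g : G, g * u * g⁻¹ ∉ h.E) {e : G}
    (he : e ∈ h.E) (hs : Group.IsSolvable ↥(centralizer ({e} : Set G))) :
    centralizer {e} ≤ centralizerPPrimeCore 2 e ⊔ normalizer (h.E : Set G) := by
  have h2 : Fact (Nat.Prime 2) := ⟨Nat.prime_two⟩
  have hEC : h.E ≤ centralizer ({e} : Set G) := fun a ha =>
    mem_centralizer_singleton_iff.2 (E_comm h ha he)
  set C : Subgroup G := centralizer ({e} : Set G) with hC
  let E' : Subgroup C := h.E.subgroupOf C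
  have hE' : IsPGroup 2 E' := by
    rintro ⟨x, hx⟩
    refine ⟨1, ?_⟩
    apply Subtype.ext
    apply Subtype.ext
    show ((x : C) : G) ^ 2 ^ 1 = 1
    rw [pow_one, pow_two]
    exact h.E_sq _ hx
  obtain ⟨R, hR⟩ := hE'.exists_le_sylow
  have hRp : IsPGroup 2 ((R : Subgroup C).map C.subtype) := R.isPGroup'.map _
  have hER : h.E ≤ (R : Subgroup C).map C.subtype := fun x hx =>
    ⟨⟨x, hEC hx⟩, hR (show (⟨x, hEC hx⟩ : C) ∈ E' from hx), rfl⟩
  have key := SC.sup_normalizer_eq_top (Z := C) R E' hR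
    (fun a ha b hb => Subtype.ext (E_comm h ha hb))
    (fun a ha g hg => by
      show (g : G) * (a : G) * (g : G)⁻¹ ∈ h.E
      exact sc_R h hB hRp hER ha ⟨g * a * g⁻¹, hg, rfl⟩)
  intro x hx
  have hx1 : (⟨x, hx⟩ : C) ∈ pPrimeCore 2 C ⊔ normalizer (E' : Set C) := by rw [key]; trivial
  have hx2 : x ∈ (pPrimeCore 2 C ⊔ normalizer (E' : Set C)).map C.subtype := ⟨_, hx1, rfl⟩
  rw [Subgroup.map_sup] at hx2
  have hle : (normalizer (E' : Set C)).map C.subtype ≤ normalizer (h.E : Set G) := by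
    rintro _ ⟨n, hn, rfl⟩
    exact norm_aux h hEC hn
  exact (sup_le_sup (le_refl _) hle : _ ≤ centralizerPPrimeCore 2 e ⊔ normalizer (h.E : Set G)) hx2

end

variable {G : Type u} [Group G] [Finite G] [IsSimpleGroup G] {T : Sylow 2 G}
  (h : U5T (T : Subgroup G))
include h

/-- Case B does not occur. -/
theorem false_of_caseB (hFT : OddOrder.{u})
    (hB : ∀ u ∈ h.Q, u * u = 1 → u ∉ h.E → ∀ g : G, g * u * g⁻¹ ∉ h.E)
    (hz : Group.IsSolvable ↥(centralizer ({h.d 0} : Set G))) : False := by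
  have hsolv : ∀ a ∈ h.E, a ≠ 1 → Group.IsSolvable ↥(centralizer ({a} : Set G)) :=
    fun a ha ha1 => Prime.solvable_E h hFT hz ha ha1
  have key := R15.NormalElem.sup_normalizer_eq_top T h.E (isWeaklyClosed h)
    (fun a ha b hb => E_comm h ha hb) h.E_sq (by rw [h.card_E]; norm_num)
    (z := h.d 0) (v := h.d 1 * h.d 2)
    (fun x hxx hxc hxT g hg => by
      refine sc_T h hB ?_ hg
      rcases h.center_T x hxT (fun g hg => mem_centralizer_singleton_iff.1 (hxc hg)) with h1 | h1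
      · rw [h1]; exact h.E.one_mem
      · rw [h1]; exact h.d_mem 0)
    (d_mem_T h 0) (T_le_cent h) (d_sq h 0) (h.d_ne_one 0) (Elem.dd_mem h 1 2)
    (h.dd_ne_one 1 2 (by decide))
    (fun g hg => by
      have h1 : g * h.d 0 * g⁻¹ ∈ (T : Subgroup G) := by
        rw [hg]; exact E_le_T h (Elem.dd_mem h 1 2)
      obtain ⟨i, hi⟩ := z_fus h h1
      exact h.dd_ne_d 1 2 i (by decide) (by rw [← hg, hi]))
    hsolv (fun a ha ha1 => centralizer_le h hB ha (hsolv a ha ha1))
  have hn : (pPrimeCore 2 G).Normal := Cfsg.Agent.Lib.Cores.pPrimeCore_normal 2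
  have hcT : Nat.card (T : Subgroup G) = 1024 := h.card_T
  rcases hn.eq_bot_or_eq_top with h1 | h1
  · rw [h1, bot_sup_eq] at key
    have hEn : h.E.Normal := normalizer_eq_top_iff.1 key
    rcases hEn.eq_bot_or_eq_top with h2 | h2
    · have := h.card_E
      rw [h2, Subgroup.card_bot] at this
      omega
    · have h3 := h.card_E
      have h4 : Nat.card (T : Subgroup G) ≤ Nat.card h.E := by
        rw [h2]
        exact Subgroup.card_le_of_le le_top
      omega
  · have h2 : Odd (Nat.card (pPrimeCore 2 G)) :=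
      Nat.coprime_two_right.mp (Cfsg.Agent.Lib.Cores.pPrimeCore_coprime 2)
    rw [h1, Subgroup.card_top] at h2
    have h3 : 2 ∣ Nat.card G := dvd_trans (by rw [hcT]; norm_num) (Subgroup.card_subgroup_dvd_card (T : Subgroup G))
    exact (Nat.not_even_iff_odd.2 h2) (even_iff_two_dvd.2 h3)

end Cfsg.Agent.SylowU5.CaseB
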