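import Mathlib
import Cfsg.Agent.SylowU5.SC

/-!
# Strongly closed abelian subgroups and solvable centralizers (S0513)
-/

set_option autoImplicit false
open Cfsg

namespace Cfsg.Agent.SylowU5.NormOf

open Subgroup

/-- an element of `C` normalizing `V` in `C` normalizes `V` -/
theorem norm_aux {X : Type*} [Group X] {V C : Subgroup X} (hVC : V ≤ C) {n : C}
    (hn : n ∈ normalizer ((V.subgroupOf C : Subgroup C) : Set C)) :
    C.subtype n ∈ normalizer (V : Set X) := by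
  rw [mem_normalizer_iff]
  intro y
  have hn' := (mem_normalizer_iff.1 hn)
  constructor
  · intro hy
    exact (hn' ⟨y, hVC hy⟩).1 hy
  · intro hy
    have hyC : y ∈ C := by
      have h3 := hVC hy
      have h4 : (n : X)⁻¹ * ((n : X) * y * (n : X)⁻¹) * (n : X) ∈ C :=
        C.mul_mem (C.mul_mem (C.inv_mem n.2) h3) n.2
      have e4 : (n : X)⁻¹ * ((n : X) * y * (n : X)⁻¹) * (n : X) = y := by group
      rwa [e4] at h4
    exact (hn' ⟨y, hyC⟩).2 hy

/-- strong closure passes to every 2-group containing `V` -/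
theorem sc_of {X : Type*} [Group X] [Finite X] (P : Sylow 2 X) (V : Subgroup X)
    (hVP : V ≤ P) (hsc : ∀ g : X, ∀ x ∈ V, g * x * g⁻¹ ∈ P → g * x * g⁻¹ ∈ V) {R : Subgroup X}
    (hR : IsPGroup 2 R) (hVR : V ≤ R) {g x : X} (hx : x ∈ V) (hg : g * x * g⁻¹ ∈ R) :
    g * x * g⁻¹ ∈ V := by
  obtain ⟨Q, hQ⟩ := hR.exists_le_sylow
  obtain ⟨k, hk⟩ := MulAction.exists_smul_eq X P Q
  have h1 : ∀ w ∈ R, k⁻¹ * w * k ∈ P := by
    intro w hw
    have h2 := hQ hw
    rw [← hk, Sylow.coe_subgroup_smul] at h2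
    obtain ⟨y, hy, hyw⟩ := h2
    have h3 : k * y * k⁻¹ = w := hyw
    have h4 : k⁻¹ * w * k = y := by rw [← h3]; group
    rw [h4]; exact hy
  have hkV : ∀ x ∈ V, k⁻¹ * x * k ∈ V := by
    intro x hx
    have := hsc k⁻¹ x hx (by rw [inv_inv]; exact h1 x (hVR hx))
    rwa [inv_inv] at this
  have hkV' : ∀ x ∈ V, k * x * k⁻¹ ∈ V := by
    have hfin : Finite V := inferInstance
    let f : V → V := fun x => ⟨k⁻¹ * x * k, hkV x x.2⟩
    have hf : Function.Injective f := by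
      intro a b hab
      have : k⁻¹ * (a : X) * k = k⁻¹ * b * k := congrArg Subtype.val hab
      exact Subtype.ext (mul_left_cancel (mul_right_cancel this))
    intro x hx
    obtain ⟨y, hy⟩ := (Finite.injective_iff_surjective.1 hf) ⟨x, hx⟩
    have h5 : k⁻¹ * (y : X) * k = x := congrArg Subtype.val hy
    have h6 : k * x * k⁻¹ = y := by rw [← h5]; group
    rw [h6]; exact y.2
  have h7 := h1 _ hg
  have e1 : k⁻¹ * (g * x * g⁻¹) * k = (k⁻¹ * g) * x * (k⁻¹ * g)⁻¹ := by group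
  rw [e1] at h7
  have h8 := hkV' _ (hsc (k⁻¹ * g) x hx h7)
  have e2 : k * (k⁻¹ * g * x * (k⁻¹ * g)⁻¹) * k⁻¹ = g * x * g⁻¹ := by group
  rwa [e2] at h8

/-- `C(u) = O(C(u)) (C(u) ∩ N(V))` for a strongly closed abelian subgroup `V` and `u ∈ V` with
solvable centralizer -/
theorem norm_of {X : Type*} [Group X] [Finite X] (P : Sylow 2 X) (V : Subgroup X)
    (hVP : V ≤ P) (hVc : ∀ a ∈ V, ∀ b ∈ V, a * b = b * a)
    (hsc : ∀ g : X, ∀ x ∈ V, g * x * g⁻¹ ∈ P → g * x * g⁻¹ ∈ V) (u : X) (hu : u ∈ V)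
    (hs : Group.IsSolvable ↥(Subgroup.centralizer ({u} : Set X))) :
    Subgroup.centralizer {u} ≤ centralizerPPrimeCore 2 u ⊔ Subgroup.normalizer (V : Set X) := by
  have h2 : Fact (Nat.Prime 2) := ⟨Nat.prime_two⟩
  have hVC : V ≤ centralizer ({u} : Set X) := fun a ha =>
    mem_centralizer_singleton_iff.2 (hVc a ha u hu)
  set C : Subgroup X := centralizer ({u} : Set X) with hC
  let V' : Subgroup C := V.subgroupOf C
  have hVp : IsPGroup 2 V := P.isPGroup'.to_le hVP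
  have hV' : IsPGroup 2 V' := hVp.comap_of_injective C.subtype C.subtype_injective
  obtain ⟨R, hR⟩ := hV'.exists_le_sylow
  have hRp : IsPGroup 2 ((R : Subgroup C).map C.subtype) := R.isPGroup'.map _
  have hVR : V ≤ (R : Subgroup C).map C.subtype := fun x hx =>
    ⟨⟨x, hVC hx⟩, hR (show (⟨x, hVC hx⟩ : C) ∈ V' from hx), rfl⟩
  have key := SC.sup_normalizer_eq_top (Z := C) R V' hR
    (fun a ha b hb => Subtype.ext (hVc a ha b hb))
    (fun a ha g hg => by
      show (g : X) * (a : X) * (g : X)⁻¹ ∈ V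
      exact sc_of P V hVP hsc hRp hVR ha ⟨g * a * g⁻¹, hg, rfl⟩)
  intro x hx
  have hx1 : (⟨x, hx⟩ : C) ∈ pPrimeCore 2 C ⊔ normalizer (V' : Set C) := by rw [key]; trivial
  have hx2 : x ∈ (pPrimeCore 2 C ⊔ normalizer (V' : Set C)).map C.subtype := ⟨_, hx1, rfl⟩
  rw [Subgroup.map_sup] at hx2
  have hle : (normalizer (V' : Set C)).map C.subtype ≤ normalizer (V : Set X) := by
    rintro _ ⟨n, hn, rfl⟩
    exact norm_aux hVC hn
  exact (sup_le_sup (le_refl _) hle : _ ≤ centralizerPPrimeCore 2 u ⊔ normalizer (V : Set X)) hx2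

end Cfsg.Agent.SylowU5.NormOf
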