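import Mathlib
import Cfsg.Agent.SylowU5.Prime

/-!
# Solvability of `C(u) ∩ C(z)` for the involutions `u` of `Q` outside `E`, when none of them is fused into `E`
-/

set_option autoImplicit false
set_option linter.unusedVariables false
set_option linter.unusedSectionVars false
open Cfsg

namespace Cfsg.Agent.SylowU5.CaseBSolv

universe u

open Subgroup Cfsg.Agent.SylowU5.Basic Cfsg.Agent.SignalizersComponents.RelSylow
  Cfsg.Agent.SylowU5.SolvT Cfsg.Agent.SylowU5.Fusion Cfsg.Agent.SylowU5.Rel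
  Cfsg.Agent.SylowU5.Prime

section Perm

open Equiv.Perm

set_option maxRecDepth 1000000

theorem three_cases : ∀ π : Equiv.Perm (Fin 5), π 0 = 0 → (∀ i, π (π i) = i) →
    (∀ i, i ≠ 0 → π i ≠ i) → π = PermFive.a0 ∨ π = PermFive.b0 ∨ π = PermFive.a0 * PermFive.b0 := by
  decide

theorem perm_index : ∀ π : Equiv.Perm (Fin 5), (π = PermFive.a0 ∨ π = PermFive.b0 ∨
    π = PermFive.a0 * PermFive.b0) → ∀ a b : Fin 5, a ≠ 0 → b ≠ 0 → a ≠ b →
    (π a = a ∧ π b = b ∨ π a = b ∧ π b = a) → 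
    (a = 1 ∧ b = π 1) ∨ (a = π 1 ∧ b = 1) ∨
      (π 1 = 2 ∧ (a = 3 ∧ b = 4 ∨ a = 4 ∧ b = 3)) ∨
      (π 1 = 3 ∧ (a = 2 ∧ b = 4 ∨ a = 4 ∧ b = 2)) ∨
      (π 1 = 4 ∧ (a = 2 ∧ b = 3 ∨ a = 3 ∧ b = 2)) := by
  decide

end Perm

section Two

variable {G : Type u} [Group G] {T : Subgroup G} (h : U5T T)
include h

theorem t13 : h.d 0 * (h.d 1 * h.d 3) = h.d 2 * h.d 4 := by
  rw [← Elem.prod_rest h]
  calc h.d 1 * h.d 2 * h.d 3 * h.d 4 * (h.d 1 * h.d 3)
      = h.d 1 * h.d 2 * h.d 3 * (h.d 4 * h.d 1) * h.d 3 := by group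
    _ = h.d 1 * h.d 2 * h.d 3 * (h.d 1 * h.d 4) * h.d 3 := by rw [Elem.d_comm h 4 1]
    _ = h.d 1 * h.d 2 * (h.d 3 * h.d 1) * (h.d 4 * h.d 3) := by group
    _ = h.d 1 * h.d 2 * (h.d 1 * h.d 3) * (h.d 3 * h.d 4) := by
        rw [Elem.d_comm h 3 1, Elem.d_comm h 4 3]
    _ = h.d 1 * (h.d 2 * h.d 1) * (h.d 3 * h.d 3) * h.d 4 := by group
    _ = h.d 1 * (h.d 1 * h.d 2) * (h.d 3 * h.d 3) * h.d 4 := by rw [Elem.d_comm h 2 1]
    _ = (h.d 1 * h.d 1) * h.d 2 * (h.d 3 * h.d 3) * h.d 4 := by group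
    _ = _ := by rw [Elem.d_sq h, Elem.d_sq h, one_mul, mul_one]

theorem t12 : h.d 0 * (h.d 1 * h.d 2) = h.d 3 * h.d 4 := by
  rw [← Elem.t_mul_z h]
  exact E_comm h (h.d_mem 0) (Elem.dd_mem h 1 2)

theorem t14 : h.d 0 * (h.d 1 * h.d 4) = h.d 2 * h.d 3 := by
  rw [← Elem.prod_rest h]
  calc h.d 1 * h.d 2 * h.d 3 * h.d 4 * (h.d 1 * h.d 4)
      = h.d 1 * h.d 2 * h.d 3 * (h.d 4 * h.d 1) * h.d 4 := by group
    _ = h.d 1 * h.d 2 * h.d 3 * (h.d 1 * h.d 4) * h.d 4 := by rw [Elem.d_comm h 4 1]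
    _ = h.d 1 * h.d 2 * (h.d 3 * h.d 1) * (h.d 4 * h.d 4) := by group
    _ = h.d 1 * h.d 2 * (h.d 1 * h.d 3) * (h.d 4 * h.d 4) := by rw [Elem.d_comm h 3 1]
    _ = h.d 1 * (h.d 2 * h.d 1) * h.d 3 * (h.d 4 * h.d 4) := by group
    _ = h.d 1 * (h.d 1 * h.d 2) * h.d 3 * (h.d 4 * h.d 4) := by rw [Elem.d_comm h 2 1]
    _ = (h.d 1 * h.d 1) * h.d 2 * h.d 3 * (h.d 4 * h.d 4) := by group
    _ = _ := by rw [Elem.d_sq h, Elem.d_sq h, one_mul, mul_one]

/-- `|C_T(u)| ≤ 64` for involutions `u ∉ E` -/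
theorem card_cent_le [Finite G] {u : G} (hu : u ∈ T) (huu : u * u = 1) (huE : u ∉ h.E) :
    Nat.card (T ⊓ centralizer ({u} : Set G) : Subgroup G) ≤ 64 := by
  have hle : T ⊓ centralizer ({u} : Set G) ≤ h.Q := fun g hg =>
    h.cent_u u hu huu huE g hg.1 (mem_centralizer_singleton_iff.1 hg.2)
  have hne : T ⊓ centralizer ({u} : Set G) ≠ h.Q := by
    intro heq
    have h1 := h.Q_cent u hu (by
      intro x hx
      rw [← heq] at hx
      exact (mem_centralizer_singleton_iff.1 hx.2).symm)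
    rcases h1 with rfl | rfl
    · exact huE h.E.one_mem
    · exact huE (h.d_mem 0)
  have hdvd := card_dvd_of_le hle
  rw [h.card_Q] at hdvd
  have hlt : Nat.card (T ⊓ centralizer ({u} : Set G) : Subgroup G) ≠ 128 := by
    intro h1
    apply hne
    apply eq_of_le_of_card_ge hle
    rw [h1, h.card_Q]
  obtain ⟨k, hk⟩ := hdvd
  rcases k with _ | _ | k
  · omega
  · omega
  · nlinarith

end Two

section Sylow

variable {G : Type u} [Group G] [Finite G] {T : Sylow 2 G} (h : U5T (T : Subgroup G))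
include h

/-- the permutation induced by an involution of `T` outside `E` -/
theorem exists_perm_u {u : G} (hu : u ∈ (T : Subgroup G)) (huu : u * u = 1) (huE : u ∉ h.E) :
    ∃ π : Equiv.Perm (Fin 5), (∀ i, u * h.d i * u⁻¹ = h.d (π i)) ∧
      (π = PermFive.a0 ∨ π = PermFive.b0 ∨ π = PermFive.a0 * PermFive.b0) := by
  obtain ⟨π, hπ⟩ := exists_perm h (T_le_normalizer h hu)
  obtain ⟨h0, h1, h2⟩ := perm_T h hu hπ
  refine ⟨π, hπ, three_cases π h0 h1 (h2 ?_)⟩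
  rintro rfl
  apply huE
  apply h.V_invol u _ huu
  apply h.cent_d 1 (by decide) u hu
  exact conj_eq_iff.1 (hπ 1)

/-- If no involution of `Q` outside `E` is fused into `E`, then `C(z) ∩ C(u)` is solvable for these
involutions. -/
theorem solvable_zu [IsSimpleGroup G] (hFT : OddOrder.{u})
    (hE : Group.IsSolvable ↥(centralizer (h.E : Set G)))
    (hB : ∀ u ∈ h.Q, u * u = 1 → u ∉ h.E → ∀ g : G, g * u * g⁻¹ ∉ h.E)
    {u : G} (hu : u ∈ h.Q) (huu : u * u = 1) (huE : u ∉ h.E) :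
    Group.IsSolvable ↥(centralizer ({h.d 0} : Set G) ⊓ centralizer ({u} : Set G)) := by
  set J : Subgroup G := centralizer ({h.d 0} : Set G) ⊓ centralizer ({u} : Set G) with hJ
  set W : Subgroup G := h.Q ⊓ centralizer ({u} : Set G) with hW
  have hW2 : IsPGroup 2 W := T.2.to_le (inf_le_left.trans h.Q_le)
  have hWJ : W ≤ J := le_inf (inf_le_left.trans (h.Q_le.trans (T_le_cent h))) inf_le_right
  obtain ⟨R, hR, hWR⟩ := exists_isMaxP hW2 hWJ
  have huW : u ∈ W := ⟨hu, mem_centralizer_singleton_iff.2 rfl⟩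
  -- `R = W`
  obtain ⟨c, -, hc⟩ := exists_conj_into (T := T) (M := ⊤) le_top hR.1 le_top
  have hcu : c * u * c⁻¹ ∈ (T : Subgroup G) := hc u (hWR huW)
  have hcuu : c * u * c⁻¹ * (c * u * c⁻¹) = 1 := by
    calc c * u * c⁻¹ * (c * u * c⁻¹) = c * (u * u) * c⁻¹ := by group
      _ = 1 := by rw [huu]; group
  have hcard : Nat.card R ≤ 64 := by
    rw [← card_map_conj R c]
    refine le_trans (Nat.card_le_card_of_injective _ (inclusion_injective ?_))
      (card_cent_le h hcu hcuu (hB u hu huu huE c))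
    rintro _ ⟨r, hr, rfl⟩
    refine mem_inf.2 ⟨hc r hr, ?_⟩
    rw [mem_centralizer_singleton_iff]
    have h1 := mem_centralizer_singleton_iff.1 (mem_inf.1 (hR.2.1 hr)).2
    show c * r * c⁻¹ * (c * u * c⁻¹) = c * u * c⁻¹ * (c * r * c⁻¹)
    calc c * r * c⁻¹ * (c * u * c⁻¹) = c * (r * u) * c⁻¹ := by group
      _ = c * (u * r) * c⁻¹ := by rw [h1]
      _ = _ := by group
  have hRW : W = R := eq_of_le_of_card_ge hWR (hcard.trans (card_cent_Q h hu))
  obtain ⟨π, hπ, hπc⟩ := exists_perm_u h (h.Q_le hu) huu huE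
  have hπ1 : π 1 ≠ 0 ∧ π 1 ≠ 1 ∧ π (π 1) = 1 := by
    rcases hπc with rfl | rfl | rfl <;> decide
  -- the element `t'`
  set t' : G := h.d 1 * h.d (π 1) with ht'
  have htE : t' ∈ h.E := Elem.dd_mem h _ _
  have htQ : t' ∈ h.Q := h.dd_mem_Q 1 (π 1) (by decide) hπ1.1
  have htu : t' * u = u * t' := by
    have h1 : u * t' * u⁻¹ = t' := by
      calc u * t' * u⁻¹ = (u * h.d 1 * u⁻¹) * (u * h.d (π 1) * u⁻¹) := by rw [ht']; group
        _ = h.d (π 1) * h.d 1 := by rw [hπ, hπ, hπ1.2.2]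
        _ = _ := Elem.d_comm h _ _
    rw [conj_eq_iff] at h1
    exact h1.symm
  have htW : t' ∈ W := ⟨htQ, mem_centralizer_singleton_iff.2 htu⟩
  have hzW : h.d 0 ∈ W := ⟨h.z_mem_Q, mem_centralizer_singleton_iff.2
    (h.z_comm u (h.Q_le hu)).symm⟩
  refine solvable_of_isolated_mod hFT hR (x := t') (t := h.d 0) (hWR htW) (hWR hzW)
    (fun m hm => mem_centralizer_singleton_iff.1 (mem_inf.1 hm).1) (h.E_sq _ htE) (d_sq h 0)
    (h.dd_ne_one _ _ hπ1.2.1.symm) (h.d_ne_one 0)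
    (fun h1 => h.dd_ne_d _ _ _ hπ1.2.1.symm h1) ?_ ?_
  · intro m hm hmR
    set y := m * t' * m⁻¹ with hy
    have hyy : y * y = 1 := by
      calc y * y = m * (t' * t') * m⁻¹ := by rw [hy]; group
        _ = 1 := by rw [h.E_sq _ htE]; group
    rw [← hRW] at hmR
    have hmt : m⁻¹ * y * m⁻¹⁻¹ = t' := by rw [hy]; group
    have hyE : y ∈ h.E := by
      by_contra hyE
      apply hB y hmR.1 hyy hyE m⁻¹
      rw [hmt]; exact htE
    have hyu : y * u = u * y := mem_centralizer_singleton_iff.1 hmR.2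
    rcases Elem.mem_E_inter_Q h hyE hmR.1 with h1 | h1 | ⟨a, b, ha, hb, hab, h1⟩
    · exfalso
      rw [h1] at hmt
      apply h.dd_ne_one _ _ hπ1.2.1.symm
      rw [← ht', ← hmt]; group
    · exfalso
      rw [h1] at hmt
      have hmz := mem_centralizer_singleton_iff.1 (mem_inf.1 hm).1
      have h2 : t' = h.d 0 := by
        rw [← hmt, inv_inv]
        calc m⁻¹ * h.d 0 * m = m⁻¹ * (h.d 0 * m) := by group
          _ = m⁻¹ * (m * h.d 0) := by rw [hmz]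
          _ = _ := by group
      exact h.dd_ne_d _ _ _ hπ1.2.1.symm h2
    · have h2 : h.d (π a) * h.d (π b) = h.d a * h.d b := by
        calc h.d (π a) * h.d (π b) = (u * h.d a * u⁻¹) * (u * h.d b * u⁻¹) := by rw [hπ, hπ]
          _ = u * y * u⁻¹ := by rw [h1]; group
          _ = y := conj_eq_iff.2 hyu.symm
          _ = _ := h1
      have h3 := h.dd_inj _ _ _ _ (fun h4 => hab (π.injective h4)) hab h2
      rcases perm_index π hπc a b ha hb hab h3 with ⟨h4, h5⟩ | ⟨h4, h5⟩ | ⟨h6, h4⟩ | ⟨h6, h4⟩ |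
        ⟨h6, h4⟩
      · left; rw [h1, h4, h5]
      · left; rw [h1, h4, h5]; exact Elem.d_comm h _ _
      · right
        rw [ht', h6, t12 h, h1]
        rcases h4 with ⟨h4, h5⟩ | ⟨h4, h5⟩
        · rw [h4, h5]
        · rw [h4, h5]; exact Elem.d_comm h _ _
      · right
        rw [ht', h6, t13 h, h1]
        rcases h4 with ⟨h4, h5⟩ | ⟨h4, h5⟩
        · rw [h4, h5]
        · rw [h4, h5]; exact Elem.d_comm h _ _
      · right
        rw [ht', h6, t14 h, h1]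
        rcases h4 with ⟨h4, h5⟩ | ⟨h4, h5⟩
        · rw [h4, h5]
        · rw [h4, h5]; exact Elem.d_comm h _ _
  · refine solvable_mono ?_ (solvable_zdd h hFT hE (i := 1) (j := π 1) (by decide) hπ1.1
      hπ1.2.1.symm)
    intro m hm
    exact ⟨(mem_inf.1 (mem_inf.1 hm).1).1, (mem_inf.1 hm).2⟩

end Sylow

end Cfsg.Agent.SylowU5.CaseBSolv
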