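import Mathlib
import Cfsg.Agent.SylowU5.Prime

/-!
# `Q/⟨z⟩` is strongly closed in `T/⟨z⟩` with respect to `C(z)/⟨z⟩`
-/

set_option autoImplicit false
set_option linter.unusedVariables false
set_option linter.unusedSectionVars false
open Cfsg

namespace Cfsg.Agent.SylowU5.Closed

universe u

open Subgroup Cfsg.Agent.SylowU5.Basic Cfsg.Agent.SignalizersComponents.RelSylow
  Cfsg.Agent.SylowU5.Fusion Cfsg.Agent.SylowU5.Prime

variable {G : Type u} [Group G]

/-- the centralizer of `w` modulo `⟨z⟩` in `C(z)` -/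
def Cm (z : G) (hz : z * z = 1) (w : G) : Subgroup G where
  carrier := {c | c * z = z * c ∧ (c * w * c⁻¹ = w ∨ c * w * c⁻¹ = w * z)}
  one_mem' := ⟨by simp, Or.inl (by simp)⟩
  mul_mem' := by
    rintro a b ⟨ha, ha'⟩ ⟨hb, hb'⟩
    refine ⟨by rw [mul_assoc, hb, ← mul_assoc, ha, mul_assoc], ?_⟩
    have haz : a * z * a⁻¹ = z := by rw [ha, mul_inv_cancel_right]
    have e : a * b * w * (a * b)⁻¹ = a * (b * w * b⁻¹) * a⁻¹ := by group
    rw [e]
    rcases hb' with h1 | h1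
    · rw [h1]; exact ha'
    · rw [h1]
      have e2 : a * (w * z) * a⁻¹ = (a * w * a⁻¹) * (a * z * a⁻¹) := by group
      rw [e2, haz]
      rcases ha' with h2 | h2
      · right; rw [h2]
      · left; rw [h2, mul_assoc, hz, mul_one]
  inv_mem' := by
    rintro a ⟨ha, ha'⟩
    have haz : a⁻¹ * z = z * a⁻¹ := by
      calc a⁻¹ * z = a⁻¹ * (z * a) * a⁻¹ := by group
        _ = a⁻¹ * (a * z) * a⁻¹ := by rw [ha]
        _ = _ := by group
    refine ⟨haz, ?_⟩
    rcases ha' with h1 | h1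
    · left
      calc a⁻¹ * w * a⁻¹⁻¹ = a⁻¹ * (a * w * a⁻¹) * a := by rw [h1]; group
        _ = w := by group
    · right
      have h2 : w = a⁻¹ * (w * z) * a := by rw [← h1]; group
      calc a⁻¹ * w * a⁻¹⁻¹ = a⁻¹ * w * (z * z) * a := by rw [hz]; group
        _ = a⁻¹ * (w * z) * (z * a) := by group
        _ = a⁻¹ * (w * z) * (a * z) := by rw [ha]
        _ = a⁻¹ * (w * z) * a * z := by group
        _ = _ := by rw [← h2]

theorem mem_Cm {z : G} (hz : z * z = 1) {w c : G} :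
    c ∈ Cm z hz w ↔ c * z = z * c ∧ (c * w * c⁻¹ = w ∨ c * w * c⁻¹ = w * z) := Iff.rfl

section

variable [Finite G] {T : Sylow 2 G} (h : U5T (T : Subgroup G))
include h

/-- `C(z)`-conjugates in `T` of involutions of `Q` are in `Q` -/
theorem invol_closed [IsSimpleGroup G] {g : G} (hg : g * h.d 0 = h.d 0 * g) {x : G} (hx : x ∈ h.Q)
    (hxx : x * x = 1) (hT : g * x * g⁻¹ ∈ (T : Subgroup G)) : g * x * g⁻¹ ∈ h.Q := by
  by_contra hyQ
  set y := g * x * g⁻¹ with hy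
  have hgz : g * h.d 0 * g⁻¹ = h.d 0 := conj_eq_iff.2 hg
  have hyy : y * y = 1 := by
    calc y * y = g * (x * x) * g⁻¹ := by rw [hy]; group
      _ = 1 := by rw [hxx]; group
  have hyE : y ∈ h.E := (h.invol y hT hyy).resolve_right hyQ
  -- `y` or `z y` is some `d i`, `i ≠ 0`
  have key : ∀ w ∈ h.Q, ∀ i, i ≠ 0 → g * w * g⁻¹ ≠ h.d i := by
    intro w hw i hi hwi
    obtain ⟨n, hn, hnz⟩ := exists_conj_d h i
    have h1 : (g⁻¹ * n) * h.d 0 * (g⁻¹ * n)⁻¹ = w := by
      calc (g⁻¹ * n) * h.d 0 * (g⁻¹ * n)⁻¹ = g⁻¹ * (n * h.d 0 * n⁻¹) * g := by group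
        _ = g⁻¹ * (g * w * g⁻¹) * g := by rw [hnz, hwi]
        _ = w := by group
    obtain ⟨j, hj⟩ := z_fus h (g := g⁻¹ * n) (by rw [h1]; exact h.Q_le hw)
    rw [h1] at hj
    by_cases hj0 : j = 0
    · rw [hj, hj0, hgz] at hwi
      exact hi (h.d_inj _ _ hwi).symm
    · exact h.d_not_mem_Q j hj0 (hj ▸ hw)
  rcases h.E_cases y hyE with h1 | ⟨i, h1⟩ | ⟨i, j, hij, h1⟩
  · exact hyQ (h1 ▸ h.Q.one_mem)
  · by_cases hi : i = 0
    · apply hyQ; rw [h1, hi]; exact h.z_mem_Q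
    · exact key x hx i hi h1
  · by_cases hi : i = 0
    · subst hi
      refine key (h.d 0 * x) (h.Q.mul_mem h.z_mem_Q hx) j (fun h2 => hij h2.symm) ?_
      calc g * (h.d 0 * x) * g⁻¹ = (g * h.d 0 * g⁻¹) * (g * x * g⁻¹) := by group
        _ = h.d 0 * (h.d 0 * h.d j) := by rw [hgz, ← hy, h1]
        _ = h.d j := by rw [← mul_assoc, d_sq, one_mul]
    · by_cases hj : j = 0
      · subst hj
        refine key (h.d 0 * x) (h.Q.mul_mem h.z_mem_Q hx) i hi ?_
        calc g * (h.d 0 * x) * g⁻¹ = (g * h.d 0 * g⁻¹) * (g * x * g⁻¹) := by group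
          _ = h.d 0 * (h.d i * h.d 0) := by rw [hgz, ← hy, h1]
          _ = h.d 0 * (h.d 0 * h.d i) := by rw [Elem.d_comm h i 0]
          _ = h.d i := by rw [← mul_assoc, d_sq, one_mul]
      · apply hyQ
        rw [h1]
        exact h.dd_mem_Q i j hi hj

/-- `Q` is weakly closed in `T` with respect to `C(z)` -/
theorem weakly_closed [IsSimpleGroup G] {g : G} (hg : g * h.d 0 = h.d 0 * g)
    (hT : ∀ x ∈ h.Q, g * x * g⁻¹ ∈ (T : Subgroup G)) :
    h.Q.map (MulAut.conj g).toMonoidHom = h.Q := by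
  have hle : h.Q.map (MulAut.conj g).toMonoidHom ≤ h.Q := by
    rw [map_le_iff_le_comap]
    refine h.Q_gen.trans ((closure_le _).2 ?_)
    rintro u ⟨hu, huu, -⟩
    exact invol_closed h hg hu huu (hT u hu)
  apply eq_of_le_of_card_ge hle
  rw [card_map_conj]

/-- an element of `T` centralizing `Q/⟨z⟩` is in `Q` -/
theorem mem_Q_of_centralizes {y : G} (hy : y ∈ (T : Subgroup G))
    (hc : ∀ a ∈ h.Q, y * a = a * y ∨ y * a = a * y * h.d 0) : y ∈ h.Q := by
  -- an involution in `Q \ E` moving `d 1` to `d 2`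
  obtain ⟨g, hg, hgd⟩ := h.conj_d_trans 2 (by decide)
  have hgV : g ∉ h.V := by
    intro hgV
    have h1 := conj_eq_iff.2 (V_comm_E h hgV (h.d_mem 1))
    rw [h1] at hgd
    exact absurd (h.d_inj _ _ hgd) (by decide)
  obtain ⟨u, hu, huu, huV⟩ := h.exists_u g hg hgV
  have hud : u * h.d 1 * u⁻¹ = h.d 2 := by
    have h1 := V_comm_E h huV (h.d_mem 2)
    calc u * h.d 1 * u⁻¹ = (u * g⁻¹) * (g * h.d 1 * g⁻¹) * (u * g⁻¹)⁻¹ := by group
      _ = (u * g⁻¹) * h.d 2 * (u * g⁻¹)⁻¹ := by rw [hgd]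
      _ = h.d 2 := conj_eq_iff.2 h1
  have huE : u ∉ h.E := by
    intro huE
    have h1 := conj_eq_iff.2 (E_comm h huE (h.d_mem 1))
    rw [h1] at hud
    exact absurd (h.d_inj _ _ hud) (by decide)
  rcases h.cent_mod_z u hu huE y hy (hc u hu) with h1 | h1
  · exact h1
  · exfalso
    -- `d 1` centralizes `Q/⟨z⟩`
    have h2 : u * h.d 1 * u⁻¹ = h.d 1 ∨ u * h.d 1 * u⁻¹ = h.d 1 * h.d 0 := by
      have hz : ∀ g ∈ (T : Subgroup G), g * h.d 0 = h.d 0 * g := h.z_comm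
      have hzu := hz u (h.Q_le hu)
      have hzy := hz y hy
      have huq := h.Q_comm u hu _ h1
      have huy := hc u hu
      -- `u (y d1) u⁻¹ = (u y u⁻¹) (u d1 u⁻¹)`
      have e1 : u * h.d 1 * u⁻¹ = (u * y * u⁻¹)⁻¹ * (u * (y * h.d 1) * u⁻¹) := by group
      have e2 : u * y * u⁻¹ = y ∨ u * y * u⁻¹ = y * h.d 0 := by
        rcases huy with h3 | h3
        · left; rw [← h3]; group
        · right
          have h4 : u * y = y * u * h.d 0 := by
            calc u * y = u * y * (h.d 0 * h.d 0) := by rw [d_sq, mul_one]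
              _ = (u * y * h.d 0) * h.d 0 := by group
              _ = y * u * h.d 0 := by rw [← h3]
          rw [h4]
          calc y * u * h.d 0 * u⁻¹ = y * (u * h.d 0) * u⁻¹ := by group
            _ = y * (h.d 0 * u) * u⁻¹ := by rw [hzu]
            _ = _ := by group
      have e3 : u * (y * h.d 1) * u⁻¹ = y * h.d 1 ∨ u * (y * h.d 1) * u⁻¹ = y * h.d 1 * h.d 0 := by
        rcases huq with h3 | h3
        · left; rw [h3]; group
        · right
          rw [h3]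
          calc y * h.d 1 * u * h.d 0 * u⁻¹ = y * h.d 1 * (u * h.d 0) * u⁻¹ := by group
            _ = y * h.d 1 * (h.d 0 * u) * u⁻¹ := by rw [hzu]
            _ = _ := by group
      have hz1 : h.d 0 * h.d 1 = h.d 1 * h.d 0 := Elem.d_comm h 0 1
      rcases e2 with e2 | e2 <;> rcases e3 with e3 | e3 <;> rw [e1, e2, e3]
      · left; group
      · right; group
      · right
        rw [mul_inv_rev, d_inv]
        calc h.d 0 * y⁻¹ * (y * h.d 1) = h.d 0 * h.d 1 := by group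
          _ = _ := hz1
      · left
        rw [mul_inv_rev, d_inv]
        calc h.d 0 * y⁻¹ * (y * h.d 1 * h.d 0) = (h.d 0 * h.d 1) * h.d 0 := by group
          _ = h.d 1 * (h.d 0 * h.d 0) := by rw [hz1]; group
          _ = _ := by rw [d_sq, mul_one]
    rw [hud] at h2
    rcases h2 with h2 | h2
    · exact absurd (h.d_inj _ _ h2) (by decide)
    · exact h.dd_ne_d 1 0 2 (by decide) h2.symm

/-- **strong closure** of `Q/⟨z⟩` -/
theorem strongly_closed [IsSimpleGroup G]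
    (hcy : ∀ y ∈ (T : Subgroup G), y ∉ h.Q → y * y = h.d 0 →
      256 ≤ Nat.card {s : G // s ∈ (T : Subgroup G) ∧ (s * y = y * s ∨ s * y = y * s * h.d 0)})
    {g : G} (hg : g * h.d 0 = h.d 0 * g) {x : G} (hx : x ∈ h.Q)
    (hT : g * x * g⁻¹ ∈ (T : Subgroup G)) : g * x * g⁻¹ ∈ h.Q := by
  have h2 : Fact (Nat.Prime 2) := ⟨Nat.prime_two⟩
  rcases h.Q_sq x hx with hxx | hxx
  · exact invol_closed h hg hx hxx hT
  by_contra hyQ
  set y := g * x * g⁻¹ with hy
  have hgz : g * h.d 0 * g⁻¹ = h.d 0 := conj_eq_iff.2 hg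
  have hyy : y * y = h.d 0 := by
    calc y * y = g * (x * x) * g⁻¹ := by rw [hy]; group
      _ = h.d 0 := by rw [hxx, hgz]
  have hz := d_sq h 0
  set Ty : Subgroup G := (T : Subgroup G) ⊓ Cm (h.d 0) hz y with hTy
  have hcomm : ∀ w s : G, s ∈ (T : Subgroup G) →
      (s ∈ Cm (h.d 0) hz w ↔ (s * w = w * s ∨ s * w = w * s * h.d 0)) := by
    intro w s hs
    have h1 := h.z_comm s hs
    rw [mem_Cm]
    constructor
    · rintro ⟨-, h3 | h3⟩
      · left; exact conj_eq_iff.1 h3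
      · right
        calc s * w = s * w * s⁻¹ * s := by group
          _ = w * (h.d 0 * s) := by rw [h3]; group
          _ = w * (s * h.d 0) := by rw [h1]
          _ = _ := by group
    · rintro (h3 | h3)
      · exact ⟨h1, Or.inl (conj_eq_iff.2 h3)⟩
      · refine ⟨h1, Or.inr ?_⟩
        rw [h3]
        calc w * s * h.d 0 * s⁻¹ = w * (s * h.d 0) * s⁻¹ := by group
          _ = w * (h.d 0 * s) * s⁻¹ := by rw [h1]
          _ = _ := by group
  have hTycard : 256 ≤ Nat.card Ty := by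
    refine (hcy y hT hyQ hyy).trans (le_of_eq ?_)
    refine Nat.card_congr (Equiv.subtypeEquivRight fun s => ?_)
    rw [mem_inf]
    constructor
    · rintro ⟨h3, h4⟩; exact ⟨h3, (hcomm y s h3).2 h4⟩
    · rintro ⟨h3, h4⟩; exact ⟨h3, (hcomm y s h3).1 h4⟩
  -- Sylow subgroup of `Cm x` containing `Q`
  have hQC : h.Q ≤ Cm (h.d 0) hz x := fun a ha =>
    (hcomm x a (h.Q_le ha)).2 (h.Q_comm a ha x hx)
  obtain ⟨R, hR, hQR⟩ := exists_isMaxP (T.2.to_le h.Q_le) hQC
  have hRz : R ≤ centralizer ({h.d 0} : Set G) := fun r hr =>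
    mem_centralizer_singleton_iff.2 (hR.2.1 hr).1
  obtain ⟨c, hc, hcR⟩ := exists_conj_into (T_le_cent h) hR.1 hRz
  have hc' := mem_centralizer_singleton_iff.1 hc
  have hcQ := weakly_closed h hc' (fun a ha => hcR a (hQR ha))
  set x' := c * x * c⁻¹ with hx'
  have hx'Q : x' ∈ h.Q := by rw [← hcQ]; exact ⟨x, hx, rfl⟩
  have hcz : c * h.d 0 * c⁻¹ = h.d 0 := conj_eq_iff.2 hc'
  have hx'x' : x' * x' = h.d 0 := by
    calc x' * x' = c * (x * x) * c⁻¹ := by rw [hx']; group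
      _ = h.d 0 := by rw [hxx, hcz]
  have hx'E : x' ∉ h.E := by
    intro hE
    have h3 := h.E_sq _ hE
    rw [hx'x'] at h3
    exact h.d_ne_one 0 h3
  -- order of `R`
  have hRcard : Nat.card R ≤ 256 := by
    rw [← card_map_conj R c]
    have hsub : ∀ s ∈ R.map (MulAut.conj c).toMonoidHom, s ∈ h.Q ∨ s * h.d 1 ∈ h.Q := by
      rintro _ ⟨r, hr, rfl⟩
      have hrT : c * r * c⁻¹ ∈ (T : Subgroup G) := hcR r hr
      apply h.cent_mod_z x' hx'Q hx'E (c * r * c⁻¹) hrT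
      rw [← hcomm x' _ hrT, mem_Cm]
      refine ⟨h.z_comm _ hrT, ?_⟩
      have e : c * r * c⁻¹ * x' * (c * r * c⁻¹)⁻¹ = c * (r * x * r⁻¹) * c⁻¹ := by rw [hx']; group
      rw [e]
      rcases (hR.2.1 hr).2 with h3 | h3
      · left; rw [h3]
      · right; rw [h3]
        calc c * (x * h.d 0) * c⁻¹ = (c * x * c⁻¹) * (c * h.d 0 * c⁻¹) := by group
          _ = _ := by rw [hcz]
    classical
    have hinj : Function.Injective (fun s : R.map (MulAut.conj c).toMonoidHom =>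
        if hs : (s : G) ∈ h.Q then (Sum.inl ⟨s, hs⟩ : h.Q ⊕ h.Q)
        else Sum.inr ⟨s * h.d 1, (hsub s s.2).resolve_left hs⟩) := by
      intro a b hab
      simp only at hab
      by_cases ha : (a : G) ∈ h.Q <;> by_cases hb : (b : G) ∈ h.Q
      · rw [dif_pos ha, dif_pos hb] at hab
        have h4 := Sum.inl.inj hab
        exact Subtype.ext (congrArg (fun t : h.Q => (t : G)) h4)
      · rw [dif_pos ha, dif_neg hb] at hab
        exact absurd hab (by simp)
      · rw [dif_neg ha, dif_pos hb] at hab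
        exact absurd hab (by simp)
      · rw [dif_neg ha, dif_neg hb] at hab
        have h4 := Sum.inr.inj hab
        have h3 : (a : G) * h.d 1 = b * h.d 1 := congrArg (fun t : h.Q => (t : G)) h4
        exact Subtype.ext (mul_right_cancel h3)
    have h3 := Nat.card_le_card_of_injective _ hinj
    rw [Nat.card_sum, h.card_Q] at h3
    exact h3
  -- `g⁻¹ Ty g` is conjugate to `R` in `Cm x`
  have hW : Ty.map (MulAut.conj g⁻¹).toMonoidHom ≤ Cm (h.d 0) hz x := by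
    rintro _ ⟨s, hs, rfl⟩
    have hs2 := (mem_inf.1 hs).2
    have hgz' : g⁻¹ * h.d 0 * g = h.d 0 := by
      calc g⁻¹ * h.d 0 * g = g⁻¹ * (h.d 0 * g) := by group
        _ = g⁻¹ * (g * h.d 0) := by rw [hg]
        _ = _ := by group
    show g⁻¹ * s * g⁻¹⁻¹ ∈ _
    rw [inv_inv, mem_Cm]
    constructor
    · calc g⁻¹ * s * g * h.d 0 = g⁻¹ * (s * (g * h.d 0)) := by group
        _ = g⁻¹ * ((s * h.d 0) * g) := by rw [hg]; group
        _ = (g⁻¹ * h.d 0 * g) * (g⁻¹ * s * g) := by rw [hs2.1]; group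
        _ = _ := by rw [hgz']
    · have e : g⁻¹ * s * g * x * (g⁻¹ * s * g)⁻¹ = g⁻¹ * (s * y * s⁻¹) * g := by rw [hy]; group
      rw [e]
      rcases hs2.2 with h3 | h3
      · left; rw [h3, hy]; group
      · right; rw [h3]
        calc g⁻¹ * (y * h.d 0) * g = (g⁻¹ * y * g) * (g⁻¹ * h.d 0 * g) := by group
          _ = _ := by rw [hgz', hy]; group
  have hTy2 : IsPGroup 2 Ty := T.2.to_le inf_le_left
  obtain ⟨m, hm, hmR⟩ := hR.exists_conj_le (hTy2.map _) hW
  have hEq : (Ty.map (MulAut.conj g⁻¹).toMonoidHom).map (MulAut.conj m).toMonoidHom = R := by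
    apply eq_of_le_of_card_ge hmR
    rw [card_map_conj, card_map_conj]
    exact hRcard.trans hTycard
  -- `k = g m⁻¹` conjugates `Q` into `Ty`
  have hkQ : ∀ a ∈ h.Q, (g * m⁻¹) * a * (g * m⁻¹)⁻¹ ∈ Ty := by
    intro a ha
    have h3 := hQR ha
    rw [← hEq] at h3
    obtain ⟨_, ⟨s, hs, rfl⟩, hsa⟩ := h3
    have h4 : m * (g⁻¹ * s * g⁻¹⁻¹) * m⁻¹ = a := hsa
    have h5 : (g * m⁻¹) * a * (g * m⁻¹)⁻¹ = s := by rw [← h4]; group
    rw [h5]; exact hs
  have hmz := (hm : m ∈ Cm (h.d 0) hz x).1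
  have hkz : (g * m⁻¹) * h.d 0 = h.d 0 * (g * m⁻¹) := by
    have h3 : m⁻¹ * h.d 0 = h.d 0 * m⁻¹ := by
      calc m⁻¹ * h.d 0 = m⁻¹ * (h.d 0 * m) * m⁻¹ := by group
        _ = m⁻¹ * (m * h.d 0) * m⁻¹ := by rw [hmz]
        _ = _ := by group
    calc g * m⁻¹ * h.d 0 = g * (m⁻¹ * h.d 0) := by group
      _ = (g * h.d 0) * m⁻¹ := by rw [h3]; group
      _ = _ := by rw [hg]; group
  have hkw := weakly_closed h hkz (fun a ha => (mem_inf.1 (hkQ a ha)).1)
  apply hyQ
  apply mem_Q_of_centralizes h hT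
  intro a ha
  rw [← hkw] at ha
  obtain ⟨b, hb, hba⟩ := ha
  have h3 : a ∈ Ty := by
    rw [← hba]; exact hkQ b hb
  have h4 := (hcomm y a (mem_inf.1 h3).1).1 (mem_inf.1 h3).2
  rcases h4 with h5 | h5
  · left; exact h5.symm
  · right
    rw [h5]
    calc y * a = y * a * (h.d 0 * h.d 0) := by rw [hz, mul_one]
      _ = _ := by group

end

end Cfsg.Agent.SylowU5.Closed
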