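import Mathlib
import Cfsg.Agent.SylowU5.Closed
import Cfsg.Agent.SylowU5.CaseBSolv
import Cfsg.Agent.SylowU5.CentSolvCore
import Cfsg.Agent.SylowU5.SC

/-!
# Verification of the hypotheses of `CentSolvCore.isSolvable_of` in `C(z)/⟨z⟩`
-/

set_option autoImplicit false
set_option linter.unusedVariables false
set_option linter.unusedSectionVars false
open Cfsg

namespace Cfsg.Agent.SylowU5.Quot

universe u

open Subgroup Cfsg.Agent.SylowU5.Basic Cfsg.Agent.SignalizersComponents.RelSylow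
  Cfsg.Agent.SylowU5.Fusion Cfsg.Agent.SylowU5.Prime Cfsg.Agent.SylowU5.Closed
  Cfsg.Agent.SylowU5.SolvT Cfsg.Agent.SylowU5.Rel Cfsg.Agent.SylowU5.CaseBSolv

/-! ### Squares and commutators in `Q` -/

section Form

variable {G : Type u} [Group G] {T : Subgroup G} (h : U5T T)
include h

open Classical in
/-- the square map `Q → ZMod 2` -/
noncomputable def s (_h : U5T T) (a : G) : ZMod 2 := if a * a = 1 then 0 else 1

open Classical in
/-- the commutator map `Q × Q → ZMod 2` -/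
noncomputable def β (_h : U5T T) (a b : G) : ZMod 2 := if a * b = b * a then 0 else 1

/-- `ZMod 2 → ⟨z⟩` -/
def ζ (x : ZMod 2) : G := if x = 0 then 1 else h.d 0

theorem ζ_zero : ζ h 0 = 1 := if_pos rfl

theorem ζ_one : ζ h 1 = h.d 0 := if_neg (by decide)

theorem ζ_add (x y : ZMod 2) : ζ h (x + y) = ζ h x * ζ h y := by
  have h01 : ∀ a : ZMod 2, a = 0 ∨ a = 1 := by decide
  rcases h01 x with rfl | rfl <;> rcases h01 y with rfl | rfl
  · simp [ζ_zero]
  · simp [ζ_zero]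
  · simp [ζ_zero]
  · rw [show (1 : ZMod 2) + 1 = 0 from rfl, ζ_zero, ζ_one, d_sq]

theorem ζ_inj {x y : ZMod 2} (hxy : ζ h x = ζ h y) : x = y := by
  have h01 : ∀ a : ZMod 2, a = 0 ∨ a = 1 := by decide
  rcases h01 x with rfl | rfl <;> rcases h01 y with rfl | rfl
  · rfl
  · rw [ζ_zero, ζ_one] at hxy; exact absurd hxy.symm (h.d_ne_one 0)
  · rw [ζ_zero, ζ_one] at hxy; exact absurd hxy (h.d_ne_one 0)
  · rfl

theorem ζ_comm (x : ZMod 2) {a : G} (ha : a ∈ h.Q) : ζ h x * a = a * ζ h x := by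
  have h01 : ∀ a : ZMod 2, a = 0 ∨ a = 1 := by decide
  rcases h01 x with rfl | rfl
  · rw [ζ_zero, one_mul, mul_one]
  · rw [ζ_one]; exact (h.z_comm a (h.Q_le ha)).symm

theorem sq_eq {a : G} (ha : a ∈ h.Q) : a * a = ζ h (s h a) := by
  unfold s
  by_cases h1 : a * a = 1
  · rw [if_pos h1, ζ_zero, h1]
  · rw [if_neg h1, ζ_one]
    exact (h.Q_sq a ha).resolve_left h1

theorem comm_eq {a b : G} (ha : a ∈ h.Q) (hb : b ∈ h.Q) : a * b = b * a * ζ h (β h a b) := by
  unfold β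
  by_cases h1 : a * b = b * a
  · rw [if_pos h1, ζ_zero, h1, mul_one]
  · rw [if_neg h1, ζ_one]
    exact (h.Q_comm a ha b hb).resolve_left h1

theorem s_mul {a b : G} (ha : a ∈ h.Q) (hb : b ∈ h.Q) : s h (a * b) = s h a + s h b + β h a b := by
  apply ζ_inj h
  rw [ζ_add, ζ_add, ← sq_eq h (h.Q.mul_mem ha hb), ← sq_eq h ha, ← sq_eq h hb]
  have h1 := comm_eq h hb ha
  have h2 : ζ h (β h a b) = ζ h (β h b a) := by
    have h3 : β h a b = β h b a := by
      unfold β
      by_cases h4 : a * b = b * a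
      · rw [if_pos h4, if_pos h4.symm]
      · rw [if_neg h4, if_neg (fun h5 => h4 h5.symm)]
    rw [h3]
  rw [h2]
  calc a * b * (a * b) = a * (b * a) * b := by group
    _ = a * (a * b * ζ h (β h b a)) * b := by rw [← h1]
    _ = a * a * b * (ζ h (β h b a) * b) := by group
    _ = a * a * b * (b * ζ h (β h b a)) := by rw [ζ_comm h _ hb]
    _ = _ := by group

theorem β_mul {a b c : G} (ha : a ∈ h.Q) (hb : b ∈ h.Q) (hc : c ∈ h.Q) :
    β h (a * b) c = β h a c + β h b c := by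
  apply ζ_inj h
  have h1 := comm_eq h (h.Q.mul_mem ha hb) hc
  have h2 : a * b * c = c * (a * b) * (ζ h (β h a c) * ζ h (β h b c)) := by
    calc a * b * c = a * (b * c) := by group
      _ = a * (c * b * ζ h (β h b c)) := by rw [← comm_eq h hb hc]
      _ = (a * c) * b * ζ h (β h b c) := by group
      _ = (c * a * ζ h (β h a c)) * b * ζ h (β h b c) := by rw [← comm_eq h ha hc]
      _ = c * a * (ζ h (β h a c) * b) * ζ h (β h b c) := by group
      _ = c * a * (b * ζ h (β h a c)) * ζ h (β h b c) := by rw [ζ_comm h _ hb]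
      _ = _ := by group
  rw [ζ_add]
  exact mul_left_cancel (h1.symm.trans h2)

theorem s_quad {a b c : G} (ha : a ∈ h.Q) (hb : b ∈ h.Q) (hc : c ∈ h.Q) :
    s h (a * b * c) = s h (a * b) + s h (a * c) + s h (b * c) + s h a + s h b + s h c := by
  rw [s_mul h (h.Q.mul_mem ha hb) hc, s_mul h ha hb, s_mul h ha hc, s_mul h hb hc,
    β_mul h ha hb hc]
  generalize s h a = x
  generalize s h b = y
  generalize s h c = w
  generalize β h a b = p
  generalize β h a c = q
  generalize β h b c = r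
  revert x y w p q r
  decide

end Form

/-! ### The quotient -/

section Quotient

variable {G : Type u} [Group G] [Finite G] {T : Sylow 2 G} (h : U5T (T : Subgroup G))

/-- `C(z)` -/
abbrev C : Subgroup G := centralizer ({h.d 0} : Set G)

/-- `⟨z⟩` in `C(z)` -/
def Z : Subgroup ↥(C h) where
  carrier := {x | (x : G) = 1 ∨ (x : G) = h.d 0}
  one_mem' := Or.inl rfl
  mul_mem' := by
    intro a b ha hb
    simp only [Set.mem_ofPred_eq, Subgroup.coe_mul] at ha hb ⊢
    rcases ha with ha | ha <;> rcases hb with hb | hb <;> rw [ha, hb]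
    · left; rw [one_mul]
    · right; rw [one_mul]
    · right; rw [mul_one]
    · left; exact d_sq h 0
  inv_mem' := by
    intro a ha
    simp only [Set.mem_ofPred_eq, InvMemClass.coe_inv] at ha ⊢
    rcases ha with ha | ha <;> rw [ha]
    · left; exact inv_one
    · right; exact d_inv h 0

theorem mem_Z {x : ↥(C h)} : x ∈ Z h ↔ (x : G) = 1 ∨ (x : G) = h.d 0 := Iff.rfl

theorem C_comm (x : ↥(C h)) : (x : G) * h.d 0 = h.d 0 * x := mem_centralizer_singleton_iff.1 x.2

instance Z_normal : (Z h).Normal where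
  conj_mem := by
    intro n hn g
    rw [mem_Z] at hn ⊢
    rcases hn with hn | hn
    · left
      show (g : G) * n * (g : G)⁻¹ = 1
      rw [hn]; group
    · right
      show (g : G) * n * (g : G)⁻¹ = h.d 0
      rw [hn]
      exact conj_eq_iff.2 (C_comm h g)

/-- `C(z)/⟨z⟩` -/
abbrev X : Type u := ↥(C h) ⧸ Z h

/-- the projection -/
def π : ↥(C h) →* X h := QuotientGroup.mk' (Z h)

theorem π_surj : Function.Surjective (π h) := QuotientGroup.mk'_surjective (Z h)

theorem π_eq {a b : ↥(C h)} : π h a = π h b ↔ (b : G) = a ∨ (b : G) = a * h.d 0 := by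
  have h1 : π h a = π h b ↔ a⁻¹ * b ∈ Z h := QuotientGroup.eq
  rw [h1, mem_Z]
  constructor
  · rintro (h2 | h2)
    · left
      have h3 : (a : G)⁻¹ * b = 1 := h2
      calc (b : G) = a * ((a : G)⁻¹ * b) := by group
        _ = a := by rw [h3, mul_one]
    · right
      have h3 : (a : G)⁻¹ * b = h.d 0 := h2
      calc (b : G) = a * ((a : G)⁻¹ * b) := by group
        _ = _ := by rw [h3]
  · rintro (h2 | h2)
    · left
      show (a : G)⁻¹ * b = 1
      rw [h2]; group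
    · right
      show (a : G)⁻¹ * b = h.d 0
      rw [h2]; group

theorem π_one {a : ↥(C h)} : π h a = 1 ↔ (a : G) = 1 ∨ (a : G) = h.d 0 := by
  rw [← map_one (π h), eq_comm, π_eq]
  simp

/-- the image of a subgroup of `G` -/
def im (S : Subgroup G) : Subgroup (X h) := (S.subgroupOf (C h)).map (π h)

theorem π_mem_im {S : Subgroup G} (hS : h.d 0 ∈ S) {a : ↥(C h)} : π h a ∈ im h S ↔ (a : G) ∈ S := by
  constructor
  · rintro ⟨b, hb, hba⟩
    have hb' : (b : G) ∈ S := hb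
    rcases (π_eq h).1 hba with h1 | h1
    · rw [h1]; exact hb'
    · rw [h1]; exact S.mul_mem hb' hS
  · intro ha
    exact ⟨a, ha, rfl⟩

theorem exists_of_mem_im {S : Subgroup G} {x : X h} (hx : x ∈ im h S) :
    ∃ a : ↥(C h), (a : G) ∈ S ∧ π h a = x := by
  obtain ⟨a, ha, hax⟩ := hx
  exact ⟨a, ha, hax⟩

theorem card_Z : Nat.card (Z h) = 2 := by
  have hz : h.d 0 ∈ C h := mem_centralizer_singleton_iff.2 rfl
  let f : Bool → Z h := fun b => if b then ⟨⟨h.d 0, hz⟩, Or.inr rfl⟩ else ⟨1, Or.inl rfl⟩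
  have hf : Function.Bijective f := by
    constructor
    · intro a b hab
      cases a <;> cases b
      · rfl
      · exfalso
        have h1 : (1 : G) = h.d 0 := congrArg (fun t : Z h => ((t : ↥(C h)) : G)) hab
        exact h.d_ne_one 0 h1.symm
      · exfalso
        have h1 : h.d 0 = (1 : G) := congrArg (fun t : Z h => ((t : ↥(C h)) : G)) hab
        exact h.d_ne_one 0 h1
      · rfl
    · rintro ⟨x, hx | hx⟩
      · exact ⟨false, Subtype.ext (Subtype.ext hx.symm)⟩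
      · exact ⟨true, Subtype.ext (Subtype.ext hx.symm)⟩
  rw [← Nat.card_congr (Equiv.ofBijective f hf)]
  simp

theorem card_im {S : Subgroup G} (hS : h.d 0 ∈ S) (hSC : S ≤ C h) :
    Nat.card (im h S) * 2 = Nat.card S := by
  have h1 : (im h S).comap (π h) = S.subgroupOf (C h) := by
    ext a
    rw [mem_comap, π_mem_im h hS, mem_subgroupOf]
  have h2 : (S.subgroupOf (C h)).index = (im h S).index := by
    rw [← h1]
    exact index_comap_of_surjective _ (π_surj h)
  have h3 := (im h S).card_mul_index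
  have h4 := (S.subgroupOf (C h)).card_mul_index
  have h5 := (Z h).card_mul_index
  rw [card_Z, Subgroup.index] at h5
  rw [Nat.card_congr (subgroupOfEquivOfLe hSC).toEquiv, h2] at h4
  have h6 : (im h S).index ≠ 0 := index_ne_zero_of_finite
  have h7 : Nat.card (im h S) * 2 * (im h S).index = Nat.card S * (im h S).index := by
    rw [h4, ← h5, ← h3]; ring
  exact Nat.eq_of_mul_eq_mul_right (Nat.pos_of_ne_zero h6) h7

/-- the Sylow subgroup `T/⟨z⟩` -/
noncomputable def P : Sylow 2 (X h) :=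
  haveI : Fact (Nat.Prime 2) := ⟨Nat.prime_two⟩
  (T.subtype (T_le_cent h)).mapSurjective (π_surj h)

theorem coe_P : (P h : Subgroup (X h)) = im h T := rfl

theorem T_le_C : (T : Subgroup G) ≤ C h := T_le_cent h

theorem Q_le_C : h.Q ≤ C h := h.Q_le.trans (T_le_cent h)

theorem z_mem_T : h.d 0 ∈ (T : Subgroup G) := d_mem_T h 0

theorem card_V : Nat.card (im h h.Q) = 64 := by
  have h1 := card_im h h.z_mem_Q (Q_le_C h)
  rw [h.card_Q] at h1
  omega

theorem V_le : im h h.Q ≤ (P h : Subgroup (X h)) := by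
  rw [coe_P]
  exact map_mono (fun a ha => h.Q_le ha)

theorem π_mem_P {a : ↥(C h)} : π h a ∈ (P h : Subgroup (X h)) ↔ (a : G) ∈ (T : Subgroup G) := by
  rw [coe_P]; exact π_mem_im h (z_mem_T h)

theorem π_mem_V {a : ↥(C h)} : π h a ∈ im h h.Q ↔ (a : G) ∈ h.Q := π_mem_im h h.z_mem_Q

theorem V_comm : ∀ a ∈ im h h.Q, ∀ b ∈ im h h.Q, a * b = b * a := by
  intro x hx y hy
  obtain ⟨a, ha, rfl⟩ := exists_of_mem_im h hx
  obtain ⟨b, hb, rfl⟩ := exists_of_mem_im h hy
  rw [← map_mul, ← map_mul, π_eq]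
  show (b : G) * a = a * b ∨ (b : G) * a = a * b * h.d 0
  exact h.Q_comm b hb a ha

theorem V_sq : ∀ a ∈ im h h.Q, a * a = 1 := by
  intro x hx
  obtain ⟨a, ha, rfl⟩ := exists_of_mem_im h hx
  rw [← map_mul, π_one]
  exact h.Q_sq a ha

open Classical in
/-- the quadratic form -/
noncomputable def q (x : X h) : ZMod 2 := if ∃ a : ↥(C h), π h a = x ∧ a * a = 1 then 0 else 1

theorem q_π {a : ↥(C h)} : q h (π h a) = s h (a : G) := by
  unfold q s
  have hiff : (∃ b : ↥(C h), π h b = π h a ∧ b * b = 1) ↔ (a : G) * a = 1 := by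
    constructor
    · rintro ⟨b, hb, hbb⟩
      have hbb' : (b : G) * b = 1 := congrArg Subtype.val hbb
      rcases (π_eq h).1 hb with h1 | h1
      · rw [h1]; exact hbb'
      · rw [h1]
        calc (b : G) * h.d 0 * (b * h.d 0) = b * (h.d 0 * b) * h.d 0 := by group
          _ = b * (b * h.d 0) * h.d 0 := by rw [C_comm h b]
          _ = (b * b) * (h.d 0 * h.d 0) := by group
          _ = 1 := by rw [hbb', d_sq, one_mul]
    · intro haa
      exact ⟨a, rfl, Subtype.ext haa⟩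
  by_cases h1 : (a : G) * a = 1
  · rw [if_pos h1, if_pos (hiff.2 h1)]
  · rw [if_neg h1, if_neg (fun h2 => h1 (hiff.1 h2))]

theorem s_zero_iff {a : G} : s h a = 0 ↔ a * a = 1 := by
  unfold s
  by_cases h1 : a * a = 1
  · simp [h1]
  · simp [h1]

theorem q_one : q h 1 = 0 := by
  rw [← map_one (π h), q_π, s_zero_iff]; simp

theorem q_quad : ∀ x ∈ im h h.Q, ∀ y ∈ im h h.Q, ∀ w ∈ im h h.Q,
    q h (x * y * w) = q h (x * y) + q h (x * w) + q h (y * w) + q h x + q h y + q h w := by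
  intro x hx y hy w hw
  obtain ⟨a, ha, rfl⟩ := exists_of_mem_im h hx
  obtain ⟨b, hb, rfl⟩ := exists_of_mem_im h hy
  obtain ⟨c, hc, rfl⟩ := exists_of_mem_im h hw
  rw [← map_mul, ← map_mul, ← map_mul, ← map_mul, q_π, q_π, q_π, q_π, q_π, q_π, q_π]
  exact s_quad h ha hb hc

theorem q_nd : ∀ x ∈ im h h.Q, x ≠ 1 → ∃ y ∈ im h h.Q, q h (x * y) ≠ q h x + q h y := by
  intro x hx hx1
  obtain ⟨a, ha, rfl⟩ := exists_of_mem_im h hx
  by_contra hcon
  push Not at hcon
  apply hx1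
  rw [π_one]
  apply h.Q_cent _ (h.Q_le ha)
  intro b hb
  have hbC : b ∈ C h := Q_le_C h hb
  have h1 := hcon (π h ⟨b, hbC⟩) ((π_mem_V h).2 hb)
  rw [← map_mul, q_π, q_π, q_π] at h1
  have h2 := s_mul h ha hb
  have h3 : s h ((a * ⟨b, hbC⟩ : ↥(C h)) : G) = s h ((a : G) * b) := rfl
  rw [h3, h2] at h1
  have h4 : β h (a : G) b = 0 := by
    have h5 : s h (a : G) + s h b + β h (a : G) b = s h (a : G) + s h b + 0 := by
      rw [h1, add_zero]
    exact add_left_cancel h5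
  have h6 := comm_eq h ha hb
  rw [h4, ζ_zero, mul_one] at h6
  exact h6

theorem q_conj : ∀ g x : X h, q h (g * x * g⁻¹) = q h x := by
  intro g x
  obtain ⟨c, rfl⟩ := π_surj h g
  obtain ⟨a, rfl⟩ := π_surj h x
  rw [← map_inv, ← map_mul, ← map_mul, q_π, q_π]
  have h1 : ((c * a * c⁻¹ : ↥(C h)) : G) * ((c * a * c⁻¹ : ↥(C h)) : G) = 1 ↔ (a : G) * a = 1 := by
    have e : ((c * a * c⁻¹ : ↥(C h)) : G) * ((c * a * c⁻¹ : ↥(C h)) : G) =
        (c : G) * ((a : G) * a) * (c : G)⁻¹ := by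
      show (c : G) * a * (c : G)⁻¹ * ((c : G) * a * (c : G)⁻¹) = _
      group
    rw [e]
    constructor
    · intro h2
      calc (a : G) * a = (c : G)⁻¹ * ((c : G) * ((a : G) * a) * (c : G)⁻¹) * c := by group
        _ = 1 := by rw [h2]; group
    · intro h2; rw [h2]; group
  unfold s
  by_cases h2 : (a : G) * a = 1
  · rw [if_pos h2, if_pos (h1.2 h2)]
  · rw [if_neg h2, if_neg (fun h3 => h2 (h1.1 h3))]

theorem V_gen : im h h.Q ≤ closure {u | u ∈ im h h.Q ∧ q h u = 0} := by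
  set K : Subgroup (X h) := closure {u | u ∈ im h h.Q ∧ q h u = 0} with hK
  have h1 : h.Q ≤ (K.comap (π h)).map (C h).subtype := by
    refine h.Q_gen.trans ((closure_le _).2 ?_)
    rintro u ⟨hu, huu, -⟩
    refine ⟨⟨u, Q_le_C h hu⟩, ?_, rfl⟩
    apply Subgroup.subset_closure
    exact ⟨(π_mem_V h).2 hu, by rw [q_π, s_zero_iff]; exact huu⟩
  intro x hx
  obtain ⟨a, ha, rfl⟩ := exists_of_mem_im h hx
  obtain ⟨b, hb, hba⟩ := h1 ha
  have h2 : b = a := Subtype.ext hba
  rw [← h2]; exact hb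

/-- strong closure in the quotient -/
theorem V_closed (hcl : ∀ g : G, g * h.d 0 = h.d 0 * g → ∀ x ∈ h.Q, g * x * g⁻¹ ∈ (T : Subgroup G) →
    g * x * g⁻¹ ∈ h.Q) : ∀ g : X h, ∀ x ∈ im h h.Q, g * x * g⁻¹ ∈ (P h : Subgroup (X h)) →
    g * x * g⁻¹ ∈ im h h.Q := by
  intro g x hx hg
  obtain ⟨c, rfl⟩ := π_surj h g
  obtain ⟨a, ha, rfl⟩ := exists_of_mem_im h hx
  rw [← map_inv, ← map_mul, ← map_mul] at hg ⊢
  rw [π_mem_P] at hg
  rw [π_mem_V]
  exact hcl c (C_comm h c) a ha hg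

theorem V_weak (hcl : ∀ g : G, g * h.d 0 = h.d 0 * g → ∀ x ∈ h.Q, g * x * g⁻¹ ∈ (T : Subgroup G) →
    g * x * g⁻¹ ∈ h.Q) : IsWeaklyClosed (im h h.Q) (P h : Subgroup (X h)) := by
  refine ⟨V_le h, fun g hg => ?_⟩
  have hle : (im h h.Q).map (MulAut.conj g).toMonoidHom ≤ im h h.Q := by
    rintro _ ⟨x, hx, rfl⟩
    exact V_closed h hcl g x hx (hg ⟨x, hx, rfl⟩)
  apply eq_of_le_of_card_ge hle
  rw [card_map_conj]

/-- the image of `d 1` -/
def e : X h := π h ⟨h.d 1, T_le_cent h (d_mem_T h 1)⟩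

theorem e_mem : e h ∈ (P h : Subgroup (X h)) := (π_mem_P h).2 (d_mem_T h 1)

theorem e_sq : e h * e h = 1 := by
  unfold e
  rw [← map_mul, π_one]
  left; exact d_sq h 1

theorem e_not_V [IsSimpleGroup G] : ∀ g : X h, g * e h * g⁻¹ ∉ im h h.Q := by
  intro g hg
  obtain ⟨c, rfl⟩ := π_surj h g
  unfold e at hg
  rw [← map_inv, ← map_mul, ← map_mul, π_mem_V] at hg
  have hg' : (c : G) * h.d 1 * (c : G)⁻¹ ∈ h.Q := hg
  obtain ⟨n, hn, hnz⟩ := exists_conj_d h 1
  have h1 : (c : G) * h.d 1 * (c : G)⁻¹ = (c * n : G) * h.d 0 * (c * n : G)⁻¹ := by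
    rw [← hnz]; group
  obtain ⟨j, hj⟩ := z_fus h (g := (c * n : G)) (by rw [← h1]; exact h.Q_le hg')
  rw [← h1] at hj
  by_cases hj0 : j = 0
  · rw [hj0] at hj
    have h2 : (c : G) * h.d 0 * (c : G)⁻¹ = h.d 0 := conj_eq_iff.2 (C_comm h c)
    have h3 : h.d 1 = h.d 0 := mul_left_cancel (mul_right_cancel (hj.trans h2.symm))
    exact absurd (h.d_inj _ _ h3) (by decide)
  · exact h.d_not_mem_Q j hj0 (hj ▸ hg')

theorem mod_V : ∀ g ∈ (P h : Subgroup (X h)), g ∉ im h h.Q → g * e h ∈ im h h.Q ∨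
    g * g * e h ∈ im h h.Q := by
  intro g hg hgV
  obtain ⟨c, rfl⟩ := π_surj h g
  rw [π_mem_P] at hg
  rw [π_mem_V] at hgV
  unfold e
  rw [← map_mul, ← map_mul, ← map_mul, π_mem_V, π_mem_V]
  exact h.T_mod_Q c hg hgV

theorem not_mem_E_of_q {a : ↥(C h)} (hq : q h (π h a) = 1) : (a : G) ∉ h.E := by
  intro hE
  rw [q_π, (s_zero_iff h).2 (h.E_sq _ hE)] at hq
  exact absurd hq (by decide)

theorem cent_n : ∀ n ∈ im h h.Q, q h n = 1 → ∀ s ∈ (P h : Subgroup (X h)), s * n = n * s →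
    s ∈ im h h.Q ∨ s * e h ∈ im h h.Q := by
  intro n hn hqn t ht htn
  obtain ⟨a, ha, rfl⟩ := exists_of_mem_im h hn
  obtain ⟨c, rfl⟩ := π_surj h t
  rw [π_mem_P] at ht
  unfold e
  rw [← map_mul, π_mem_V, π_mem_V]
  rw [← map_mul, ← map_mul, eq_comm, π_eq] at htn
  exact h.cent_mod_z a ha (not_mem_E_of_q h hqn) c ht htn

theorem center_P : ∀ x ∈ (P h : Subgroup (X h)), (∀ g ∈ (P h : Subgroup (X h)), g * x = x * g) →
    x ∈ im h h.Q ∧ q h x = 0 := by
  intro x hx hxc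
  obtain ⟨c, rfl⟩ := π_surj h x
  rw [π_mem_P] at hx
  have h1 := h.center_two c hx (by
    intro g hg
    have h2 := hxc (π h ⟨g, T_le_cent h hg⟩) ((π_mem_P h).2 hg)
    rw [← map_mul, ← map_mul, eq_comm, π_eq] at h2
    exact h2)
  exact ⟨(π_mem_V h).2 h1.2, by rw [q_π, s_zero_iff]; exact h.E_sq _ h1.1⟩

/-- centralizers in the quotient -/
theorem centralizer_solvable {a : ↥(C h)}
    (hs : Group.IsSolvable ↥(C h ⊓ centralizer ({(a : G)} : Set G))) :
    Group.IsSolvable ↥(centralizer ({π h a} : Set (X h))) := by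
  have hz := d_sq h 0
  set M : Subgroup G := Cm (h.d 0) hz (a : G) with hM
  -- `M` is solvable
  have hMs : Group.IsSolvable M := by
    let D : Subgroup M := (centralizer ({(a : G)} : Set G)).subgroupOf M
    have hD : Group.IsSolvable D := by
      let f : D →* ↥(C h ⊓ centralizer ({(a : G)} : Set G)) :=
        { toFun := fun y => ⟨((y : M) : G), mem_inf.2 ⟨mem_centralizer_singleton_iff.2
            (show ((y : M) : G) * h.d 0 = h.d 0 * ((y : M) : G) from (y : M).2.1), y.2⟩⟩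
          map_one' := rfl
          map_mul' := fun _ _ => rfl }
      have hf : Function.Injective f := by
        intro x y hxy
        apply Subtype.ext
        apply Subtype.ext
        have h5 : ((f x : ↥(C h ⊓ centralizer ({(a : G)} : Set G))) : G) = f y := by rw [hxy]
        exact h5
      exact Group.isSolvable_of_isSolvable_injective hf
    have hDmem : ∀ y : M, y ∈ D ↔ (y : G) * a * (y : G)⁻¹ = a := by
      intro y
      rw [mem_subgroupOf, mem_centralizer_singleton_iff, conj_eq_iff]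
    by_cases hall : ∀ y : M, y ∈ D
    · exact solvable_of_two_cosets D hD 1 (fun y => Or.inl (hall y))
    · push Not at hall
      obtain ⟨r, hr⟩ := hall
      refine solvable_of_two_cosets D hD r (fun y => ?_)
      by_cases hy : y ∈ D
      · exact Or.inl hy
      · right
        rw [hDmem] at hr hy ⊢
        have hr' := r.2.2.resolve_left hr
        have hy' := y.2.2.resolve_left hy
        show (r : G)⁻¹ * y * a * ((r : G)⁻¹ * y)⁻¹ = a
        calc (r : G)⁻¹ * y * a * ((r : G)⁻¹ * y)⁻¹ = (r : G)⁻¹ * (y * a * (y : G)⁻¹) * r := by group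
          _ = (r : G)⁻¹ * (r * a * (r : G)⁻¹) * r := by rw [hy', hr']
          _ = a := by group
  let f : M →* X h := (π h).comp
    { toFun := fun y => ⟨(y : G), mem_centralizer_singleton_iff.2 y.2.1⟩
      map_one' := rfl
      map_mul' := fun _ _ => rfl }
  have hle : centralizer ({π h a} : Set (X h)) ≤ f.range := by
    intro x hx
    obtain ⟨c, rfl⟩ := π_surj h x
    rw [mem_centralizer_singleton_iff, ← map_mul, ← map_mul, eq_comm, π_eq] at hx
    have hcM : (c : G) ∈ M := by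
      rw [hM, mem_Cm]
      refine ⟨C_comm h c, ?_⟩
      rcases hx with h1 | h1
      · left
        exact conj_eq_iff.2 h1
      · right
        have h2 : (c : G) * a = a * c * h.d 0 := h1
        rw [h2]
        calc (a : G) * c * h.d 0 * (c : G)⁻¹ = a * (c * h.d 0) * (c : G)⁻¹ := by group
          _ = a * (h.d 0 * c) * (c : G)⁻¹ := by rw [C_comm h c]
          _ = _ := by group
    exact ⟨⟨c, hcM⟩, rfl⟩
  have hr : Group.IsSolvable f.range := Group.isSolvable_of_surjective f.rangeRestrict_surjective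
  exact solvable_mono hle hr

/-- `(E ∩ Q)/⟨z⟩` -/
theorem mem_L_iff : ∀ l, l ∈ im h (h.E ⊓ h.Q) ↔ ∃ v ∈ im h h.Q, l = v * e h * v⁻¹ * (e h)⁻¹ := by
  have hzL : h.d 0 ∈ h.E ⊓ h.Q := mem_inf.2 ⟨h.d_mem 0, h.z_mem_Q⟩
  -- transitivity of `Q` on the `d j`
  have htr : ∀ j, j ≠ 0 → ∃ u ∈ h.Q, u * h.d 1 * u⁻¹ = h.d j := by
    intro j hj
    by_cases hj1 : j = 1
    · exact ⟨1, h.Q.one_mem, by rw [hj1]; group⟩
    obtain ⟨g, hg, hgd⟩ := h.conj_d_trans j hj
    have hgV : g ∉ h.V := by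
      intro hgV
      have h1 := conj_eq_iff.2 (V_comm_E h hgV (h.d_mem 1))
      rw [h1] at hgd
      exact hj1 (h.d_inj _ _ hgd).symm
    obtain ⟨u, hu, huu, huV⟩ := h.exists_u g hg hgV
    refine ⟨u, hu, ?_⟩
    have h1 := V_comm_E h huV (h.d_mem j)
    calc u * h.d 1 * u⁻¹ = (u * g⁻¹) * (g * h.d 1 * g⁻¹) * (u * g⁻¹)⁻¹ := by group
      _ = (u * g⁻¹) * h.d j * (u * g⁻¹)⁻¹ := by rw [hgd]
      _ = h.d j := conj_eq_iff.2 h1
  -- the main computation
  have hcomp : ∀ (v : ↥(C h)) (j : Fin 5), (v : G) * h.d 1 * (v : G)⁻¹ = h.d j →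
      π h v * e h * (π h v)⁻¹ * (e h)⁻¹ =
        π h ⟨h.d j * h.d 1, T_le_cent h ((T : Subgroup G).mul_mem (d_mem_T h j) (d_mem_T h 1))⟩ := by
    intro v j hv
    unfold e
    rw [← map_inv, ← map_inv, ← map_mul, ← map_mul, ← map_mul]
    congr 1
    apply Subtype.ext
    show (v : G) * h.d 1 * (v : G)⁻¹ * (h.d 1)⁻¹ = h.d j * h.d 1
    rw [hv, d_inv]
  intro l
  constructor
  · intro hl
    obtain ⟨a, ha, rfl⟩ := exists_of_mem_im h hl
    -- it suffices to write `a = d j * d 1` mod `z`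
    have key : ∀ j, j ≠ 0 → ((a : G) = h.d j * h.d 1 ∨ (a : G) = h.d j * h.d 1 * h.d 0) →
        ∃ v ∈ im h h.Q, π h a = v * e h * v⁻¹ * (e h)⁻¹ := by
      intro j hj haj
      obtain ⟨u, hu, hud⟩ := htr j hj
      refine ⟨π h ⟨u, Q_le_C h hu⟩, (π_mem_V h).2 hu, ?_⟩
      rw [hcomp ⟨u, Q_le_C h hu⟩ j hud, eq_comm, π_eq]
      exact haj
    rcases Elem.mem_E_inter_Q h (mem_inf.1 ha).1 (mem_inf.1 ha).2 with h1 | h1 | ⟨i, j, hi, hj, hij, h1⟩
    · exact key 1 (by decide) (Or.inl (by rw [h1, d_sq]))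
    · exact key 1 (by decide) (Or.inr (by rw [h1, d_sq, one_mul]))
    · have h12 : h.d 3 * h.d 4 = h.d 2 * h.d 1 * h.d 0 := by
        rw [Elem.d_comm h 2 1, ← Elem.t_mul_z h]
      have hzc : ∀ x ∈ h.E, h.d 0 * x = x * h.d 0 := fun x hx => E_comm h (h.d_mem 0) hx
      have h13 : h.d 2 * h.d 4 = h.d 3 * h.d 1 * h.d 0 := by
        rw [Elem.d_comm h 3 1, ← t13 h, hzc _ (Elem.dd_mem h 1 3)]
      have h14 : h.d 2 * h.d 3 = h.d 4 * h.d 1 * h.d 0 := by
        rw [Elem.d_comm h 4 1, ← t14 h, hzc _ (Elem.dd_mem h 1 4)]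
      have hall : ∀ i j : Fin 5, i ≠ 0 → j ≠ 0 → i ≠ j →
          ∃ k, k ≠ 0 ∧ (h.d i * h.d j = h.d k * h.d 1 ∨ h.d i * h.d j = h.d k * h.d 1 * h.d 0) := by
        intro i j hi hj hij
        fin_cases i <;> fin_cases j <;> first
          | exact absurd rfl hi
          | exact absurd rfl hj
          | exact absurd rfl hij
          | exact ⟨2, by decide, Or.inl (Elem.d_comm h _ _)⟩
          | exact ⟨2, by decide, Or.inl rfl⟩
          | exact ⟨3, by decide, Or.inl (Elem.d_comm h _ _)⟩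
          | exact ⟨3, by decide, Or.inl rfl⟩
          | exact ⟨4, by decide, Or.inl (Elem.d_comm h _ _)⟩
          | exact ⟨4, by decide, Or.inl rfl⟩
          | exact ⟨2, by decide, Or.inr h12⟩
          | exact ⟨2, by decide, Or.inr ((Elem.d_comm h _ _).trans h12)⟩
          | exact ⟨3, by decide, Or.inr h13⟩
          | exact ⟨3, by decide, Or.inr ((Elem.d_comm h _ _).trans h13)⟩
          | exact ⟨4, by decide, Or.inr h14⟩
          | exact ⟨4, by decide, Or.inr ((Elem.d_comm h _ _).trans h14)⟩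
      obtain ⟨k, hk, hk'⟩ := hall i j hi hj hij
      exact key k hk (by rw [h1]; exact hk')
  · rintro ⟨v, hv, rfl⟩
    obtain ⟨a, ha, rfl⟩ := exists_of_mem_im h hv
    obtain ⟨j, hj⟩ := h.conj_d a (h.Q_le ha) 1
    have hj0 : j ≠ 0 := by
      rintro rfl
      have h2 : (a : G) * h.d 0 * (a : G)⁻¹ = h.d 0 := conj_eq_iff.2 (C_comm h a)
      have h3 : h.d 1 = h.d 0 := mul_left_cancel (mul_right_cancel (hj.trans h2.symm))
      exact absurd (h.d_inj _ _ h3) (by decide)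
    rw [hcomp a j hj, π_mem_im h hzL]
    exact mem_inf.2 ⟨Elem.dd_mem h j 1, h.dd_mem_Q j 1 hj0 (by decide)⟩

theorem card_EQ : Nat.card (h.E ⊓ h.Q : Subgroup G) = 8 := by
  let K : Subgroup h.E := h.Q.subgroupOf h.E
  have hidx : K.index = 2 := by
    rw [index_eq_two_iff]
    refine ⟨⟨h.d 1, h.d_mem 1⟩, fun b => ?_⟩
    by_cases hb : b ∈ K
    · right
      refine ⟨hb, fun h1 => ?_⟩
      have h2 : (b : G) * h.d 1 ∈ h.Q := h1
      have h3 : (b : G) ∈ h.Q := hb
      have h4 := h.Q.mul_mem (h.Q.inv_mem h3) h2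
      rw [inv_mul_cancel_left] at h4
      exact h.d_not_mem_Q 1 (by decide) h4
    · left
      exact ⟨Elem.E_mul_mem_Q h b.2 hb (h.d_mem 1) (h.d_not_mem_Q 1 (by decide)), hb⟩
  have h1 := K.card_mul_index
  rw [hidx, h.card_E] at h1
  have h2 : Nat.card (h.E ⊓ h.Q : Subgroup G) = Nat.card K := by
    have e : K.map h.E.subtype = h.E ⊓ h.Q := by
      rw [subgroupOf_map_subtype, inf_comm]
    rw [← e]
    exact card_map_of_injective h.E.subtype_injective
  omega

theorem card_L : Nat.card (im h (h.E ⊓ h.Q)) = 4 := by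
  have h1 := card_im h (S := h.E ⊓ h.Q) (mem_inf.2 ⟨h.d_mem 0, h.z_mem_Q⟩)
    (inf_le_right.trans (Q_le_C h))
  rw [card_EQ] at h1
  omega

end Quotient

end Cfsg.Agent.SylowU5.Quot
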