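import Mathlib
import Cfsg.Agent.SylowU5.Quot
import Cfsg.Agent.SylowU5.NormOf
import Cfsg.Agent.SylowU5.CaseB

/-!
# The fusion structure `U5Fus` of a simple group with Sylow 2-subgroups of type PSU(5,2)
-/

set_option autoImplicit false
set_option linter.unusedVariables false
set_option linter.unusedSectionVars false
open Cfsg

namespace Cfsg.Agent.SylowU5.MainFus

universe u

open Subgroup Cfsg.Agent.SylowU5.Basic Cfsg.Agent.SignalizersComponents.RelSylow
  Cfsg.Agent.SylowU5.Fusion Cfsg.Agent.SylowU5.Prime Cfsg.Agent.SylowU5.Closed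
  Cfsg.Agent.SylowU5.SolvT Cfsg.Agent.SylowU5.Rel Cfsg.Agent.SylowU5.Quot

variable {G : Type u} [Group G] [Finite G] [IsSimpleGroup G] {T : Sylow 2 G}
  (h : U5T (T : Subgroup G))

/-- `C_G(z)` is solvable if all `C(z) ∩ C(u)` are, `u ≠ z` an involution of `Q`. -/
theorem solvable_z (hFT : OddOrder.{u}) (hT2 : CentSolvCore.FormSolv.{u})
    (hcl : ∀ g : G, g * h.d 0 = h.d 0 * g → ∀ x ∈ h.Q, g * x * g⁻¹ ∈ (T : Subgroup G) →
      g * x * g⁻¹ ∈ h.Q)
    (hu : ∀ u ∈ h.Q, u * u = 1 → u ≠ 1 → u ≠ h.d 0 →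
      Group.IsSolvable ↥(centralizer ({h.d 0} : Set G) ⊓ centralizer ({u} : Set G))) :
    Group.IsSolvable ↥(centralizer ({h.d 0} : Set G)) := by
  have hsolv : ∀ u ∈ im h h.Q, u ≠ 1 → q h u = 0 →
      Group.IsSolvable ↥(centralizer ({u} : Set (X h))) := by
    intro x hx hx1 hqx
    obtain ⟨a, ha, rfl⟩ := exists_of_mem_im h hx
    rw [q_π, s_zero_iff] at hqx
    apply centralizer_solvable
    apply hu a ha hqx
    · intro h1; exact hx1 ((π_one h).2 (Or.inl h1))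
    · intro h1; exact hx1 ((π_one h).2 (Or.inr h1))
  have hX : Group.IsSolvable (X h) := by
    refine CentSolvCore.isSolvable_of hFT
      (fun K _ _ P v h1 h2 h3 => Cfsg.Agent.S0215.result P v h1 h2 h3) hT2 (P h) (im h h.Q)
      (im h (h.E ⊓ h.Q)) (V_le h) (card_V h) (V_comm h) (V_sq h) (V_weak h hcl) (q h) (q_one h)
      (q_quad h) (q_nd h) (V_gen h) (fun g x _ _ => q_conj h g x)
      (fun g x hx _ hg => V_closed h hcl g x hx hg) (e h) (e_mem h) (e_sq h) (e_not_V h) (mod_V h)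
      (cent_n h) (center_P h) hsolv ?_ ?_ (card_L h) ?_ (mem_L_iff h)
    · intro u hu hu1 hqu
      exact NormOf.norm_of (P h) (im h h.Q) (V_le h) (V_comm h) (V_closed h hcl) u hu
        (hsolv u hu hu1 hqu)
    · exact map_mono (fun a ha => (mem_inf.1 (mem_subgroupOf.1 ha)).2)
    · intro x hx
      obtain ⟨a, ha, rfl⟩ := exists_of_mem_im h hx
      rw [q_π, s_zero_iff]
      exact h.E_sq _ (mem_inf.1 ha).1
  have hZ : Group.IsSolvable (Z h) := by
    have hp : Nat.card (Z h) = 2 := card_Z h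
    have : Fact (Nat.Prime 2) := ⟨Nat.prime_two⟩
    have hc : IsCyclic (Z h) := isCyclic_of_prime_card hp
    let _ : CommGroup (Z h) := IsCyclic.commGroup
    infer_instance
  exact (Group.isSolvable_iff_subgroup_quotient (H := Z h)).mpr ⟨hZ, hX⟩

/-- The main result on fusion. -/
theorem u5Fus_of (hFT : OddOrder.{u}) (hT2 : CentSolvCore.FormSolv.{u})
    (hcy : ∀ y ∈ (T : Subgroup G), y ∉ h.Q → y * y = h.d 0 →
      256 ≤ Nat.card {s : G // s ∈ (T : Subgroup G) ∧ (s * y = y * s ∨ s * y = y * s * h.d 0)})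
    (hE : Group.IsSolvable ↥(centralizer (h.E : Set G)))
    (hA : ∀ u g : G, u ∈ h.Q → u * u = 1 → u ∉ h.E → g * u * g⁻¹ ∈ h.E →
      ∀ u' ∈ h.Q, u' * u' = 1 → u' ≠ 1 → u' ≠ h.d 0 →
        ∃ c : G, c * h.d 0 = h.d 0 * c ∧ c * u' * c⁻¹ = h.d 1 * h.d 2) : U5Fus T h := by
  have hcl : ∀ g : G, g * h.d 0 = h.d 0 * g → ∀ x ∈ h.Q, g * x * g⁻¹ ∈ (T : Subgroup G) →
      g * x * g⁻¹ ∈ h.Q := fun g hg x hx hgx => strongly_closed h hcy hg hx hgx
  by_cases hcase : ∃ u ∈ h.Q, u * u = 1 ∧ u ∉ h.E ∧ ∃ g : G, g * u * g⁻¹ ∈ h.E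
  · obtain ⟨u, hu, huu, huE, g, hg⟩ := hcase
    have hfus := hA u g hu huu huE hg
    refine ⟨fun g hg => z_fus h hg, fun g hg i => perm h hg i, fun π hπ => E_alt h hπ, hfus, ?_⟩
    apply solvable_z h hFT hT2 hcl
    intro v hv hvv hv1 hvz
    obtain ⟨c, hc, hcv⟩ := hfus v hv hvv hv1 hvz
    refine solvable_of_conj c ?_ (solvable_zt h hFT hE)
    intro a ha
    have h0 := mem_centralizer_singleton_iff.1 (mem_inf.1 ha).1
    have h1 := mem_centralizer_singleton_iff.1 (mem_inf.1 ha).2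
    rw [mem_inf, mem_centralizer_singleton_iff, mem_centralizer_singleton_iff, ← hcv]
    have hc' : c⁻¹ * h.d 0 = h.d 0 * c⁻¹ := by
      calc c⁻¹ * h.d 0 = c⁻¹ * (h.d 0 * c) * c⁻¹ := by group
        _ = c⁻¹ * (c * h.d 0) * c⁻¹ := by rw [hc]
        _ = _ := by group
    constructor
    · calc c * a * c⁻¹ * h.d 0 = c * a * (c⁻¹ * h.d 0) := by group
        _ = c * (a * h.d 0) * c⁻¹ := by rw [hc']; group
        _ = (c * h.d 0) * a * c⁻¹ := by rw [h0]; group
        _ = _ := by rw [hc]; group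
    · calc c * a * c⁻¹ * (c * v * c⁻¹) = c * (a * v) * c⁻¹ := by group
        _ = c * (v * a) * c⁻¹ := by rw [h1]
        _ = _ := by group
  · push Not at hcase
    exfalso
    have hB : ∀ u ∈ h.Q, u * u = 1 → u ∉ h.E → ∀ g : G, g * u * g⁻¹ ∉ h.E := hcase
    apply CaseB.false_of_caseB h hFT hB
    apply solvable_z h hFT hT2 hcl
    intro v hv hvv hv1 hvz
    by_cases hvE : v ∈ h.E
    · rcases Elem.mem_E_inter_Q h hvE hv with h1 | h1 | ⟨i, j, hi, hj, hij, h1⟩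
      · exact absurd h1 hv1
      · exact absurd h1 hvz
      · rw [h1]
        exact solvable_zdd h hFT hE hi hj hij
    · exact CaseBSolv.solvable_zu h hFT hE hB hv hvv hvE

end Cfsg.Agent.SylowU5.MainFus
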