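import Cfsg.Agent.SylowU5.CentSolvCore
import Cfsg.Agent.SylowU5.FormSolvable
import Cfsg.Agent.S0205
import Cfsg.Agent.S0215

/-!
# Step (5') of S0513: solvability of `C_G(z)/⟨z⟩` (helper881)

The unconditional form of `CentSolvCore.isSolvable_of`.
-/

set_option autoImplicit false
open Cfsg Subgroup

namespace Cfsg.Agent.SylowU5.CentralizerSolvable

theorem isSolvable {X : Type*} [Group X] [Finite X] (P : Sylow 2 X) (V L : Subgroup X)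
    (hVP : V ≤ P) (hVcard : Nat.card V = 64)
    (hVc : ∀ a ∈ V, ∀ b ∈ V, a*b = b*a) (hV2 : ∀ a ∈ V, a*a = 1)
    (hW : IsWeaklyClosed V (P : Subgroup X)) (q : X → ZMod 2) (hq1 : q 1 = 0)
    (hquad : ∀ x ∈ V, ∀ y ∈ V, ∀ w ∈ V, q (x*y*w) = q (x*y) + q (x*w) + q (y*w) + q x + q y + q w)
    (hnd : ∀ x ∈ V, x ≠ 1 → ∃ y ∈ V, q (x*y) ≠ q x + q y)
    (hgen : V ≤ Subgroup.closure {u | u ∈ V ∧ q u = 0})
    (hinv : ∀ g : X, ∀ x ∈ V, g*x*g⁻¹ ∈ V → q (g*x*g⁻¹) = q x)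
    (hsing : ∀ g : X, ∀ x ∈ V, q x = 0 → g*x*g⁻¹ ∈ P → g*x*g⁻¹ ∈ V)
    (e : X) (heP : e ∈ P) (hee : e*e = 1) (heV : ∀ g : X, g*e*g⁻¹ ∉ V)
    (hmod : ∀ g ∈ P, g ∉ V → g*e ∈ V ∨ g*g*e ∈ V)
    (hcn : ∀ n ∈ V, q n = 1 → ∀ s ∈ P, s*n = n*s → s ∈ V ∨ s*e ∈ V)
    (hcenter : ∀ x ∈ P, (∀ g ∈ P, g*x = x*g) → x ∈ V ∧ q x = 0)
    (hsolv : ∀ u ∈ V, u ≠ 1 → q u = 0 → Group.IsSolvable ↥(Subgroup.centralizer ({u} : Set X)))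
    (hnorm : ∀ u ∈ V, u ≠ 1 → q u = 0 →
      Subgroup.centralizer {u} ≤ centralizerPPrimeCore 2 u ⊔ Subgroup.normalizer (V : Set X))
    (hLV : L ≤ V) (hLcard : Nat.card L = 4) (hLq : ∀ u ∈ L, q u = 0)
    (hL : ∀ l, l ∈ L ↔ ∃ v ∈ V, l = v*e*v⁻¹*e⁻¹) : Group.IsSolvable X :=
  CentSolvCore.isSolvable_of (fun K _ _ h => Cfsg.Agent.S0205.result h)
    (fun K _ _ P u h1 h2 h3 => Cfsg.Agent.S0215.result P u h1 h2 h3)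
    (fun N _ _ V h1 h2 h3 q h4 h5 h6 h7 n h8 h9 h10 h11 =>
      FormSolvable.isSolvable_of_form V h1 h2 h3 q h4 h5 h6 h7 n h8 h9 h10 h11)
    P V L hVP hVcard hVc hV2 hW q hq1 hquad hnd hgen hinv hsing e heP hee heV hmod hcn hcenter hsolv
    hnorm hLV hLcard hLq hL

end Cfsg.Agent.SylowU5.CentralizerSolvable
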