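import Cfsg.Agent.SylowU5.Code

/-!
Kernel-checked facts on the codes of the group `M0` of order 1024.
-/

set_option autoImplicit false
set_option maxRecDepth 100000

namespace Cfsg.Agent.SylowU5.Model

/-- Boolean implication, evaluated lazily. -/
def imp (a b : Bool) : Bool := bif a then b else true

theorem imp_iff (a b : Bool) : imp a b = true ↔ (a = true → b = true) := by
  cases a <;> simp [imp]

/-- Boolean existence. -/
def exB (f : ℕ → Bool) (n : ℕ) : Bool := Nat.rec false (fun n ih => or (f n) ih) n

theorem exB_iff (f : ℕ → Bool) (n : ℕ) : exB f n = true ↔ ∃ m, m < n ∧ f m = true := by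
  induction n with
  | zero => simp [exB]
  | succ n ih =>
    have : exB f (n + 1) = or (f n) (exB f n) := rfl
    rw [this, Bool.or_eq_true, ih]
    constructor
    · rintro (h | ⟨m, hm, h⟩)
      · exact ⟨n, Nat.lt_succ_self n, h⟩
      · exact ⟨m, Nat.lt_succ_of_lt hm, h⟩
    · rintro ⟨m, hm, h⟩
      rcases Nat.lt_succ_iff_lt_or_eq.1 hm with h' | h'
      · exact Or.inr ⟨m, h', h⟩
      · left; rw [← h']; exact h

/-- Counting. -/
def countB (f : ℕ → Bool) (n : ℕ) : ℕ := Nat.rec 0 (fun n ih => bif f n then Nat.succ ih else ih) n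

/-- Codes of `E`. -/
def fE (n : ℕ) : Bool := Nat.ble n 15
/-- Codes of `V`. -/
def fV (n : ℕ) : Bool := Nat.ble n 255
/-- Codes of `Q`. -/
def fQ (n : ℕ) : Bool := Nat.beq (Nat.land n 200) 0
/-- The five transvections. -/
def dN (i : ℕ) : ℕ := Nat.land (Nat.shiftRight 0xFDB81 (Nat.mul 4 i)) 15
/-- The masks of the five lines. -/
def lm (i : ℕ) : ℕ :=
  bif Nat.beq i 0 then 0xF else bif Nat.beq i 1 then 0x1111 else bif Nat.beq i 2 then 0x8421 else
  bif Nat.beq i 3 then 0x2841 else 0x4281
/-- Codes of the five subgroups of order 64. -/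
def fL (i n : ℕ) : Bool :=
  fV n && Nat.beq (Nat.land (Nat.shiftRight (lm i) (Nat.shiftRight n 4)) 1) 1
/-- Involutions outside `E` (and `1` is not one). -/
def fU (n : ℕ) : Bool := (!(fE n)) && Nat.beq (cm n n) 0
/-- Commuting. -/
def com (x y : ℕ) : Bool := Nat.beq (cm x y) (cm y x)
/-- Commuting modulo `z`. -/
def comz (x y : ℕ) : Bool := com x y || Nat.beq (cm x y) (cm (cm y x) 1)

theorem c_mulE : allB (fun m => allB (fun n => fE (cm m n)) 16) 16 = true := by decide +kernel
theorem c_mulV : allB (fun m => allB (fun n => fV (cm m n)) 256) 256 = true := by decide +kernel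
theorem c_mulQ : allB (fun m => imp (fQ m) (allB (fun n => imp (fQ n) (fQ (cm m n))) 1024)) 1024 =
    true := by decide +kernel
theorem c_mulL : allB (fun i => allB (fun m => imp (fL i m) (allB (fun n => imp (fL i n)
    (fL i (cm m n))) 256)) 256) 5 = true := by decide +kernel
theorem c_invE : allB (fun m => fE (ci m)) 16 = true := by decide +kernel
theorem c_invV : allB (fun m => fV (ci m)) 256 = true := by decide +kernel
theorem c_invQ : allB (fun m => imp (fQ m) (fQ (ci m))) 1024 = true := by decide +kernel
theorem c_invL : allB (fun i => allB (fun m => imp (fL i m) (fL i (ci m))) 256) 5 = true := by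
  decide +kernel
theorem c_cardQ : countB fQ 1024 = 128 := by decide +kernel
theorem c_cardL : allB (fun i => Nat.beq (countB (fL i) 1024) 64) 5 = true := by decide +kernel
theorem c_cardI : countB (fun n => fQ n && Nat.beq (cm n n) 0) 1024 = 56 := by decide +kernel

theorem c_z_comm : allB (fun g => com g 1) 1024 = true := by decide +kernel
theorem c_center : allB (fun x => imp (com 256 x && (com 512 x && com 64 x)) (Nat.ble x 1)) 1024 =
    true := by decide +kernel
theorem c_center2 : allB (fun x => imp (comz 256 x && comz 64 x) (Nat.ble x 7)) 1024 =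
    true := by decide +kernel
theorem c_Ecases : allB (fun x => Nat.beq x 0 || (exB (fun i => Nat.beq x (dN i)) 5 ||
    exB (fun i => exB (fun j => (!(Nat.beq i j)) && Nat.beq x (cm (dN i) (dN j))) 5) 5)) 16 =
    true := by decide +kernel
theorem c_Esq : allB (fun x => Nat.beq (cm x x) 0) 16 = true := by decide +kernel
theorem c_centVE : allB (fun g => allB (fun x => com g x) 16) 256 = true := by decide +kernel
theorem c_cent_d : allB (fun g => allB (fun j => imp (com g (dN (Nat.succ j))) (fV g)) 4) 1024 =
    true := by decide +kernel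
theorem c_conj_d : allB (fun g => allB (fun i => exB (fun j =>
    Nat.beq (cm g (dN i)) (cm (dN j) g)) 5) 5) 1024 = true := by decide +kernel
theorem c_conj_tr : allB (fun j => Nat.beq (cm (Nat.mul 256 j) (dN 1))
    (cm (dN (Nat.succ j)) (Nat.mul 256 j))) 4 = true := by decide +kernel
theorem c_sqV : allB (fun g => fV (cm g g)) 1024 = true := by decide +kernel
theorem c_Vinv : allB (fun x => imp (Nat.beq (cm x x) 0) (fE x)) 256 = true := by decide +kernel
theorem c_Vsq : allB (fun x => imp (!(fE x)) (exB (fun i => Nat.beq (cm x x) (dN i)) 5)) 256 =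
    true := by decide +kernel
theorem c_Vsqex : allB (fun i => exB (fun x => Nat.beq (cm x x) (dN i)) 256) 5 =
    true := by decide +kernel
theorem c_centV : allB (fun v => imp (!(fE v)) (allB (fun x => imp (com x v)
    (fE x || fE (cm x v))) 256)) 256 = true := by decide +kernel
theorem c_memL : allB (fun i => allB (fun x => (Nat.beq 1 1) &&
    (bif fL i x then (Nat.beq (cm x x) 0 || Nat.beq (cm x x) (dN i)) else
      (!(Nat.beq (cm x x) 0 || Nat.beq (cm x x) (dN i))))) 256) 5 = true := by decide +kernel
theorem c_dQ : allB (fun i => !(fQ (dN (Nat.succ i)))) 4 = true := by decide +kernel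
theorem c_ddQ : allB (fun i => allB (fun j => fQ (cm (dN (Nat.succ i)) (dN (Nat.succ j)))) 4) 4 =
    true := by decide +kernel
theorem c_Qsq : allB (fun x => imp (fQ x) (Nat.ble (cm x x) 1)) 1024 = true := by decide +kernel
theorem c_Qcomm : allB (fun x => imp (fQ x) (allB (fun y => imp (fQ y) (comz x y)) 1024)) 1024 =
    true := by decide +kernel
theorem c_Qcent : allB (fun g => imp (com g 2 && (com g 4 && (com g 16 && (com g 32 &&
    (com g 256 && com g 512))))) (Nat.ble g 1)) 1024 = true := by decide +kernel
theorem c_Qgen : allB (fun x => imp (fQ x) (exB (fun a => (fU a && fQ a) && (fU (cm a x) &&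
    fQ (cm a x))) 1024)) 1024 = true := by decide +kernel
theorem c_TmodQ : allB (fun g => imp (!(fQ g)) (fQ (cm g (dN 1)) || fQ (cm (cm g g) (dN 1)))) 1024 =
    true := by decide +kernel
theorem c_invol : allB (fun x => imp (Nat.beq (cm x x) 0) (fE x || fQ x)) 1024 =
    true := by decide +kernel
theorem c_zsq : allB (fun u => imp (fU u) (exB (fun v => fQ v && (com v u &&
    Nat.beq (cm v v) 1)) 1024)) 1024 = true := by decide +kernel
theorem c_exu : allB (fun g => imp (!(fV g)) (exB (fun u => fQ u && (Nat.beq (cm u u) 0 &&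
    fV (cm u (ci g)))) 1024)) 1024 = true := by decide +kernel

end Cfsg.Agent.SylowU5.Model
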