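import Cfsg.Agent.SylowU5.Checks

/-!
The two heaviest kernel-checked facts on the codes of the group `M0` of order 1024, cut into
pieces (each piece is its own theorem, so that the kernel can forget its cache in between).
-/

set_option autoImplicit false
set_option maxRecDepth 100000

namespace Cfsg.Agent.SylowU5.Model

theorem of_allB_add {f : ℕ → Bool} {a l : ℕ} (h : allB (fun j => f (Nat.add a j)) l = true)
    (m : ℕ) (h1 : a ≤ m) (h2 : m < a + l) : f m = true := by
  rw [allB_iff] at h
  have h3 := h (m - a) (by omega)
  have h4 : Nat.add a (m - a) = m := by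
    show a + (m - a) = m
    omega
  rwa [h4] at h3

/-- The predicate of `c_rank`. -/
def rankP (u : ℕ) : Bool := imp (fU u) (allB (fun x => imp (fQ x && (Nat.beq (cm x x) 0 &&
    (com x u && !(Nat.beq x 0 || (Nat.beq x u || (Nat.beq x 1 || Nat.beq x (cm u 1)))))))
    (Nat.ble (countB (fun y => fQ y && (Nat.beq (cm y y) 0 && (com y u && com y x))) 1024) 8)) 1024)

theorem rank_r0 : allB (fun j => rankP (Nat.add 0 j)) 256 = true := by decide +kernel
theorem rank_r256a : allB (fun j => rankP (Nat.add 256 j)) 8 = true := by decide +kernel
theorem rank_r256b : allB (fun j => rankP (Nat.add 264 j)) 16 = true := by decide +kernel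
theorem rank_r256c : allB (fun j => rankP (Nat.add 280 j)) 16 = true := by decide +kernel
theorem rank_r256d : allB (fun j => rankP (Nat.add 296 j)) 24 = true := by decide +kernel
theorem rank_r256e : allB (fun j => rankP (Nat.add 320 j)) 192 = true := by decide +kernel
theorem rank_r512a : allB (fun j => rankP (Nat.add 512 j)) 8 = true := by decide +kernel
theorem rank_r512b : allB (fun j => rankP (Nat.add 520 j)) 16 = true := by decide +kernel
theorem rank_r512c : allB (fun j => rankP (Nat.add 536 j)) 16 = true := by decide +kernel
theorem rank_r512d : allB (fun j => rankP (Nat.add 552 j)) 24 = true := by decide +kernel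
theorem rank_r512e : allB (fun j => rankP (Nat.add 576 j)) 192 = true := by decide +kernel
theorem rank_r768a : allB (fun j => rankP (Nat.add 768 j)) 8 = true := by decide +kernel
theorem rank_r768b : allB (fun j => rankP (Nat.add 776 j)) 16 = true := by decide +kernel
theorem rank_r768c : allB (fun j => rankP (Nat.add 792 j)) 16 = true := by decide +kernel
theorem rank_r768d : allB (fun j => rankP (Nat.add 808 j)) 24 = true := by decide +kernel
theorem rank_r768e : allB (fun j => rankP (Nat.add 832 j)) 192 = true := by decide +kernel

/-- Involutions (and `1`) of `Q` commuting with `u` and `x`. -/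
theorem c_rank : allB (fun u => imp (fU u) (allB (fun x => imp (fQ x && (Nat.beq (cm x x) 0 &&
    (com x u && !(Nat.beq x 0 || (Nat.beq x u || (Nat.beq x 1 || Nat.beq x (cm u 1)))))))
    (Nat.ble (countB (fun y => fQ y && (Nat.beq (cm y y) 0 && (com y u && com y x))) 1024) 8)) 1024))
    1024 = true := by
  show allB rankP 1024 = true
  rw [allB_iff]
  intro m hm
  by_cases hr0 : m < 256
  · exact of_allB_add rank_r0 m (by omega) (by omega)
  by_cases hr256a : m < 264
  · exact of_allB_add rank_r256a m (by omega) (by omega)
  by_cases hr256b : m < 280
  · exact of_allB_add rank_r256b m (by omega) (by omega)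
  by_cases hr256c : m < 296
  · exact of_allB_add rank_r256c m (by omega) (by omega)
  by_cases hr256d : m < 320
  · exact of_allB_add rank_r256d m (by omega) (by omega)
  by_cases hr256e : m < 512
  · exact of_allB_add rank_r256e m (by omega) (by omega)
  by_cases hr512a : m < 520
  · exact of_allB_add rank_r512a m (by omega) (by omega)
  by_cases hr512b : m < 536
  · exact of_allB_add rank_r512b m (by omega) (by omega)
  by_cases hr512c : m < 552
  · exact of_allB_add rank_r512c m (by omega) (by omega)
  by_cases hr512d : m < 576
  · exact of_allB_add rank_r512d m (by omega) (by omega)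
  by_cases hr512e : m < 768
  · exact of_allB_add rank_r512e m (by omega) (by omega)
  by_cases hr768a : m < 776
  · exact of_allB_add rank_r768a m (by omega) (by omega)
  by_cases hr768b : m < 792
  · exact of_allB_add rank_r768b m (by omega) (by omega)
  by_cases hr768c : m < 808
  · exact of_allB_add rank_r768c m (by omega) (by omega)
  by_cases hr768d : m < 832
  · exact of_allB_add rank_r768d m (by omega) (by omega)
  exact of_allB_add rank_r768e m (by omega) (by omega)

/-- The predicate of `c_centmodz`. -/
def centP (x : ℕ) : Bool := imp (fQ x && !(fE x)) (allB (fun s => imp (comz s x)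
    (fQ s || fQ (cm s (dN 1)))) 1024)

theorem centmodz_c0 : allB (fun j => centP (Nat.add 0 j)) 128 = true := by decide +kernel
theorem centmodz_c1 : allB (fun j => centP (Nat.add 128 j)) 128 = true := by decide +kernel
theorem centmodz_c2 : allB (fun j => centP (Nat.add 256 j)) 128 = true := by decide +kernel
theorem centmodz_c3 : allB (fun j => centP (Nat.add 384 j)) 128 = true := by decide +kernel
theorem centmodz_c4 : allB (fun j => centP (Nat.add 512 j)) 128 = true := by decide +kernel
theorem centmodz_c5 : allB (fun j => centP (Nat.add 640 j)) 128 = true := by decide +kernel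
theorem centmodz_c6 : allB (fun j => centP (Nat.add 768 j)) 128 = true := by decide +kernel
theorem centmodz_c7 : allB (fun j => centP (Nat.add 896 j)) 128 = true := by decide +kernel

theorem c_centmodz : allB (fun x => imp (fQ x && !(fE x)) (allB (fun s => imp (comz s x)
    (fQ s || fQ (cm s (dN 1)))) 1024)) 1024 = true := by
  show allB centP 1024 = true
  rw [allB_iff]
  intro m hm
  by_cases hc0 : m < 128
  · exact of_allB_add centmodz_c0 m (by omega) (by omega)
  by_cases hc1 : m < 256
  · exact of_allB_add centmodz_c1 m (by omega) (by omega)
  by_cases hc2 : m < 384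
  · exact of_allB_add centmodz_c2 m (by omega) (by omega)
  by_cases hc3 : m < 512
  · exact of_allB_add centmodz_c3 m (by omega) (by omega)
  by_cases hc4 : m < 640
  · exact of_allB_add centmodz_c4 m (by omega) (by omega)
  by_cases hc5 : m < 768
  · exact of_allB_add centmodz_c5 m (by omega) (by omega)
  by_cases hc6 : m < 896
  · exact of_allB_add centmodz_c6 m (by omega) (by omega)
  exact of_allB_add centmodz_c7 m (by omega) (by omega)

end Cfsg.Agent.SylowU5.Model
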