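import Cfsg.Agent.SylowU5.ChecksRank

/-!
More kernel-checked facts on the codes of the group `M0` of order 1024 (the heavier ones;
`c_rank` and `c_centmodz` are in `ChecksRank`).
-/

set_option autoImplicit false
set_option maxRecDepth 100000

namespace Cfsg.Agent.SylowU5.Model

theorem c_Enorm : allB (fun g => allB (fun x => Nat.beq (cm g x) (cm (Nat.xor (cm g x) g) g) &&
    fE (Nat.xor (cm g x) g)) 16) 1024 = true := by decide +kernel

theorem c_centu : allB (fun u => imp (fU u) (allB (fun g => imp (com g u) (fQ g)) 1024)) 1024 =
    true := by decide +kernel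

theorem c_conju : allB (fun u => imp (fU u) (allB (fun u' => imp (fU u' &&
    fV (Nat.xor u u')) (exB (fun g => Nat.beq (cm g u) (cm u' g)) 256)) 1024)) 1024 =
    true := by decide +kernel

end Cfsg.Agent.SylowU5.Model
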