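import Cfsg.Agent.SylowU5.Table

/-!
The group `M0` of order 1024 on codes.
-/

set_option autoImplicit false
set_option maxRecDepth 100000

namespace Cfsg.Agent.SylowU5.Model

open Cfsg.Agent.Lib.FieldFour

theorem dec_mul_aux (m n : ℕ) (hm : m < 64) (hn : n < 128) :
    dec (cm (Nat.mul 16 m) (Nat.mul 2 n)) = dec (Nat.mul 16 m) * dec (Nat.mul 2 n) :=
  (beqR_iff _ _).1 ((allB_iff _ _).1 ((allB_iff _ _).1 chk_mul m hm) n hn)

theorem chk_split16 : allB (fun n => Nat.beq n (Nat.xor (Nat.mod n 16) (Nat.mul 16 (Nat.div n 16))))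
    1024 = true := by decide +kernel

theorem chk_split2 : allB (fun n => Nat.beq n (Nat.xor (Nat.mod n 2)
    (Nat.xor (Nat.mul 2 (Nat.mod (Nat.div n 2) 128)) (Nat.mul 256 (Nat.div n 256)))))
    1024 = true := by decide +kernel

theorem split16 (n : ℕ) (hn : n < 1024) : n = Nat.xor (n % 16) (Nat.mul 16 (n / 16)) :=
  Nat.eq_of_beq_eq_true ((allB_iff _ _).1 chk_split16 n hn)

theorem split2 (n : ℕ) (hn : n < 1024) :
    n = Nat.xor (n % 2) (Nat.xor (Nat.mul 2 (n / 2 % 128)) (Nat.mul 256 (n / 256))) :=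
  Nat.eq_of_beq_eq_true ((allB_iff _ _).1 chk_split2 n hn)

/-- Translation of the first coordinate. -/
def shiftL (s : ℕ) (x : Raw) : Raw := { x with l := ofN s + x.l }

theorem chk_shiftL : allB (fun s => allB (fun n => beqR (dec (Nat.xor (Nat.mul 256 s) n))
    (shiftL s (dec n))) 1024) 4 = true := by decide +kernel

theorem dec_xorL (s n : ℕ) (hs : s < 4) (hn : n < 1024) :
    dec (Nat.xor (Nat.mul 256 s) n) = shiftL s (dec n) :=
  (beqR_iff _ _).1 ((allB_iff _ _).1 ((allB_iff _ _).1 chk_shiftL s hs) n hn)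

theorem kap_eq (m n m' n' : ℕ) (h1 : Nat.shiftRight m 4 = Nat.shiftRight m' 4)
    (h2 : Nat.land (Nat.shiftRight n 1) 127 = Nat.land (Nat.shiftRight n' 1) 127) :
    kap m n = kap m' n' := by
  unfold kap
  rw [h1, h2]

theorem kap_lt (m n : ℕ) : kap m n < 64 := by
  unfold kap
  have : Nat.land (Nat.shiftRight TAB (Nat.mul 6 (Nat.add (Nat.mul 128 (Nat.shiftRight m 4))
    (Nat.land (Nat.shiftRight n 1) 127)))) 63 ≤ 63 := Nat.and_le_right
  omega

theorem xor_lt {a b : ℕ} (ha : a < 1024) (hb : b < 1024) : Nat.xor a b < 1024 :=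
  Nat.xor_lt_two_pow (n := 10) ha hb

theorem cm_lt {a b : ℕ} (ha : a < 1024) (hb : b < 1024) : cm a b < 1024 :=
  xor_lt (xor_lt ha hb) (lt_trans (kap_lt a b) (by norm_num))

theorem shiftRight16 (n : ℕ) : Nat.shiftRight n 4 = Nat.shiftRight (Nat.mul 16 (n / 16)) 4 := by
  change n >>> 4 = (16 * (n / 16)) >>> 4
  rw [Nat.shiftRight_eq_div_pow, Nat.shiftRight_eq_div_pow]
  norm_num

theorem shiftRight2 (n : ℕ) : Nat.land (Nat.shiftRight n 1) 127 =
    Nat.land (Nat.shiftRight (Nat.mul 2 (n / 2 % 128)) 1) 127 := by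
  change (n >>> 1) &&& (2 ^ 7 - 1) = ((2 * (n / 2 % 128)) >>> 1) &&& (2 ^ 7 - 1)
  rw [Nat.and_two_pow_sub_one_eq_mod, Nat.and_two_pow_sub_one_eq_mod, Nat.shiftRight_eq_div_pow,
    Nat.shiftRight_eq_div_pow]
  omega

theorem cm_split (m n : ℕ) (hm : m < 1024) (hn : n < 1024) :
    cm m n = Nat.xor (m % 16) (Nat.xor (n % 2) (Nat.xor (Nat.mul 256 (n / 256))
      (cm (Nat.mul 16 (m / 16)) (Nat.mul 2 (n / 2 % 128))))) := by
  unfold cm
  rw [← kap_eq m n (Nat.mul 16 (m / 16)) (Nat.mul 2 (n / 2 % 128)) (shiftRight16 m)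
    (shiftRight2 n)]
  have h1 := split16 m hm
  have h2 := split2 n hn
  set a := m % 16
  set b := Nat.mul 16 (m / 16)
  set c := n % 2
  set d := Nat.mul 2 (n / 2 % 128)
  set e := Nat.mul 256 (n / 256)
  set k := kap m n
  change (m ^^^ n) ^^^ k = a ^^^ (c ^^^ (e ^^^ ((b ^^^ d) ^^^ k)))
  change m = a ^^^ b at h1
  change n = c ^^^ (d ^^^ e) at h2
  rw [h1, h2]
  simp only [Nat.xor_assoc]
  congr 1
  simp only [← Nat.xor_assoc]
  rw [Nat.xor_comm b c]
  congr 1
  simp only [Nat.xor_assoc]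
  congr 1
  rw [← Nat.xor_assoc, Nat.xor_comm]

theorem shift_mul (s : ℕ) (x y : Raw) : shift s x * y = shift s (x * y) := by
  simp only [Raw.mul_def, Raw.mul, shift, Raw.mk.injEq]
  refine ⟨trivial, trivial, trivial, ?_, ?_, ?_, ?_⟩ <;> ring

theorem mul_shift (s : ℕ) (hs : s < 2) (x y : Raw) : x * shift s y = shift s (x * y) := by
  have h0 : ofN (Nat.land (Nat.shiftRight s 1) 3) = 0 := by
    interval_cases s <;> rfl
  have h1 : ofN (Nat.land (Nat.shiftRight s 3) 1) = 0 := by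
    interval_cases s <;> rfl
  simp only [Raw.mul_def, Raw.mul, shift, Raw.mk.injEq, h0, h1, cj_zero]
  refine ⟨trivial, trivial, trivial, ?_, ?_, ?_, ?_⟩ <;> ring

theorem mul_shiftL (s : ℕ) (x y : Raw) : x * shiftL s y = shiftL s (x * y) := by
  simp only [Raw.mul_def, Raw.mul, shiftL, Raw.mk.injEq]
  refine ⟨?_, trivial, trivial, trivial, trivial, trivial, trivial⟩
  ring

theorem dec_cm (m n : ℕ) (hm : m < 1024) (hn : n < 1024) : dec (cm m n) = dec m * dec n := by
  have hm16 : m / 16 < 64 := by omega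
  have hn2 : n / 2 % 128 < 128 := by omega
  have hn256 : n / 256 < 4 := by omega
  have e1 : m % 16 < 16 := Nat.mod_lt _ (by norm_num)
  have e2 : n % 2 < 2 := Nat.mod_lt _ (by norm_num)
  have b1 : Nat.mul 16 (m / 16) < 1024 := by change 16 * (m / 16) < 1024; omega
  have b2 : Nat.mul 2 (n / 2 % 128) < 1024 := by change 2 * (n / 2 % 128) < 1024; omega
  have b3 : Nat.mul 256 (n / 256) < 1024 := by change 256 * (n / 256) < 1024; omega
  have b4 := cm_lt b1 b2
  have h1 : dec m = shift (m % 16) (dec (Nat.mul 16 (m / 16))) := by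
    rw [← dec_xor _ _ e1 b1, ← split16 m hm]
  have h2 : dec n = shift (n % 2) (shiftL (n / 256) (dec (Nat.mul 2 (n / 2 % 128)))) := by
    rw [← dec_xorL _ _ hn256 b2, ← dec_xor _ _ (by omega) (xor_lt b3 b2)]
    have h3 := split2 n hn
    have h4 : Nat.xor (Nat.mul 256 (n / 256)) (Nat.mul 2 (n / 2 % 128)) =
      Nat.xor (Nat.mul 2 (n / 2 % 128)) (Nat.mul 256 (n / 256)) := Nat.xor_comm _ _
    rw [h4, ← h3]
  rw [cm_split m n hm hn, dec_xor _ _ e1 (xor_lt (by omega) (xor_lt b3 b4)),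
    dec_xor _ _ (by omega) (xor_lt b3 b4), dec_xorL _ _ hn256 b4, dec_mul_aux _ _ hm16 hn2, h1, h2,
    shift_mul, mul_shift _ e2, mul_shiftL]

/-- Decoding is injective. -/
def encN : F4 → ℕ
  | F4.o => 0
  | F4.i => 1
  | F4.w => 2
  | F4.v => 3

/-- Encoding. -/
def enc (x : Raw) : ℕ :=
  Nat.xor (encN (F4.add x.a (F4.mul F4.w (F4.mul x.p (cj x.p)))))
    (Nat.xor (Nat.mul 2 (encN (cj x.c)))
    (Nat.xor (Nat.mul 8 (encN (F4.add x.d (F4.mul F4.w (F4.mul x.q (cj x.q))))))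
    (Nat.xor (Nat.mul 16 (encN x.p)) (Nat.xor (Nat.mul 64 (encN x.q)) (Nat.mul 256 (encN x.l))))))

theorem chk_enc : allB (fun n => Nat.beq (enc (dec n)) n) 1024 = true := by decide +kernel

theorem enc_dec (n : ℕ) (hn : n < 1024) : enc (dec n) = n :=
  Nat.eq_of_beq_eq_true ((allB_iff _ _).1 chk_enc n hn)

theorem dec_inj {m n : ℕ} (hm : m < 1024) (hn : n < 1024) (h : dec m = dec n) : m = n := by
  rw [← enc_dec m hm, ← enc_dec n hn, h]

/-- The inverse on codes. -/
def ci (n : ℕ) : ℕ := enc (Raw.inv (dec n))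

theorem chk_ci : allB (fun n => Nat.ble (ci n) 1023 && Nat.beq (cm (ci n) n) 0) 1024 = true := by
  decide +kernel

theorem ci_lt (n : ℕ) (hn : n < 1024) : ci n < 1024 := by
  have h := (allB_iff _ _).1 chk_ci n hn
  rw [Bool.and_eq_true] at h
  have := Nat.le_of_ble_eq_true h.1
  omega

theorem ci_cm (n : ℕ) (hn : n < 1024) : cm (ci n) n = 0 := by
  have h := (allB_iff _ _).1 chk_ci n hn
  rw [Bool.and_eq_true] at h
  exact Nat.eq_of_beq_eq_true h.2

/-- The group of order 1024. -/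
@[ext] structure M0 where
  /-- the code -/
  n : ℕ
  lt : n < 1024
  deriving DecidableEq

namespace M0

instance : Mul M0 := ⟨fun x y => ⟨cm x.n y.n, cm_lt x.lt y.lt⟩⟩
instance : One M0 := ⟨⟨0, by norm_num⟩⟩
instance : Inv M0 := ⟨fun x => ⟨ci x.n, ci_lt x.n x.lt⟩⟩

theorem mul_n (x y : M0) : (x * y).n = cm x.n y.n := rfl
theorem one_n : (1 : M0).n = 0 := rfl
theorem inv_n (x : M0) : (x⁻¹).n = ci x.n := rfl

theorem dec_mul (x y : M0) : dec (x * y).n = dec x.n * dec y.n := dec_cm _ _ x.lt y.lt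

theorem dec_one : dec (1 : M0).n = 1 := by decide

theorem dec_injective {x y : M0} (h : dec x.n = dec y.n) : x = y :=
  M0.ext (dec_inj x.lt y.lt h)

instance : Group M0 where
  mul_assoc x y z := by
    apply dec_injective
    rw [dec_mul, dec_mul, dec_mul, dec_mul, mul_assoc]
  one_mul x := by
    apply dec_injective
    rw [dec_mul, dec_one, one_mul]
  mul_one x := by
    apply dec_injective
    rw [dec_mul, dec_one, mul_one]
  inv_mul_cancel x := M0.ext (ci_cm x.n x.lt)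

/-- The embedding into `Raw`. -/
def toRaw : M0 →* Raw where
  toFun x := dec x.n
  map_one' := dec_one
  map_mul' := dec_mul

theorem toRaw_injective : Function.Injective toRaw := fun _ _ h => dec_injective h

/-- `M0` has 1024 elements. -/
def equivFin : M0 ≃ Fin 1024 where
  toFun x := ⟨x.n, x.lt⟩
  invFun i := ⟨i.1, i.2⟩
  left_inv _ := rfl
  right_inv _ := rfl

instance : Finite M0 := Finite.of_equiv _ equivFin.symm

theorem card : Nat.card M0 = 1024 := by
  rw [Nat.card_congr equivFin, Nat.card_fin]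

end M0

end Cfsg.Agent.SylowU5.Model
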