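import Cfsg.Agent.SylowU5.ChecksTwo
import Cfsg.Agent.SylowU5.Basic

/-!
The group `M0` of order 1024 satisfies `U5T`.
-/

set_option autoImplicit false

namespace Cfsg.Agent.SylowU5.Model

open Cfsg.Agent.SylowU5.Basic

theorem allB_apply {f : ℕ → Bool} {n : ℕ} (h : allB f n = true) {m : ℕ} (hm : m < n) : f m = true :=
  (allB_iff f n).1 h m hm

namespace M0

/-- A subgroup of `M0` given by a Boolean predicate on codes. -/
def sub (f : ℕ → Bool) (h1 : f 0 = true)
    (h2 : ∀ m n, m < 1024 → n < 1024 → f m = true → f n = true → f (cm m n) = true)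
    (h3 : ∀ n, n < 1024 → f n = true → f (ci n) = true) : Subgroup M0 where
  carrier := {x | f x.n = true}
  one_mem' := h1
  mul_mem' {x y} hx hy := h2 x.n y.n x.lt y.lt hx hy
  inv_mem' {x} hx := h3 x.n x.lt hx

theorem countB_eq (f : ℕ → Bool) (n : ℕ) :
    countB f n = ((Finset.range n).filter fun m => f m = true).card := by
  induction n with
  | zero => simp [countB]
  | succ n ih =>
    have h : countB f (n + 1) = bif f n then Nat.succ (countB f n) else countB f n := rfl
    rw [h, Finset.range_add_one, Finset.filter_insert]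
    by_cases hf : f n = true
    · rw [if_pos hf, Finset.card_insert_of_notMem (by simp), ih, hf]
      rfl
    · rw [if_neg hf, ← ih]
      rw [Bool.not_eq_true] at hf
      rw [hf]
      rfl

theorem natCard_codes (f : ℕ → Bool) : Nat.card {x : M0 // f x.n = true} = countB f 1024 := by
  rw [countB_eq]
  have e : {x : M0 // f x.n = true} ≃ ((Finset.range 1024).filter fun m => f m = true) :=
    { toFun := fun x => ⟨x.1.n, by simpa using ⟨x.1.lt, x.2⟩⟩
      invFun := fun m => ⟨⟨m.1, (List.mem_range.1 (Finset.mem_filter.1 m.2).1)⟩,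
        (Finset.mem_filter.1 m.2).2⟩
      left_inv := fun _ => rfl
      right_inv := fun _ => rfl }
  rw [Nat.card_congr e, Nat.card_eq_fintype_card, Fintype.card_coe]

/-- The elementary abelian subgroup of order 16. -/
def E : Subgroup M0 := sub fE (by decide)
  (fun m n _ _ h1 h2 => by
    have a1 : m < 16 := Nat.lt_succ_of_le (Nat.le_of_ble_eq_true h1)
    have a2 : n < 16 := Nat.lt_succ_of_le (Nat.le_of_ble_eq_true h2)
    exact allB_apply (allB_apply c_mulE a1) a2)
  (fun n _ h => by
    have a1 : n < 16 := Nat.lt_succ_of_le (Nat.le_of_ble_eq_true h)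
    exact allB_apply c_invE a1)

/-- The centralizer of `E`. -/
def V : Subgroup M0 := sub fV (by decide)
  (fun m n _ _ h1 h2 => by
    have a1 : m < 256 := Nat.lt_succ_of_le (Nat.le_of_ble_eq_true h1)
    have a2 : n < 256 := Nat.lt_succ_of_le (Nat.le_of_ble_eq_true h2)
    exact allB_apply (allB_apply c_mulV a1) a2)
  (fun n _ h => by
    have a1 : n < 256 := Nat.lt_succ_of_le (Nat.le_of_ble_eq_true h)
    exact allB_apply c_invV a1)

/-- The extraspecial subgroup of order 128. -/
def Q : Subgroup M0 := sub fQ (by decide)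
  (fun m n hm hn h1 h2 =>
    (imp_iff _ _).1 (allB_apply ((imp_iff _ _).1 (allB_apply c_mulQ hm) h1) hn) h2)
  (fun n hn h => (imp_iff _ _).1 (allB_apply c_invQ hn) h)

theorem mem_E {x : M0} : x ∈ E ↔ x.n < 16 := by
  change Nat.ble x.n 15 = true ↔ _
  rw [Nat.ble_eq]
  omega

theorem mem_V {x : M0} : x ∈ V ↔ x.n < 256 := by
  change Nat.ble x.n 255 = true ↔ _
  rw [Nat.ble_eq]
  omega

theorem mem_Q {x : M0} : x ∈ Q ↔ fQ x.n = true := Iff.rfl

theorem fL_lt {i n : ℕ} (h : fL i n = true) : n < 256 := by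
  unfold fL at h
  rw [Bool.and_eq_true] at h
  exact Nat.lt_succ_of_le (Nat.le_of_ble_eq_true h.1)

/-- The five subgroups of order 64. -/
def L (i : Fin 5) : Subgroup M0 := sub (fL i.1)
  (by fin_cases i <;> decide)
  (fun m n _ _ h1 h2 =>
    (imp_iff _ _).1 (allB_apply ((imp_iff _ _).1 (allB_apply (allB_apply c_mulL i.2)
      (fL_lt h1)) h1) (fL_lt h2)) h2)
  (fun n _ h => (imp_iff _ _).1 (allB_apply (allB_apply c_invL i.2) (fL_lt h)) h)

theorem dN_lt (i : ℕ) : dN i < 16 := by
  unfold dN
  have : Nat.land (Nat.shiftRight 0xFDB81 (Nat.mul 4 i)) 15 ≤ 15 := Nat.and_le_right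
  omega

/-- The five transvections. -/
def d (i : Fin 5) : M0 := ⟨dN i.1, lt_trans (dN_lt _) (by norm_num)⟩

theorem card_E : Nat.card E = 16 :=
  (natCard_codes fE).trans (by decide +kernel)

theorem card_V : Nat.card V = 256 :=
  (natCard_codes fV).trans (by decide +kernel)

theorem card_Q : Nat.card Q = 128 :=
  (natCard_codes fQ).trans c_cardQ

theorem card_L (i : Fin 5) : Nat.card (L i) = 64 :=
  (natCard_codes (fL i.1)).trans (Nat.eq_of_beq_eq_true (allB_apply c_cardL i.2))

theorem eq_iff {x y : M0} : x = y ↔ Nat.beq x.n y.n = true := by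
  rw [Nat.beq_eq, M0.ext_iff]

theorem com_iff {x y : M0} : com x.n y.n = true ↔ x * y = y * x := by
  rw [eq_iff]; rfl

theorem d0_n : (d 0).n = 1 := by decide

theorem comz_iff {x y : M0} : comz x.n y.n = true ↔ (x * y = y * x ∨ x * y = y * x * d 0) := by
  unfold comz
  rw [Bool.or_eq_true, com_iff, eq_iff (x := x * y) (y := y * x * d 0)]
  simp only [mul_n, d0_n]

end M0

end Cfsg.Agent.SylowU5.Model
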