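import Mathlib.GroupTheory.Sylow
import Mathlib.GroupTheory.Transfer
import Mathlib.Data.ZMod.Basic
import Mathlib.Tactic

/-!
# The retraction of an elementary abelian Sylow 2-subgroup onto the fixed points of its normalizer
-/

set_option autoImplicit false

namespace Cfsg.Agent.SylowU5.FormAvg

open Subgroup

variable {N : Type*} [Group N]

theorem exists_retraction [Finite N] (V : Sylow 2 N)
    (hVc : ∀ a ∈ (V : Subgroup N), ∀ b ∈ (V : Subgroup N), a * b = b * a)
    (hV2 : ∀ a ∈ (V : Subgroup N), a * a = 1) :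
    ∃ e : (V : Subgroup N) →* (V : Subgroup N),
      (∀ (g : N) (v w : (V : Subgroup N)), g * v * g⁻¹ = w → e w = e v) ∧
      (∀ v, e (e v) = e v) ∧
      (∀ f : (V : Subgroup N), e f = f → ∀ (g : N) (w : (V : Subgroup N)), g * f * g⁻¹ = w → w = f) ∧
      (∀ f : (V : Subgroup N), (∀ g : N, g * f = f * g) → e f = f) ∧
      (∀ χ : (V : Subgroup N) →* Multiplicative (ZMod 2),
        (∀ g ∈ normalizer ((V : Subgroup N) : Set N), ∀ v w : (V : Subgroup N), g * v * g⁻¹ = w → χ w = χ v) →
          ∀ v, χ (e v) = χ v) := by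
  classical
  have : Fact (Nat.Prime 2) := ⟨Nat.prime_two⟩
  let cg : CommGroup (V : Subgroup N) :=
    { (inferInstance : Group (V : Subgroup N)) with
      mul_comm := fun a b => Subtype.ext (hVc a a.2 b b.2) }
  set φ := (V : Subgroup N).normalizerMonoidHom with hφ
  let R : Subgroup (MulAut (V : Subgroup N)) := φ.range
  have hRfin : Fintype R := Fintype.ofFinite R
  have hφa : ∀ (g : normalizer ((V : Subgroup N) : Set N)) (v : (V : Subgroup N)),
      ((φ g v : (V : Subgroup N)) : N) = g * v * (g : N)⁻¹ := fun g v => rfl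
  -- the order of `R` is odd
  have hRodd : Odd (Fintype.card R) := by
    have h1 : Nat.card R = φ.ker.index := (index_ker φ).symm
    rw [← Nat.card_eq_fintype_card, h1, hφ, normalizerMonoidHom_ker]
    have h2 : (V : Subgroup N) ≤ centralizer ((V : Subgroup N) : Set N) := by
      intro a ha
      exact mem_centralizer_iff.2 fun b hb => hVc b hb a ha
    have h3 : (centralizer ((V : Subgroup N) : Set N)).relIndex (normalizer ((V : Subgroup N) : Set N)) ∣
        (V : Subgroup N).relIndex (normalizer ((V : Subgroup N) : Set N)) := relIndex_dvd_of_le_left _ h2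
    have h4 : (V : Subgroup N).relIndex (normalizer ((V : Subgroup N) : Set N)) ∣ (V : Subgroup N).index :=
      relIndex_dvd_index_of_le le_normalizer
    have h5 : ¬ 2 ∣ (V : Subgroup N).index := V.not_dvd_index
    change Odd ((centralizer ((V : Subgroup N) : Set N)).relIndex (normalizer ((V : Subgroup N) : Set N)))
    rw [Nat.odd_iff]
    have h6 : ¬ 2 ∣ (centralizer ((V : Subgroup N) : Set N)).relIndex (normalizer ((V : Subgroup N) : Set N)) :=
      fun h => h5 (h.trans (h3.trans h4))
    omega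
  let e : (V : Subgroup N) →* (V : Subgroup N) :=
    { toFun := fun v => ∏ r : R, (r : MulAut (V : Subgroup N)) v
      map_one' := by simp
      map_mul' := fun v w => by simp [Finset.prod_mul_distrib] }
  have he : ∀ v, e v = ∏ r : R, (r : MulAut (V : Subgroup N)) v := fun v => rfl
  -- invariance
  have he1 : ∀ (s : R) (v : (V : Subgroup N)), (s : MulAut (V : Subgroup N)) (e v) = e v := by
    intro s v
    rw [he, map_prod]
    exact Fintype.prod_equiv (Equiv.mulLeft s) _ _ (fun r => rfl)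
  have he2 : ∀ (s : R) (v : (V : Subgroup N)), e ((s : MulAut (V : Subgroup N)) v) = e v := by
    intro s v
    rw [he, he]
    exact Fintype.prod_equiv (Equiv.mulRight s) _ _ (fun r => rfl)
  have hpow : ∀ (v : (V : Subgroup N)) (n : ℕ), Odd n → v ^ n = v := by
    rintro v n ⟨k, rfl⟩
    have h2 : v * v = 1 := Subtype.ext (hV2 v v.2)
    rw [pow_succ, pow_mul, pow_two, h2, one_pow, one_mul]
  have he3 : ∀ f : (V : Subgroup N), (∀ s : R, (s : MulAut (V : Subgroup N)) f = f) → e f = f := by
    intro f hf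
    rw [he, Finset.prod_congr rfl (fun r _ => hf r), Finset.prod_const, Finset.card_univ]
    exact hpow f _ hRodd
  -- fusion
  have hcomm : IsMulCommutative (V : Subgroup N) := ⟨⟨fun a b => Subtype.ext (hVc a a.2 b b.2)⟩⟩
  have hfus : ∀ (g : N) (v w : (V : Subgroup N)), g * v * g⁻¹ = w → ∃ s : R, (s : MulAut (V : Subgroup N)) v = w := by
    intro g v w hg
    obtain ⟨n, hn, h1⟩ := V.conj_eq_normalizer_conj_of_mem v g⁻¹ v.2 (by rw [inv_inv, hg]; exact w.2)
    rw [inv_inv] at h1
    refine ⟨⟨φ ⟨n⁻¹, inv_mem hn⟩, ⟨_, rfl⟩⟩, Subtype.ext ?_⟩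
    rw [← hg, h1]
    change n⁻¹ * v * (n⁻¹)⁻¹ = n⁻¹ * v * n
    rw [inv_inv]
  refine ⟨e, ?_, ?_, ?_, ?_, ?_⟩
  · intro g v w hg
    obtain ⟨s, hs⟩ := hfus g v w hg
    rw [← hs, he2]
  · intro v
    exact he3 _ (fun s => he1 s v)
  · intro f hf g w hg
    obtain ⟨s, hs⟩ := hfus g f w hg
    rw [← hs]
    conv_lhs => rw [← hf]
    rw [he1, hf]
  · intro f hf
    apply he3
    rintro ⟨_, ⟨g, rfl⟩⟩
    apply Subtype.ext
    change (g : N) * f * (g : N)⁻¹ = f
    rw [hf, mul_inv_cancel_right]
  · intro χ hχ v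
    rw [he, map_prod]
    have h1 : ∀ r : R, χ ((r : MulAut (V : Subgroup N)) v) = χ v := by
      rintro ⟨_, ⟨g, rfl⟩⟩
      exact hχ g g.2 v _ rfl
    rw [Finset.prod_congr rfl (fun r _ => h1 r), Finset.prod_const, Finset.card_univ]
    obtain ⟨k, hk⟩ := hRodd
    rw [hk, pow_succ, pow_mul, pow_two]
    have h2 : χ v * χ v = 1 := by
      rw [← map_mul]
      have h2 : v * v = 1 := Subtype.ext (hV2 v v.2)
      rw [h2, map_one]
    rw [h2, one_pow, one_mul]

end Cfsg.Agent.SylowU5.FormAvg
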