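import Cfsg.Agent.Lib.FieldFour

/-!
The Sylow 2-subgroup of `SU_5(2)` inside an explicit group of order `4 ^ 7`: triples `(λ, v, h)`
with `v` a column of length two and `h` a `2 × 2` matrix over `F4`, product
`(λ, v, h) (λ', v', h') = (λ + λ', v + u v', h + u h' u^* + v (u v')^*)`, `u = [1, λ; 0, 1]`.
-/

set_option autoImplicit false

namespace Cfsg.Agent.SylowU5.Model

open Cfsg.Agent.Lib.FieldFour

/-- The involutory automorphism of `F4`. -/
def cj : F4 → F4
  | F4.o => F4.o
  | F4.i => F4.i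
  | F4.w => F4.v
  | F4.v => F4.w

theorem cj_add (x y : F4) : cj (x + y) = cj x + cj y := by revert x y; decide
theorem cj_mul (x y : F4) : cj (x * y) = cj x * cj y := by revert x y; decide
theorem cj_cj (x : F4) : cj (cj x) = x := by revert x; decide
theorem cj_zero : cj 0 = 0 := rfl
theorem cj_one : cj 1 = 1 := rfl
theorem add_self (x : F4) : x + x = 0 := by revert x; decide
theorem neg_eq (x : F4) : -x = x := rfl
theorem cj_eq (x : F4) : cj x = x ^ 2 := by revert x; decide

/-- The ambient group. -/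
@[ext] structure Raw where
  l : F4
  p : F4
  q : F4
  a : F4
  b : F4
  c : F4
  d : F4
  deriving DecidableEq

namespace Raw

/-- The product. -/
def mul (x y : Raw) : Raw where
  l := x.l + y.l
  p := x.p + (y.p + x.l * y.q)
  q := x.q + y.q
  a := x.a + (y.a + x.l * y.c + cj x.l * (y.b + x.l * y.d)) + x.p * cj (y.p + x.l * y.q)
  b := x.b + (y.b + x.l * y.d) + x.p * cj y.q
  c := x.c + (y.c + cj x.l * y.d) + x.q * cj (y.p + x.l * y.q)
  d := x.d + y.d + x.q * cj y.q

/-- The inverse. -/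
def inv (x : Raw) : Raw where
  l := x.l
  p := x.p + x.l * x.q
  q := x.q
  a := x.a + x.p * cj x.p + x.l * (x.c + x.q * cj x.p) + cj x.l * ((x.b + x.p * cj x.q) +
    x.l * (x.d + x.q * cj x.q))
  b := x.b + x.p * cj x.q + x.l * (x.d + x.q * cj x.q)
  c := x.c + x.q * cj x.p + cj x.l * (x.d + x.q * cj x.q)
  d := x.d + x.q * cj x.q

instance : Mul Raw := ⟨mul⟩
instance : One Raw := ⟨⟨0, 0, 0, 0, 0, 0, 0⟩⟩
instance : Inv Raw := ⟨inv⟩

theorem mul_def (x y : Raw) : x * y = mul x y := rfl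
theorem one_def : (1 : Raw) = ⟨0, 0, 0, 0, 0, 0, 0⟩ := rfl
theorem inv_def (x : Raw) : x⁻¹ = inv x := rfl

theorem two_zero : (2 : F4) = 0 := by decide

instance : Group Raw where
  mul_assoc x y z := by
    simp only [mul_def, mul, Raw.mk.injEq, cj_add, cj_mul]
    refine ⟨?_, ?_, ?_, ?_, ?_, ?_, ?_⟩ <;> ring
  one_mul x := by
    simp only [mul_def, mul, one_def, cj_zero]
    ext <;> simp
  mul_one x := by
    simp only [mul_def, mul, one_def, cj_zero]
    ext <;> simp [cj_zero]
  inv_mul_cancel x := by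
    simp only [mul_def, mul, one_def, inv_def, inv, Raw.mk.injEq, cj_add, cj_mul]
    refine ⟨?_, ?_, ?_, ?_, ?_, ?_, ?_⟩ <;> ring_nf <;> simp [two_zero]

end Raw

end Cfsg.Agent.SylowU5.Model
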