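import Cfsg.Agent.SylowU5.Code
import Cfsg.Agent.LieClassical.SUBasic
import Cfsg.Agent.LieClassical.FieldTransfer
import Cfsg.Agent.S0280

/-!
The group `M0` of order 1024 is isomorphic to every Sylow 2-subgroup of `PSU 5 F 2`, `|F| = 4`.
-/

set_option autoImplicit false
set_option maxRecDepth 10000

open Cfsg

namespace Cfsg.Agent.SylowU5.Model

open Matrix Cfsg.Agent.Lib.FieldFour Cfsg.Agent.LieClassical.SUBasic

/-- The unitriangular matrix of an element. -/
def mx (x : Raw) : Matrix (Fin 5) (Fin 5) F4 :=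
  !![1, x.l, x.p, x.b, x.a + x.b * cj x.l;
     0, 1, x.q, x.d, x.c + x.d * cj x.l;
     0, 0, 1, cj x.q, cj x.p + cj x.q * cj x.l;
     0, 0, 0, 1, cj x.l;
     0, 0, 0, 0, 1]

theorem mx_one : mx 1 = 1 := by decide

theorem mx_mul (x y : Raw) : mx (x * y) = mx x * mx y := by
  ext i j
  simp only [Matrix.mul_apply, Fin.sum_univ_five]
  fin_cases i <;> fin_cases j <;>
    simp [mx, Raw.mul_def, Raw.mul, cj_add, cj_mul] <;> ring_nf <;> simp [Raw.two_zero]

theorem mx_injective : Function.Injective mx := by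
  intro x y h
  have e (i j : Fin 5) : mx x i j = mx y i j := by rw [h]
  have h1 : x.l = y.l := e 0 1
  have h2 : x.p = y.p := e 0 2
  have h3 : x.q = y.q := e 1 2
  have h4 : x.b = y.b := e 0 3
  have h5 : x.d = y.d := e 1 3
  have h6 : x.a + x.b * cj x.l = y.a + y.b * cj y.l := e 0 4
  have h7 : x.c + x.d * cj x.l = y.c + y.d * cj y.l := e 1 4
  rw [h4, h1] at h6
  rw [h5, h1] at h7
  exact Raw.ext h1 h2 h3 (add_right_cancel h6) h4 (add_right_cancel h7) h5

theorem mx_det (x : Raw) : (mx x).det = 1 := by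
  rw [Matrix.det_of_isUpperTriangular]
  · rw [Fin.prod_univ_five]
    simp [mx]
  · intro i j hij
    fin_cases i <;> fin_cases j <;> first | rfl | (exact absurd hij (by decide))

/-- The Hermitian form in the adapted basis. -/
def bf (u v : Fin 5 → F4) : F4 :=
  u 0 * cj (v 4) + u 4 * cj (v 0) + u 1 * cj (v 3) + u 3 * cj (v 1) + u 2 * cj (v 2)

/-- The base change. -/
def cmat : Matrix (Fin 5) (Fin 5) F4 :=
  !![1, 0, 0, 0, F4.w;
     0, 1, 0, F4.w, 0;
     0, 0, 1, 0, 0;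
     0, 1, 0, F4.v, 0;
     1, 0, 0, 0, F4.v]

/-- The inverse base change. -/
def cinv : Matrix (Fin 5) (Fin 5) F4 :=
  !![F4.v, 0, 0, 0, F4.w;
     0, F4.v, 0, F4.w, 0;
     0, 0, 1, 0, 0;
     0, 1, 0, 1, 0;
     1, 0, 0, 0, 1]

theorem cmat_cinv : cmat * cinv = 1 := by decide +kernel
theorem cinv_cmat : cinv * cmat = 1 := by decide +kernel

theorem wv1 : (F4.w : F4) * F4.v = 1 := rfl
theorem wv2 : (F4.v : F4) * F4.w = 1 := rfl
theorem wv3 : (F4.w : F4) + F4.v = 1 := rfl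
theorem wv4 : (F4.v : F4) = 1 + F4.w := rfl
theorem ww : (F4.w : F4) ^ 2 = 1 + F4.w := rfl
theorem cjw : cj F4.w = 1 + F4.w := rfl

theorem herm_cmat (u v : Fin 5 → F4) : hermForm 5 F4 2 (cmat *ᵥ u) (cmat *ᵥ v) = bf u v := by
  rw [hermForm_apply]
  simp only [Fin.sum_univ_five, ← cj_eq, Matrix.mulVec, dotProduct]
  simp [cmat, bf, cj_add, cj_mul, cj_zero, cj_one, wv4, cjw]
  have h2 : (2 : F4) = 0 := Raw.two_zero
  linear_combination (u 0 * F4.w * cj (v 4) + u 0 * cj (v 0) + u 0 * cj (v 4) +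
    F4.w * u 4 * cj (v 0) + 2 * F4.w * u 4 * cj (v 4) + F4.w * u 1 * cj (v 3) +
    F4.w * u 3 * cj (v 1) + 2 * F4.w * u 3 * cj (v 3) + F4.w ^ 2 * u 4 * cj (v 4) +
    F4.w ^ 2 * u 3 * cj (v 3) + u 4 * cj (v 4) + u 1 * cj (v 1) + u 1 * cj (v 3) +
    u 3 * cj (v 3)) * h2

theorem eq_add_of_add {x y z : F4} (h : x + y = z) : y = x + z := by
  rw [← h, ← add_assoc, add_self, zero_add]

theorem bf_mx (x : Raw) (h1 : x.a + cj x.a = x.p * cj x.p) (h2 : x.b + cj x.c = x.p * cj x.q)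
    (h3 : x.d + cj x.d = x.q * cj x.q) (u v : Fin 5 → F4) :
    bf (mx x *ᵥ u) (mx x *ᵥ v) = bf u v := by
  have e1 : cj x.a = x.a + x.p * cj x.p := eq_add_of_add h1
  have e2 : cj x.c = x.b + x.p * cj x.q := eq_add_of_add h2
  have e3 : cj x.b = x.c + cj x.p * x.q := by
    have h := congrArg cj e2
    rw [cj_cj, cj_add, cj_mul, cj_cj] at h
    rw [h, add_assoc, add_self, add_zero]
  have e4 : cj x.d = x.d + x.q * cj x.q := eq_add_of_add h3
  simp only [bf, Matrix.mulVec, dotProduct, Fin.sum_univ_five]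
  simp [mx, cj_add, cj_mul, cj_cj, e1, e2, e3, e4]
  have h2 : (2 : F4) = 0 := Raw.two_zero
  linear_combination (x.l * u 1 * cj (v 4) +
    x.p * u 2 * cj (v 4) +
    x.b * u 3 * cj (v 4) +
    x.a * u 4 * cj (v 4) +
    cj x.l * x.b * u 4 * cj (v 4) +
    cj x.l * u 4 * cj (v 1) +
    cj x.p * u 4 * cj (v 2) +
    x.c * u 4 * cj (v 3) +
    cj x.p * x.q * u 4 * cj (v 3) +
    cj x.p * x.p * u 4 * cj (v 4) +
    x.c * x.l * u 4 * cj (v 4) +
    cj x.p * x.l * x.q * u 4 * cj (v 4) +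
    x.q * u 2 * cj (v 3) +
    x.l * x.q * u 2 * cj (v 4) +
    x.d * u 3 * cj (v 3) +
    x.d * x.l * u 3 * cj (v 4) +
    cj x.l * x.d * u 4 * cj (v 3) +
    cj x.l * x.d * x.l * u 4 * cj (v 4) +
    cj x.q * u 3 * cj (v 2) +
    cj x.q * x.q * u 3 * cj (v 3) +
    cj x.q * x.p * u 3 * cj (v 4) +
    cj x.q * x.l * x.q * u 3 * cj (v 4) +
    cj x.l * cj x.q * u 4 * cj (v 2) +
    cj x.l * cj x.q * x.q * u 4 * cj (v 3) +
    cj x.l * cj x.q * x.p * u 4 * cj (v 4) +
    cj x.l * cj x.q * x.l * x.q * u 4 * cj (v 4)) * h2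

/-- The elements satisfying the Hermitian condition. -/
def Valid (x : Raw) : Prop :=
  x.a + cj x.a = x.p * cj x.p ∧ x.b + cj x.c = x.p * cj x.q ∧ x.d + cj x.d = x.q * cj x.q

theorem c_valid : allB (fun n => beqF (F4.add (dec n).a (cj (dec n).a))
    (F4.mul (dec n).p (cj (dec n).p)) && (beqF (F4.add (dec n).b (cj (dec n).c))
    (F4.mul (dec n).p (cj (dec n).q)) && beqF (F4.add (dec n).d (cj (dec n).d))
    (F4.mul (dec n).q (cj (dec n).q)))) 1024 = true := by decide +kernel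

theorem valid_dec (x : M0) : Valid (dec x.n) := by
  have h := (allB_iff _ _).1 c_valid x.n x.lt
  rw [Bool.and_eq_true, Bool.and_eq_true, beqF_iff, beqF_iff, beqF_iff] at h
  exact h

/-- The element of `SL_5(4)`. -/
def toSL (x : M0) : Matrix.SpecialLinearGroup (Fin 5) F4 := ⟨cmat * mx (dec x.n) * cinv, by
  rw [Matrix.det_mul, Matrix.det_mul, mx_det, mul_one, ← Matrix.det_mul, cmat_cinv,
    Matrix.det_one]⟩

/-- The homomorphism of `M0` into `SU_5(2)`. -/
def toSU : M0 →* Cfsg.SU 5 F4 2 where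
  toFun x := ⟨toSL x, by
    refine (mem_SU_iff _).2 ?_
    intro u v
    change hermForm 5 F4 2 ((cmat * mx (dec x.n) * cinv) *ᵥ u)
      ((cmat * mx (dec x.n) * cinv) *ᵥ v) = hermForm 5 F4 2 u v
    rw [Matrix.mul_assoc, ← Matrix.mulVec_mulVec, ← Matrix.mulVec_mulVec,
      ← Matrix.mulVec_mulVec, ← Matrix.mulVec_mulVec, herm_cmat,
      bf_mx _ (valid_dec x).1 (valid_dec x).2.1 (valid_dec x).2.2, ← herm_cmat,
      Matrix.mulVec_mulVec, Matrix.mulVec_mulVec, cmat_cinv, Matrix.one_mulVec, Matrix.one_mulVec]⟩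
  map_one' := by
    apply Subtype.ext
    apply Subtype.ext
    change cmat * mx (dec (1 : M0).n) * cinv = 1
    rw [M0.dec_one, mx_one, Matrix.mul_one, cmat_cinv]
  map_mul' x y := by
    apply Subtype.ext
    apply Subtype.ext
    change cmat * mx (dec (x * y).n) * cinv = (cmat * mx (dec x.n) * cinv) *
      (cmat * mx (dec y.n) * cinv)
    rw [M0.dec_mul, mx_mul]
    simp only [Matrix.mul_assoc]
    rw [← Matrix.mul_assoc cinv cmat, cinv_cmat, Matrix.one_mul]

theorem toSU_coe (x : M0) : (((toSU x : Cfsg.SU 5 F4 2) : Matrix.SpecialLinearGroup (Fin 5) F4) :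
    Matrix (Fin 5) (Fin 5) F4) = cmat * mx (dec x.n) * cinv := rfl

/-- The homomorphism of `M0` into `PSU_5(2)`. -/
def toPSU : M0 →* Cfsg.PSU 5 F4 2 := (QuotientGroup.mk' _).comp toSU

theorem toPSU_injective : Function.Injective toPSU := by
  rw [injective_iff_map_eq_one]
  intro x hx
  have h1 : toSU x ∈ Subgroup.center (Cfsg.SU 5 F4 2) := (QuotientGroup.eq_one_iff _).1 hx
  rw [mem_center_SU_iff (F := F4) (q := 2) (by rw [F4.card]; norm_num) (by norm_num)] at h1
  obtain ⟨c, h5, h3, h⟩ := h1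
  have h2 : cmat * mx (dec x.n) * cinv = Matrix.diagonal (fun _ => c) := by
    rw [← toSU_coe, h, coe_suScalar]
  have h4 : mx (dec x.n) = Matrix.diagonal (fun _ => c) := by
    calc mx (dec x.n) = cinv * (cmat * mx (dec x.n) * cinv) * cmat := by
          simp only [Matrix.mul_assoc]
          rw [cinv_cmat, Matrix.mul_one, ← Matrix.mul_assoc, cinv_cmat, Matrix.one_mul]
      _ = cinv * Matrix.diagonal (fun _ => c) * cmat := by rw [h2]
      _ = Matrix.diagonal (fun _ => c) := by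
          have : (Matrix.diagonal (fun _ => c) : Matrix (Fin 5) (Fin 5) F4) = c • 1 := by
            rw [Matrix.smul_one_eq_diagonal]
          rw [this, Matrix.mul_smul, Matrix.smul_mul, Matrix.mul_one, cinv_cmat]
  have hc : (1 : F4) = c := by
    have := congrFun (congrFun h4 0) 0
    simpa [mx] using this
  rw [← hc, Matrix.diagonal_one, ← mx_one] at h4
  exact M0.dec_injective ((mx_injective h4).trans M0.dec_one.symm)

end Cfsg.Agent.SylowU5.Model
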